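import Mathlib
import Cfsg.Agent.Transfer.ElemAbAut
import Cfsg.Agent.GTwoFour.Tools
import Cfsg.Agent.S1349

section


/-!
# Text #13963 (helper311), section 3: module facts, Mathlib level

`H` acts on an elementary abelian 2-group `M` (additive, `two : ∀ m, m + m = 0`).

* `br M g` = `[M,g]` = `{g • n - n}`, `fx M g` = `C_M(g)`;
* `eq_one_of_fix` (L0): `g` of odd order, trivial on `[M,g]`, is `1`;
* `exists_decomp`, `br_inf_fx`: `M = [M,x] ⊕ C_M(x)` for `x` of odd order;
* `inverted_*`: `x` of odd order inverted by the involution `a`: `[[M,x],a] = C_{[M,x]}(a)`, of order the square root of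
  `|[M,x]|`, and `[M,x] = C + x C` for `C = C_{[M,x]}(a)`;
* `nat_*` (3.3): natural elements (`|[M,n]| = 4`) of a normal `p`-group;
* `triv_on_br` (3.2), `faithful_on_F` (3.1).
-/

set_option autoImplicit false
set_option linter.unusedSectionVars false

open scoped Pointwise

namespace Cfsg.Agent.Omega.NO3S.Fit.Abs

section Basic

variable {H : Type*} (M : Type*) [Group H] [AddCommGroup M] [DistribMulAction H M]

/-- `[M,g]` -/
def br (g : H) : AddSubgroup M where
  carrier := {m | ∃ n : M, g • n - n = m}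
  zero_mem' := ⟨0, by simp⟩
  add_mem' := by
    rintro _ _ ⟨a, rfl⟩ ⟨b, rfl⟩
    exact ⟨a + b, by rw [smul_add]; abel⟩
  neg_mem' := by
    rintro _ ⟨a, rfl⟩
    exact ⟨-a, by rw [smul_neg]; abel⟩

/-- `C_M(g)` -/
def fx (g : H) : AddSubgroup M where
  carrier := {m | g • m = m}
  zero_mem' := smul_zero g
  add_mem' := by
    intro a b ha hb
    change g • (a + b) = a + b
    rw [smul_add, show g • a = a from ha, show g • b = b from hb]
  neg_mem' := by
    intro a ha
    change g • (-a) = -a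
    rw [smul_neg, show g • a = a from ha]

variable {M}

theorem mem_br {g : H} {m : M} : m ∈ br M g ↔ ∃ n : M, g • n - n = m := Iff.rfl

theorem mem_fx {g : H} {m : M} : m ∈ fx M g ↔ g • m = m := Iff.rfl

theorem sub_mem_br (g : H) (n : M) : g • n - n ∈ br M g := ⟨n, rfl⟩

theorem smul_mem_br_conj (g : H) {x : H} {m : M} (hm : m ∈ br M x) : g • m ∈ br M (g * x * g⁻¹) := by
  obtain ⟨n, rfl⟩ := hm
  refine ⟨g • n, ?_⟩
  rw [smul_sub, mul_smul, mul_smul, inv_smul_smul]

theorem smul_mem_fx_conj (g : H) {x : H} {m : M} (hm : m ∈ fx M x) : g • m ∈ fx M (g * x * g⁻¹) := by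
  rw [mem_fx] at hm ⊢
  rw [mul_smul, mul_smul, inv_smul_smul, hm]

theorem br_one : br M (1 : H) = ⊥ := by
  rw [eq_bot_iff]
  rintro _ ⟨n, rfl⟩
  simp

theorem br_mul_le (g h : H) : br M (g * h) ≤ br M g ⊔ br M h := by
  rintro _ ⟨n, rfl⟩
  have : (g * h) • n - n = (g • (h • n) - h • n) + (h • n - n) := by rw [mul_smul]; abel
  rw [this]
  exact AddSubgroup.add_mem_sup (sub_mem_br _ _) (sub_mem_br _ _)

theorem br_inv_le (g : H) : br M g⁻¹ ≤ br M g := by
  rintro _ ⟨n, rfl⟩
  refine ⟨-(g⁻¹ • n), ?_⟩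
  rw [smul_neg, smul_inv_smul]
  abel

theorem br_inv (g : H) : br M g⁻¹ = br M g :=
  le_antisymm (br_inv_le g) (by simpa using br_inv_le (M := M) g⁻¹)

theorem fx_inv (g : H) : fx M g⁻¹ = fx M g := by
  ext m
  rw [mem_fx, mem_fx, inv_smul_eq_iff, eq_comm]

/-- the elements `g` with `[M,g] ≤ N` -/
def into (N : AddSubgroup M) : Subgroup H where
  carrier := {g | br M g ≤ N}
  one_mem' := by
    change br M (1 : H) ≤ N
    rw [br_one]
    exact bot_le
  mul_mem' := fun {a b} ha hb => (br_mul_le a b).trans (sup_le ha hb)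
  inv_mem' := fun {a} ha => (br_inv_le a).trans ha

theorem mem_into {N : AddSubgroup M} {g : H} : g ∈ into N ↔ br M g ≤ N := Iff.rfl

theorem br_pow_le (g : H) (i : ℕ) : br M (g ^ i) ≤ br M g :=
  (into (br M g)).pow_mem (mem_into.mpr le_rfl) i

theorem br_zpow_le (g : H) (i : ℤ) : br M (g ^ i) ≤ br M g :=
  (into (br M g)).zpow_mem (mem_into.mpr le_rfl) i

theorem smul_mem_of_into {N : AddSubgroup M} {g : H} (hg : br M g ≤ N) {m : M} (hm : m ∈ N) :
    g • m ∈ N := by
  have := N.add_mem (hg (sub_mem_br g m)) hm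
  simpa using this

theorem smul_mem_br_self {g : H} {m : M} (hm : m ∈ br M g) : g • m ∈ br M g :=
  smul_mem_of_into le_rfl hm

theorem smul_mem_br_of_comm {g x : H} (h : g * x = x * g) {m : M} (hm : m ∈ br M x) :
    g • m ∈ br M x := by
  have := smul_mem_br_conj g hm
  rwa [h, mul_inv_cancel_right] at this

theorem smul_mem_br_of_inv {g x : H} (h : g * x * g⁻¹ = x⁻¹) {m : M} (hm : m ∈ br M x) :
    g • m ∈ br M x := by
  have := smul_mem_br_conj g hm
  rwa [h, br_inv] at this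

theorem smul_mem_fx_of_comm {g x : H} (h : g * x = x * g) {m : M} (hm : m ∈ fx M x) :
    g • m ∈ fx M x := by
  have := smul_mem_fx_conj g hm
  rwa [h, mul_inv_cancel_right] at this

theorem smul_mem_fx_of_inv {g x : H} (h : g * x * g⁻¹ = x⁻¹) {m : M} (hm : m ∈ fx M x) :
    g • m ∈ fx M x := by
  have := smul_mem_fx_conj g hm
  rwa [h, fx_inv] at this

theorem smul_br (g x : H) : g • br M x = br M (g * x * g⁻¹) := by
  ext m
  rw [AddSubgroup.mem_smul_pointwise_iff_exists]
  constructor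
  · rintro ⟨n, hn, rfl⟩
    exact smul_mem_br_conj g hn
  · intro hm
    refine ⟨g⁻¹ • m, ?_, smul_inv_smul _ _⟩
    have := smul_mem_br_conj g⁻¹ hm
    have e : g⁻¹ * (g * x * g⁻¹) * g⁻¹⁻¹ = x := by group
    rwa [e] at this

theorem card_smul (g : H) (N : AddSubgroup M) : Nat.card (g • N : AddSubgroup M) = Nat.card N :=
  Nat.card_congr
    { toFun := fun m => ⟨g⁻¹ • (m : M), by
        have := m.2
        rw [AddSubgroup.mem_pointwise_smul_iff_inv_smul_mem] at this
        exact this⟩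
      invFun := fun n => ⟨g • (n : M), AddSubgroup.smul_mem_pointwise_smul _ _ _ n.2⟩
      left_inv := fun m => by simp
      right_inv := fun n => by simp }

theorem card_br_conj (g x : H) : Nat.card (br M (g * x * g⁻¹)) = Nat.card (br M x) := by
  rw [← smul_br, card_smul]

/-- an element of `M` killed by an odd number and by 2 is 0 -/
theorem eq_zero_of_odd_nsmul (two : ∀ m : M, m + m = 0) {k : ℕ} (hk : Odd k) {m : M}
    (h : k • m = 0) : m = 0 := by
  obtain ⟨j, rfl⟩ := hk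
  rw [add_smul, mul_comm, mul_smul, two_nsmul, two, smul_zero, zero_add, one_smul] at h
  exact h

theorem odd_nsmul (two : ∀ m : M, m + m = 0) {k : ℕ} (hk : Odd k) (m : M) : k • m = m := by
  obtain ⟨j, rfl⟩ := hk
  rw [add_smul, mul_comm, mul_smul, two_nsmul, two, smul_zero, zero_add, one_smul]

theorem neg_eq (two : ∀ m : M, m + m = 0) (m : M) : -m = m := neg_eq_of_add_eq_zero_left (two m)

theorem sub_eq (two : ∀ m : M, m + m = 0) (m n : M) : m - n = m + n := by
  rw [sub_eq_add_neg, neg_eq two]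

theorem pow_smul_eq {x : H} {n m : M} (h : x • n - n = m) (hx : x • m = m) (j : ℕ) :
    x ^ j • n = n + j • m := by
  induction j with
  | zero => simp
  | succ j ih =>
    have h1 : x • n = n + m := by rw [← h]; abel
    have h2 : x • (j • m) = j • m := by
      rw [← smul_comm j x m, hx]
    rw [pow_succ', mul_smul, ih, smul_add, h1, h2, succ_nsmul]
    abel

/-- `[M,x] ∩ C_M(x) = 0` -/
theorem br_inf_fx (two : ∀ m : M, m + m = 0) {x : H} (hx : Odd (orderOf x)) {m : M}
    (hm : m ∈ br M x) (hf : x • m = m) : m = 0 := by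
  obtain ⟨n, hn⟩ := hm
  have h1 := pow_smul_eq hn hf (orderOf x)
  rw [pow_orderOf_eq_one, one_smul, left_eq_add] at h1
  exact eq_zero_of_odd_nsmul two hx h1

theorem disjoint_br_fx (two : ∀ m : M, m + m = 0) {x : H} (hx : Odd (orderOf x)) :
    Disjoint (br M x) (fx M x) := by
  rw [disjoint_iff, eq_bot_iff]
  rintro m ⟨h1, h2⟩
  exact br_inf_fx two hx h1 h2

/-- `M = [M,x] + C_M(x)` -/
theorem exists_decomp (two : ∀ m : M, m + m = 0) {x : H} (hx : Odd (orderOf x)) (m : M) :
    ∃ d ∈ br M x, ∃ c ∈ fx M x, d + c = m := by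
  set k := orderOf x with hk
  let c : M := ∑ i ∈ Finset.range k, x ^ i • m
  have hc : x • c = c := by
    have h1 : x • c = ∑ i ∈ Finset.range k, x ^ (i + 1) • m := by
      change x • (∑ i ∈ Finset.range k, x ^ i • m) = _
      rw [Finset.smul_sum]
      refine Finset.sum_congr rfl fun i _ => ?_
      rw [pow_succ', mul_smul]
    have h2 := Finset.sum_range_succ (fun i => x ^ i • m) k
    have h3 := Finset.sum_range_succ' (fun i => x ^ i • m) k
    rw [h2] at h3
    rw [h1]
    have h4 : x ^ k • m = x ^ 0 • m := by rw [hk, pow_orderOf_eq_one, pow_zero]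
    rw [h4] at h3
    exact (add_right_cancel h3).symm
  have hd : m - c ∈ br M x := by
    have h1 : c = ∑ i ∈ Finset.range k, (x ^ i • m - m) + m := by
      rw [Finset.sum_sub_distrib]
      simp only [Finset.sum_const, Finset.card_range]
      rw [odd_nsmul two hx]
      abel
    have h2 : ∑ i ∈ Finset.range k, (x ^ i • m - m) ∈ br M x :=
      AddSubgroup.sum_mem _ fun i _ => br_pow_le x i (sub_mem_br _ _)
    have h3 : m - c = -∑ i ∈ Finset.range k, (x ^ i • m - m) := by rw [h1]; abel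
    rw [h3]
    exact neg_mem h2
  exact ⟨m - c, hd, c, hc, by abel⟩

theorem sup_br_fx (two : ∀ m : M, m + m = 0) {x : H} (hx : Odd (orderOf x)) :
    br M x ⊔ fx M x = ⊤ := by
  rw [eq_top_iff]
  intro m _
  obtain ⟨d, hd, c, hc, rfl⟩ := exists_decomp two hx m
  exact AddSubgroup.add_mem_sup hd hc

/-- (L0) -/
theorem eq_one_of_fix [FaithfulSMul H M] (two : ∀ m : M, m + m = 0) {g : H}
    (hg : Odd (orderOf g)) (h : ∀ m ∈ br M g, g • m = m) : g = 1 := by
  refine FaithfulSMul.eq_of_smul_eq_smul (α := M) fun m => ?_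
  have h1 := br_inf_fx two hg (sub_mem_br g m) (h _ (sub_mem_br g m))
  rw [one_smul]
  exact sub_eq_zero.mp h1

theorem ne_zero_of_br [FaithfulSMul H M] {g : H} (hg : g ≠ 1) : br M g ≠ ⊥ := by
  intro h
  apply hg
  refine FaithfulSMul.eq_of_smul_eq_smul (α := M) fun m => ?_
  rw [one_smul]
  have : g • m - m ∈ (⊥ : AddSubgroup M) := h ▸ sub_mem_br g m
  exact sub_eq_zero.mp (by simpa using this)

theorem fix_of_pow {x : H} {m : M} {i : ℕ} (hx : Nat.Coprime i (orderOf x))
    (h : x ^ i • m = m) : x • m = m := by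
  have h1 : x ^ i ∈ MulAction.stabilizer H m := h
  have h2 : x ∈ MulAction.stabilizer H m := by
    have : x ∈ Subgroup.zpowers (x ^ i) := by
      obtain ⟨j, hj⟩ := exists_pow_eq_self_of_coprime hx
      exact Subgroup.mem_zpowers_iff.mpr ⟨j, by rw [zpow_natCast]; exact hj⟩
    exact (Subgroup.zpowers_le.mpr h1) this
  exact h2

theorem fix_of_sq {x : H} (hx : Odd (orderOf x)) {m : M} (h : x • x • m = m) : x • m = m := by
  refine fix_of_pow (i := 2) ?_ (by rw [pow_two, mul_smul]; exact h)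
  exact Nat.coprime_two_left.mpr hx

end Basic

/-! ### Elements inverted by an involution -/

section Inverted

variable {H M : Type*} [Group H] [AddCommGroup M] [DistribMulAction H M]

/-- `C_{[M,x]}(a)` -/
def cx (M : Type*) [AddCommGroup M] [DistribMulAction H M] (a x : H) : AddSubgroup M :=
  br M x ⊓ fx M a

theorem mem_cx {a x : H} {m : M} : m ∈ cx M a x ↔ m ∈ br M x ∧ a • m = m := Iff.rfl

theorem conj_eq_of_inv {a x : H} (hi : a * x * a⁻¹ = x⁻¹) : a * x = x⁻¹ * a := by
  rw [← hi]; group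

theorem inv_smul_of_inv {a x : H} (hi : a * x * a⁻¹ = x⁻¹) {m : M} (hm : a • m = m) :
    a • x • m = x⁻¹ • m := by
  rw [← mul_smul, conj_eq_of_inv hi, mul_smul, hm]

theorem inv_smul_of_inv' {a x : H} (hi : a * x * a⁻¹ = x⁻¹) (m : M) :
    a • x • m = x⁻¹ • a • m := by
  rw [← mul_smul, conj_eq_of_inv hi, mul_smul]

theorem inv_symm {a x : H} (hi : a * x * a⁻¹ = x⁻¹) : a * x⁻¹ * a⁻¹ = x := by
  have := congrArg (·⁻¹) hi
  simpa [mul_assoc] using this

theorem sub_mem_cx {a x : H} (two : ∀ m : M, m + m = 0) (ha : a * a = 1)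
    (hi : a * x * a⁻¹ = x⁻¹) {m : M} (hm : m ∈ br M x) : a • m - m ∈ cx M a x := by
  rw [mem_cx]
  refine ⟨AddSubgroup.sub_mem _ (smul_mem_br_of_inv hi hm) hm, ?_⟩
  rw [smul_sub, ← mul_smul, ha, one_smul, sub_eq two, sub_eq two, add_comm]

/-- `u + x w` determines `u, w ∈ C_{[M,x]}(a)` -/
theorem cx_indep {a x : H} (two : ∀ m : M, m + m = 0) (hx : Odd (orderOf x))
    (hi : a * x * a⁻¹ = x⁻¹) {u w : M} (hu : u ∈ cx M a x) (hw : w ∈ cx M a x)
    (h : u + x • w = 0) : u = 0 ∧ w = 0 := by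
  have h1 : u = x • w := by
    have := eq_neg_of_add_eq_zero_left h
    rwa [neg_eq two] at this
  have h2 : a • u = x⁻¹ • w := by rw [h1]; exact inv_smul_of_inv hi hw.2
  have h3 : x • x • w = w := by
    rw [← h1]
    have h4 : a • u = u := hu.2
    rw [h4] at h2
    rw [h2, smul_inv_smul]
  have h4 : w = 0 := br_inf_fx two hx hw.1 (fix_of_sq hx h3)
  exact ⟨by rw [h1, h4, smul_zero], h4⟩

theorem card_cx_sq_le [Finite M] {a x : H} (two : ∀ m : M, m + m = 0) (hx : Odd (orderOf x))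
    (hi : a * x * a⁻¹ = x⁻¹) : Nat.card (cx M a x) * Nat.card (cx M a x) ≤ Nat.card (br M x) := by
  rw [← Nat.card_prod]
  refine Nat.card_le_card_of_injective
    (fun p : cx M a x × cx M a x => (⟨p.1 + x • p.2, add_mem p.1.2.1 (smul_mem_br_self p.2.2.1)⟩ : br M x))
    ?_
  rintro ⟨⟨u, hu⟩, ⟨w, hw⟩⟩ ⟨⟨u', hu'⟩, ⟨w', hw'⟩⟩ h
  have h1 : u + x • w = u' + x • w' := congrArg Subtype.val h
  have h2 : (u - u') + x • (w - w') = 0 := by
    rw [smul_sub]
    have : u - u' + (x • w - x • w') = (u + x • w) - (u' + x • w') := by abel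
    rw [this, h1, sub_self]
  obtain ⟨h3, h4⟩ := cx_indep two hx hi (sub_mem hu hu') (sub_mem hw hw') h2
  rw [sub_eq_zero] at h3 h4
  subst h3
  subst h4
  rfl

/-- `m ↦ a m - m` on `[M,x]` -/
def subHom {a x : H} (two : ∀ m : M, m + m = 0) (ha : a * a = 1) (hi : a * x * a⁻¹ = x⁻¹) :
    br M x →+ cx M a x where
  toFun m := ⟨a • (m : M) - m, sub_mem_cx two ha hi m.2⟩
  map_zero' := by ext; simp
  map_add' m n := by ext; simp; abel

theorem card_br_eq [Finite M] {a x : H} (two : ∀ m : M, m + m = 0) (ha : a * a = 1)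
    (hx : Odd (orderOf x)) (hi : a * x * a⁻¹ = x⁻¹) :
    Nat.card (br M x) = Nat.card (cx M a x) * Nat.card (cx M a x) ∧
      Function.Surjective (subHom (x := x) two ha hi) := by
  set f := subHom (x := x) two ha hi with hf
  have h1 : Nat.card f.ker * Nat.card f.range = Nat.card (br M x) := by
    rw [← AddSubgroup.index_ker, AddSubgroup.card_mul_index]
  have h2 : Nat.card f.ker = Nat.card (cx M a x) := by
    refine Nat.card_congr
      { toFun := fun m => ⟨(m : br M x), ?_⟩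
        invFun := fun m => ⟨⟨m, m.2.1⟩, ?_⟩
        left_inv := fun m => rfl
        right_inv := fun m => rfl }
    · rw [mem_cx]
      refine ⟨(m : br M x).2, ?_⟩
      have h3 : f (m : br M x) = 0 := m.2
      have h4 : a • ((m : br M x) : M) - ((m : br M x) : M) = 0 := congrArg Subtype.val h3
      exact sub_eq_zero.mp h4
    · rw [AddMonoidHom.mem_ker]
      ext
      have h3 : a • (m : M) = m := m.2.2
      change a • (m : M) - (m : M) = 0
      rw [h3, sub_self]
  have h3 : Nat.card f.range ≤ Nat.card (cx M a x) :=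
    Nat.card_le_card_of_injective _ (Subtype.val_injective)
  have h4 := card_cx_sq_le (M := M) two hx hi
  have h5 : 0 < Nat.card (cx M a x) := Nat.card_pos
  rw [← h1, h2] at h4
  have h6 : Nat.card (cx M a x) ≤ Nat.card f.range := Nat.le_of_mul_le_mul_left h4 h5
  have h7 : Nat.card f.range = Nat.card (cx M a x) := le_antisymm h3 h6
  refine ⟨by rw [← h1, h2, h7], ?_⟩
  rw [← AddMonoidHom.range_eq_top]
  exact AddSubgroup.eq_top_of_card_eq _ h7

/-- `C_{[M,x]}(a) ≤ [M,a]` -/
theorem cx_le_br [Finite M] {a x : H} (two : ∀ m : M, m + m = 0) (ha : a * a = 1)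
    (hx : Odd (orderOf x)) (hi : a * x * a⁻¹ = x⁻¹) {m : M} (hm : m ∈ cx M a x) :
    ∃ d ∈ br M x, a • d - d = m := by
  obtain ⟨d, hd⟩ := (card_br_eq two ha hx hi).2 ⟨m, hm⟩
  exact ⟨d, d.2, congrArg Subtype.val hd⟩

/-- `[M,x] = C + x C`, `C = C_{[M,x]}(a)` -/
theorem exists_cx_add [Finite M] {a x : H} (two : ∀ m : M, m + m = 0) (ha : a * a = 1)
    (hx : Odd (orderOf x)) (hi : a * x * a⁻¹ = x⁻¹) {m : M} (hm : m ∈ br M x) :
    ∃ u ∈ cx M a x, ∃ w ∈ cx M a x, u + x • w = m := by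
  have h1 := (card_br_eq (M := M) two ha hx hi).1
  let f : cx M a x × cx M a x → br M x := fun p =>
    ⟨p.1 + x • p.2, add_mem p.1.2.1 (smul_mem_br_self p.2.2.1)⟩
  have hinj : Function.Injective f := by
    rintro ⟨⟨u, hu⟩, ⟨w, hw⟩⟩ ⟨⟨u', hu'⟩, ⟨w', hw'⟩⟩ h
    have h1 : u + x • w = u' + x • w' := congrArg Subtype.val h
    have h2 : (u - u') + x • (w - w') = 0 := by
      rw [smul_sub]
      have : u - u' + (x • w - x • w') = (u + x • w) - (u' + x • w') := by abel
      rw [this, h1, sub_self]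
    obtain ⟨h3, h4⟩ := cx_indep two hx hi (sub_mem hu hu') (sub_mem hw hw') h2
    rw [sub_eq_zero] at h3 h4
    subst h3
    subst h4
    rfl
  have hbij : Function.Bijective f :=
    (Nat.bijective_iff_injective_and_card f).mpr ⟨hinj, by rw [Nat.card_prod, h1]⟩
  obtain ⟨⟨u, w⟩, hp⟩ := hbij.2 ⟨m, hm⟩
  exact ⟨u, u.2, w, w.2, congrArg Subtype.val hp⟩

end Inverted

/-! ### Subgroups of order 4 -/

section Four

variable {M : Type*} [AddCommGroup M]

theorem mem_four {B : AddSubgroup M} (hB : Nat.card B = 4) (two : ∀ m : M, m + m = 0) {u v : M}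
    (hu : u ∈ B) (hv : v ∈ B) (hu0 : u ≠ 0) (hv0 : v ≠ 0) (huv : u ≠ v) {w : M} (hw : w ∈ B) :
    w = 0 ∨ w = u ∨ w = v ∨ w = u + v := by
  classical
  have hfin : (B : Set M).Finite := by
    have : Finite B := Nat.finite_of_card_ne_zero (by rw [hB]; decide)
    exact Set.toFinite _
  have h1 : (({0, u, v, u + v} : Finset M) : Set M) ⊆ (B : Set M) := by
    intro y hy
    simp only [Finset.coe_insert, Finset.coe_singleton, Set.mem_insert_iff,
      Set.mem_singleton_iff] at hy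
    rcases hy with rfl | rfl | rfl | rfl
    · exact zero_mem _
    · exact hu
    · exact hv
    · exact add_mem hu hv
  have h2 : ({0, u, v, u + v} : Finset M).card = 4 := by
    have e1 : u + v ≠ 0 := by
      intro h
      apply huv
      have := eq_neg_of_add_eq_zero_left h
      rwa [neg_eq_of_add_eq_zero_left (two v)] at this
    have e2 : u ≠ u + v := by simpa using hv0
    have e3 : v ≠ u + v := by simpa using hu0
    rw [Finset.card_insert_of_notMem, Finset.card_insert_of_notMem,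
      Finset.card_insert_of_notMem, Finset.card_singleton]
    · simpa using e3
    · simp [huv, hv0]
    · simp [hu0.symm, hv0.symm, e1.symm]
  have h3 : (({0, u, v, u + v} : Finset M) : Set M) = (B : Set M) := by
    refine Set.eq_of_subset_of_ncard_le h1 ?_ hfin
    rw [Set.ncard_coe_finset, h2, ← hB]
    exact le_of_eq (Nat.card_coe_set_eq (B : Set M)).symm
  have h4 : w ∈ (({0, u, v, u + v} : Finset M) : Set M) := by rw [h3]; exact hw
  simpa using h4

theorem exists_ne_zero_of_card {B : AddSubgroup M} (hB : 1 < Nat.card B) :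
    ∃ u ∈ B, u ≠ 0 := by
  by_contra hcon
  push Not at hcon
  have : B = ⊥ := by
    rw [eq_bot_iff]
    intro u hu
    simpa using hcon u hu
  rw [this] at hB
  simp at hB

theorem exists_ne_ne_of_card {B : AddSubgroup M} (hB : Nat.card B = 4) {u : M} :
    ∃ v ∈ B, v ≠ 0 ∧ v ≠ u := by
  classical
  by_contra hcon
  push Not at hcon
  have h1 : (B : Set M) ⊆ (({0, u} : Finset M) : Set M) := by
    intro y hy
    by_cases h : y = 0
    · simp [h]
    · simp [hcon y hy h]
  have h2 := Set.ncard_le_ncard h1 (Finset.finite_toSet _)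
  rw [Set.ncard_coe_finset] at h2
  have h3 : Set.ncard (B : Set M) = 4 := by rw [← hB]; exact (Nat.card_coe_set_eq _).symm
  have h4 : ({0, u} : Finset M).card ≤ 2 := Finset.card_le_two
  omega

theorem exists_card_two_pow [Finite M] (two : ∀ m : M, m + m = 0) (N : AddSubgroup M) :
    ∃ k, Nat.card N = 2 ^ k := by
  let _ : Module (ZMod 2) N := AddCommGroup.zmodModule (n := 2) fun x => by
    rw [two_nsmul]
    exact Subtype.ext (two x)
  have h := Module.natCard_eq_pow_finrank (K := ZMod 2) (V := N)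
  rw [Nat.card_zmod] at h
  exact ⟨_, h⟩

theorem card_addAut_two [Finite M] (two : ∀ m : M, m + m = 0) {N : AddSubgroup M} {k : ℕ}
    (hk : Nat.card N = 2 ^ k) : Nat.card (AddAut N) = ∏ i : Fin k, (2 ^ k - 2 ^ (i : ℕ)) := by
  let _ : Module (ZMod 2) N := AddCommGroup.zmodModule (n := 2) fun x => by
    rw [two_nsmul]
    exact Subtype.ext (two x)
  exact Transfer.ElemAbAut.card_addAut 2 k hk

theorem card_addAut_dvd [Finite M] (two : ∀ m : M, m + m = 0) {N : AddSubgroup M}
    (hN : Nat.card N ≤ 16) : Nat.card (AddAut N) ∣ 20160 := by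
  obtain ⟨k, hk⟩ := exists_card_two_pow two N
  have hk4 : k ≤ 4 := by
    rw [hk] at hN
    by_contra hcon
    push Not at hcon
    have : 2 ^ 5 ≤ 2 ^ k := Nat.pow_le_pow_right (by decide) hcon
    omega
  rw [card_addAut_two two hk]
  interval_cases k <;> decide

theorem card_sup_le [Finite M] (A B : AddSubgroup M) :
    Nat.card (A ⊔ B : AddSubgroup M) ≤ Nat.card A * Nat.card B := by
  rw [← Nat.card_prod]
  refine Nat.card_le_card_of_surjective
    (fun p : A × B => (⟨p.1 + p.2, AddSubgroup.add_mem_sup p.1.2 p.2.2⟩ : (A ⊔ B : AddSubgroup M)))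
    ?_
  rintro ⟨m, hm⟩
  obtain ⟨a, ha, b, hb, rfl⟩ := AddSubgroup.mem_sup.mp hm
  exact ⟨(⟨a, ha⟩, ⟨b, hb⟩), rfl⟩

end Four

/-! ### Groups acting faithfully on `N ≥ [M,K]` -/

section Into

variable {H M : Type*} [Group H] [AddCommGroup M] [DistribMulAction H M]

/-- an element `g` with `[M,g] ≤ N` acts on `N` -/
def intoAut (N : AddSubgroup M) (g : (into N : Subgroup H)) : AddAut N where
  toFun := fun m => ⟨(g : H) • (m : M), smul_mem_of_into g.2 m.2⟩
  invFun := fun m => ⟨(g : H)⁻¹ • (m : M), smul_mem_of_into (inv_mem g.2) m.2⟩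
  left_inv := fun m => by ext; simp
  right_inv := fun m => by ext; simp
  map_add' := fun m n => by ext; simp

/-- the action of `{g | [M,g] ≤ N}` on `N` -/
def intoHom (N : AddSubgroup M) : (into N : Subgroup H) →* Multiplicative (AddAut N) where
  toFun g := Multiplicative.ofAdd (intoAut N g)
  map_one' := by
    apply congrArg Multiplicative.ofAdd
    ext m
    change ((1 : H) • (m : M)) = m
    rw [one_smul]
  map_mul' g h := by
    apply congrArg Multiplicative.ofAdd
    ext m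
    change (((g : H) * (h : H)) • (m : M)) = (g : H) • ((h : H) • (m : M))
    rw [mul_smul]

/-- a group of odd order acting trivially on `M / N` is faithful on `N` -/
theorem card_dvd_addAut [FaithfulSMul H M] (two : ∀ m : M, m + m = 0) {N : AddSubgroup M}
    {K : Subgroup H} (hK : ∀ k ∈ K, br M k ≤ N) (hodd : ∀ k ∈ K, Odd (orderOf k)) :
    Nat.card K ∣ Nat.card (AddAut N) := by
  let f : K →* Multiplicative (AddAut N) :=
    (intoHom N).comp (Subgroup.inclusion (fun k hk => hK k hk))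
  have hf : Function.Injective f := by
    rw [injective_iff_map_eq_one]
    intro k hk
    have h1 : ∀ m ∈ N, (k : H) • m = m := by
      intro m hm
      have h0 : Multiplicative.toAdd (f k) = Multiplicative.toAdd 1 := by rw [hk]
      have h2 : Multiplicative.toAdd (f k) ⟨m, hm⟩ =
        (Multiplicative.toAdd (1 : Multiplicative (AddAut N))) ⟨m, hm⟩ := by rw [h0]
      exact congrArg Subtype.val h2
    have h3 : (k : H) = 1 := eq_one_of_fix two (hodd k k.2) fun m hm => h1 m (hK k k.2 hm)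
    exact Subtype.ext h3
  have h4 : Nat.card K ∣ Nat.card (Multiplicative (AddAut N)) :=
    Subgroup.card_dvd_of_injective f hf
  exact h4

theorem odd_orderOf_of_isPGroup [Finite H] {p : ℕ} (hp : p.Prime) (hp2 : p ≠ 2) {F : Subgroup H}
    (hF : IsPGroup p F) {x : H} (hx : x ∈ F) : Odd (orderOf x) := by
  have : Fact p.Prime := ⟨hp⟩
  obtain ⟨k, hk⟩ := IsPGroup.iff_orderOf.mp hF ⟨x, hx⟩
  rw [Subgroup.orderOf_mk] at hk
  rw [hk]
  exact (hp.odd_of_ne_two hp2).pow

end Into

/-! ### (3.3) natural elements -/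

section Natural

variable {H M : Type*} [Group H] [AddCommGroup M] [DistribMulAction H M]

theorem nat_sq (two : ∀ m : M, m + m = 0) {x : H} (hx : Odd (orderOf x))
    (hn : Nat.card (br M x) = 4) {u : M} (hu : u ∈ br M x) : x • x • u = u + x • u := by
  by_cases hu0 : u = 0
  · simp [hu0]
  have h1 : x • u ≠ u := fun h => hu0 (br_inf_fx two hx hu h)
  have h2 : x • u ≠ 0 := fun h => hu0 ((smul_eq_zero_iff_eq x).mp h)
  rcases mem_four hn two hu (smul_mem_br_self hu) hu0 h2 h1.symm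
    (smul_mem_br_self (smul_mem_br_self hu)) with h | h | h | h
  · exact absurd ((smul_eq_zero_iff_eq x).mp h) h2
  · exact absurd (fix_of_sq hx h) h1
  · exact absurd (smul_left_cancel x h) h1
  · exact h

theorem nat_sum (two : ∀ m : M, m + m = 0) {x : H} (hx : Odd (orderOf x))
    (hn : Nat.card (br M x) = 4) {u : M} (hu : u ∈ br M x) : u + x • u + x ^ 2 • u = 0 := by
  rw [pow_two, mul_smul, nat_sq two hx hn hu, two]

theorem nat_cube [FaithfulSMul H M] (two : ∀ m : M, m + m = 0) {x : H} (hx : Odd (orderOf x))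
    (hn : Nat.card (br M x) = 4) : x ^ 3 = 1 := by
  refine eq_one_of_fix two (Odd.of_dvd_nat hx (orderOf_pow_dvd 3)) fun m hm => ?_
  have hm' := br_pow_le x 3 hm
  rw [pow_succ', pow_two, mul_smul, mul_smul, nat_sq two hx hn hm', smul_add,
    nat_sq two hx hn hm', add_comm (x • m), add_assoc, two, add_zero]

theorem nat_ne_one {x : H} (hn : Nat.card (br M x) = 4) : x ≠ 1 := by
  rintro rfl
  rw [br_one] at hn
  simp at hn

theorem nat_orderOf [FaithfulSMul H M] (two : ∀ m : M, m + m = 0) {x : H} (hx : Odd (orderOf x))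
    (hn : Nat.card (br M x) = 4) : orderOf x = 3 :=
  orderOf_eq_prime (nat_cube two hx hn) (nat_ne_one hn)

/-- the four elements of a natural block -/
theorem nat_cases (two : ∀ m : M, m + m = 0) {x : H} (hx : Odd (orderOf x))
    (hn : Nat.card (br M x) = 4) {u : M} (hu : u ∈ br M x) (hu0 : u ≠ 0) {w : M}
    (hw : w ∈ br M x) : w = 0 ∨ w = u ∨ w = x • u ∨ w = x ^ 2 • u := by
  have h1 : x • u ≠ u := fun h => hu0 (br_inf_fx two hx hu h)
  have h2 : x • u ≠ 0 := fun h => hu0 ((smul_eq_zero_iff_eq x).mp h)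
  rcases mem_four hn two hu (smul_mem_br_self hu) hu0 h2 h1.symm hw with h | h | h | h
  · exact Or.inl h
  · exact Or.inr (Or.inl h)
  · exact Or.inr (Or.inr (Or.inl h))
  · right; right; right
    rw [h, pow_two, mul_smul, nat_sq two hx hn hu]

variable [Finite H] [Finite M] [FaithfulSMul H M]

theorem nat_comm (two : ∀ m : M, m + m = 0) {p : ℕ} (hp : p.Prime) (hp2 : p ≠ 2)
    {F : Subgroup H} (hF : IsPGroup p F) {x y : H} (hx : x ∈ F) (hy : y ∈ F)
    (hnx : Nat.card (br M x) = 4) (hny : Nat.card (br M y) = 4) : x * y = y * x := by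
  have hox := odd_orderOf_of_isPGroup hp hp2 hF hx
  have hoy := odd_orderOf_of_isPGroup hp hp2 hF hy
  have : Fact p.Prime := ⟨hp⟩
  have hp3 : p = 3 := by
    obtain ⟨k, hk⟩ := IsPGroup.iff_orderOf.mp hF ⟨x, hx⟩
    rw [Subgroup.orderOf_mk, nat_orderOf two hox hnx] at hk
    have h1 : p ∣ 3 := by
      rcases Nat.eq_zero_or_pos k with rfl | hk0
      · simp at hk
      · rw [hk]; exact dvd_pow_self p hk0.ne'
    exact (Nat.prime_dvd_prime_iff_eq hp Nat.prime_three).mp h1
  subst hp3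
  set K : Subgroup H := Subgroup.closure {x, y} with hK
  have hKF : K ≤ F := by
    rw [hK, Subgroup.closure_le]
    rintro z (rfl | rfl)
    · exact hx
    · exact hy
  set N : AddSubgroup M := br M x ⊔ br M y with hN
  have hKN : K ≤ into N := by
    rw [hK, Subgroup.closure_le]
    rintro z (rfl | rfl)
    · exact mem_into.mpr le_sup_left
    · exact mem_into.mpr le_sup_right
  have hN16 : Nat.card N ≤ 16 := by
    have := card_sup_le (br M x) (br M y)
    rwa [hnx, hny] at this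
  have hdvd : Nat.card K ∣ 20160 :=
    (card_dvd_addAut two (fun k hk => hKN hk)
      (fun k hk => odd_orderOf_of_isPGroup hp hp2 hF (hKF hk))).trans (card_addAut_dvd two hN16)
  have hKp : IsPGroup 3 K := hF.to_le hKF
  obtain ⟨k, hk⟩ := IsPGroup.iff_card.mp hKp
  have hk2 : k ≤ 2 := by
    by_contra hcon
    push Not at hcon
    have h27 : 27 ∣ 20160 := by
      refine dvd_trans ?_ hdvd
      rw [hk]
      exact pow_dvd_pow 3 hcon
    revert h27
    decide
  have hcomm : ∀ g h : K, g * h = h * g := by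
    interval_cases k
    · have : Subsingleton K := (Nat.card_eq_one_iff_unique.mp (by simpa using hk)).1
      intro g h
      exact Subsingleton.elim _ _
    · have : IsCyclic K := isCyclic_of_prime_card (p := 3) (by simpa using hk)
      intro g h
      exact (IsCyclic.commGroup (α := K)).mul_comm g h
    · intro g h
      exact (IsPGroup.commGroupOfCardEqPrimeSq (p := 3) hk).mul_comm g h
  have hxK : x ∈ K := Subgroup.subset_closure (by simp)
  have hyK : y ∈ K := Subgroup.subset_closure (by simp)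
  exact congrArg Subtype.val (hcomm ⟨x, hxK⟩ ⟨y, hyK⟩)

/-- (3.3) two natural elements with meeting blocks generate the same group -/
theorem nat_same (two : ∀ m : M, m + m = 0) {p : ℕ} (hp : p.Prime) (hp2 : p ≠ 2)
    {F : Subgroup H} (hF : IsPGroup p F) {x y : H} (hx : x ∈ F) (hy : y ∈ F)
    (hnx : Nat.card (br M x) = 4) (hny : Nat.card (br M y) = 4) {u : M} (hux : u ∈ br M x)
    (huy : u ∈ br M y) (hu0 : u ≠ 0) : br M x = br M y ∧ (y = x ∨ y = x⁻¹) := by
  have hc := nat_comm two hp hp2 hF hx hy hnx hny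
  have hox := odd_orderOf_of_isPGroup hp hp2 hF hx
  have hoy := odd_orderOf_of_isPGroup hp hp2 hF hy
  have hle : br M x ≤ br M y := by
    intro w hw
    rcases nat_cases two hox hnx hux hu0 hw with rfl | rfl | rfl | rfl
    · exact zero_mem _
    · exact huy
    · exact smul_mem_br_of_comm hc huy
    · rw [pow_two, mul_smul]
      exact smul_mem_br_of_comm hc (smul_mem_br_of_comm hc huy)
  have heq : br M x = br M y := AddSubgroup.eq_of_le_of_card_ge hle (by rw [hnx, hny])
  refine ⟨heq, ?_⟩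
  have key : ∀ z : H, z ∈ F → br M z ≤ br M y → z * y = y * z → z • u = u → z = 1 := by
    intro z hz hzy hzc hzu
    refine eq_one_of_fix two (odd_orderOf_of_isPGroup hp hp2 hF hz) fun m hm => ?_
    rcases nat_cases two hoy hny huy hu0 (hzy hm) with rfl | rfl | rfl | rfl
    · simp
    · exact hzu
    · rw [← mul_smul, hzc, mul_smul, hzu]
    · rw [pow_two, mul_smul, ← mul_smul z, hzc, mul_smul, ← mul_smul z, hzc, mul_smul, hzu]
  have hyu0 : y • u ≠ 0 := fun h => hu0 ((smul_eq_zero_iff_eq y).mp h)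
  rcases nat_cases two hox hnx hux hu0 (heq ▸ smul_mem_br_self huy : y • u ∈ br M x)
    with h | h | h | h
  · exact absurd h hyu0
  · exact absurd (br_inf_fx two hoy huy h) hu0
  · left
    have h1 : x⁻¹ * y = 1 := by
      refine key _ (mul_mem (inv_mem hx) hy) ?_ ?_ ?_
      · refine (br_mul_le _ _).trans (sup_le ?_ le_rfl)
        rw [br_inv, heq]
      · have hc' : Commute x y := hc
        exact (hc'.inv_left.mul_left (Commute.refl y)).eq
      · rw [mul_smul, h, inv_smul_smul]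
    have := inv_mul_eq_one.mp h1
    exact this.symm
  · right
    have h3 := nat_cube two hox hnx
    have h1 : x * y = 1 := by
      refine key _ (mul_mem hx hy) ?_ ?_ ?_
      · refine (br_mul_le _ _).trans (sup_le ?_ le_rfl)
        rw [heq]
      · have hc' : Commute x y := hc
        exact (hc'.mul_left (Commute.refl y)).eq
      · rw [mul_smul, h, ← mul_smul, ← pow_succ', h3, one_smul]
    exact eq_inv_of_mul_eq_one_right h1

/-- (3.3) natural elements with different blocks centralise each other's block -/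
theorem nat_indep (two : ∀ m : M, m + m = 0) {p : ℕ} (hp : p.Prime) (hp2 : p ≠ 2)
    {F : Subgroup H} (hF : IsPGroup p F) {x y : H} (hx : x ∈ F) (hy : y ∈ F)
    (hnx : Nat.card (br M x) = 4) (hny : Nat.card (br M y) = 4) (hne : br M x ≠ br M y) :
    br M y ≤ fx M x := by
  have hc := nat_comm two hp hp2 hF hx hy hnx hny
  intro u hu
  rw [mem_fx]
  by_contra hcon
  have h1 : x • u - u ∈ br M x := sub_mem_br x u
  have h2 : x • u - u ∈ br M y := sub_mem (smul_mem_br_of_comm hc hu) hu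
  exact hne (nat_same two hp hp2 hF hx hy hnx hny h1 h2 (sub_ne_zero.mpr hcon)).1

/-- (3.3) a conjugate of a natural element -/
theorem nat_conj {x : H} (hnx : Nat.card (br M x) = 4) (h : H) :
    Nat.card (br M (h * x * h⁻¹)) = 4 := by rw [card_br_conj, hnx]

end Natural

/-! ### (3.2) and (3.1) -/

section Quad

variable {H M : Type*} [Group H] [AddCommGroup M] [DistribMulAction H M]

/-- (3.2): `a` inverts `x`, `a` centralises `[M,b]`, `b` commutes with `x`: `b` is trivial on `[M,x]` -/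
theorem triv_on_br (two : ∀ m : M, m + m = 0) {a b x : H} (hx : Odd (orderOf x))
    (hi : a * x * a⁻¹ = x⁻¹) (hq : ∀ m : M, a • (b • m - m) = b • m - m) (hb : b * x = x * b)
    {m : M} (hm : m ∈ br M x) : b • m = m := by
  have h1 : b • m - m ∈ br M x := sub_mem (smul_mem_br_of_comm hb hm) hm
  have h2 : a • (b • m - m) = b • m - m := hq m
  have h3 : a • (x • (b • m - m)) = x • (b • m - m) := by
    have := hq (x • m)
    rwa [← mul_smul, hb, mul_smul, ← smul_sub] at this
  have h4 : x • x • (b • m - m) = b • m - m := by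
    rw [inv_smul_of_inv hi h2] at h3
    rw [← h3, smul_inv_smul]
  exact sub_eq_zero.mp (br_inf_fx two hx h1 (fix_of_sq hx h4))

/-- `[F,A]` -/
def cmm (F A : Subgroup H) : Subgroup H :=
  Subgroup.closure {g | ∃ f ∈ F, ∃ a ∈ A, f * a * f⁻¹ * a⁻¹ = g}

theorem cmm_le {F A : Subgroup H} (hn : ∀ a ∈ A, ∀ f ∈ F, a * f * a⁻¹ ∈ F) : cmm F A ≤ F := by
  rw [cmm, Subgroup.closure_le]
  rintro _ ⟨f, hf, a, ha, rfl⟩
  have : f * a * f⁻¹ * a⁻¹ = f * (a * f * a⁻¹)⁻¹ := by group
  rw [this]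
  exact mul_mem hf (inv_mem (hn a ha f hf))

theorem conj_mem_cmm {F A : Subgroup H} {g : H} (h1 : ∀ f ∈ F, g * f * g⁻¹ ∈ F)
    (h2 : ∀ a ∈ A, g * a * g⁻¹ ∈ A) {c : H} (hc : c ∈ cmm F A) : g * c * g⁻¹ ∈ cmm F A := by
  induction hc using Subgroup.closure_induction with
  | mem x hx =>
    obtain ⟨f, hf, a, ha, rfl⟩ := hx
    refine Subgroup.subset_closure ⟨g * f * g⁻¹, h1 f hf, g * a * g⁻¹, h2 a ha, ?_⟩
    group
  | one => simp
  | mul x y _ _ hx hy =>
    have : g * (x * y) * g⁻¹ = g * x * g⁻¹ * (g * y * g⁻¹) := by group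
    rw [this]
    exact mul_mem hx hy
  | inv x _ hx =>
    have : g * x⁻¹ * g⁻¹ = (g * x * g⁻¹)⁻¹ := by group
    rw [this]
    exact inv_mem hx

theorem conj_mem_cmm' {F A : Subgroup H} {g : H} (hg : g ∈ F) {c : H} (hc : c ∈ cmm F A) :
    g * c * g⁻¹ ∈ cmm F A := by
  induction hc using Subgroup.closure_induction with
  | mem x hx =>
    obtain ⟨f, hf, a, ha, rfl⟩ := hx
    have h1 : g * f * a * (g * f)⁻¹ * a⁻¹ ∈ cmm F A :=
      Subgroup.subset_closure ⟨g * f, mul_mem hg hf, a, ha, rfl⟩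
    have h2 : g * a * g⁻¹ * a⁻¹ ∈ cmm F A := Subgroup.subset_closure ⟨g, hg, a, ha, rfl⟩
    have : g * (f * a * f⁻¹ * a⁻¹) * g⁻¹ =
      (g * f * a * (g * f)⁻¹ * a⁻¹) * (g * a * g⁻¹ * a⁻¹)⁻¹ := by group
    rw [this]
    exact mul_mem h1 (inv_mem h2)
  | one => simp
  | mul x y _ _ hx hy =>
    have : g * (x * y) * g⁻¹ = g * x * g⁻¹ * (g * y * g⁻¹) := by group
    rw [this]
    exact mul_mem hx hy
  | inv x _ hx =>
    have : g * x⁻¹ * g⁻¹ = (g * x * g⁻¹)⁻¹ := by group
    rw [this]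
    exact inv_mem hx

/-- `[M,K]` -/
def brs (M : Type*) [AddCommGroup M] [DistribMulAction H M] (K : Subgroup H) : AddSubgroup M :=
  ⨆ k : K, br M (k : H)

/-- `C_M(K)` -/
def fxs (M : Type*) [AddCommGroup M] [DistribMulAction H M] (K : Subgroup H) : AddSubgroup M :=
  ⨅ k : K, fx M (k : H)

theorem mem_fxs {K : Subgroup H} {m : M} : m ∈ fxs M K ↔ ∀ k ∈ K, k • m = m := by
  simp only [fxs, AddSubgroup.mem_iInf, mem_fx, Subtype.forall]

theorem br_le_brs {K : Subgroup H} {k : H} (hk : k ∈ K) : br M k ≤ brs M K :=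
  le_iSup (fun k : K => br M (k : H)) ⟨k, hk⟩

theorem brs_le {K : Subgroup H} {N : AddSubgroup M} (h : ∀ k ∈ K, br M k ≤ N) : brs M K ≤ N :=
  iSup_le fun k => h k k.2

theorem smul_mem_brs {K : Subgroup H} {g : H} (hg : ∀ k ∈ K, g * k * g⁻¹ ∈ K) {m : M}
    (hm : m ∈ brs M K) : g • m ∈ brs M K := by
  have h : brs M K ≤ (brs M K).comap (DistribSMul.toAddMonoidHom M g) := by
    refine brs_le fun k hk m hm => ?_
    exact br_le_brs (hg k hk) (smul_mem_br_conj g hm)
  exact h hm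

theorem smul_mem_fxs {K : Subgroup H} {g : H} (hg : ∀ k ∈ K, g⁻¹ * k * g ∈ K) {m : M}
    (hm : m ∈ fxs M K) : g • m ∈ fxs M K := by
  rw [mem_fxs] at hm ⊢
  intro k hk
  have := hm _ (hg k hk)
  rw [mul_smul, mul_smul, inv_smul_eq_iff] at this
  exact this

theorem smul_brs_le {K : Subgroup H} {g : H} {m : M} (hm : m ∈ brs M K)
    (h : ∀ k ∈ K, ∀ n ∈ br M k, g • n = n) : g • m = m := by
  have h' : brs M K ≤ fx M g := brs_le fun k hk n hn => h k hk n hn
  exact h' hm

variable [Finite H]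

/-- `M = [M,K] + C_M(K)`, `K` of odd order -/
theorem exists_decomp_sub (two : ∀ m : M, m + m = 0) {K : Subgroup H} (hK : Odd (Nat.card K))
    (m : M) : ∃ d ∈ brs M K, ∃ c ∈ fxs M K, d + c = m := by
  classical
  have : Fintype K := Fintype.ofFinite K
  let c : M := ∑ k : K, (k : H) • m
  have hc : c ∈ fxs M K := by
    rw [mem_fxs]
    intro g hg
    change g • (∑ k : K, (k : H) • m) = ∑ k : K, (k : H) • m
    rw [Finset.smul_sum]
    refine Fintype.sum_equiv (Equiv.mulLeft (⟨g, hg⟩ : K)) _ _ fun k => ?_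
    change g • (k : H) • m = (g * (k : H)) • m
    rw [mul_smul]
  have hd : m - c ∈ brs M K := by
    have h1 : c = ∑ k : K, ((k : H) • m - m) + m := by
      rw [Finset.sum_sub_distrib]
      simp only [Finset.sum_const, Finset.card_univ]
      rw [← Nat.card_eq_fintype_card, odd_nsmul two hK]
      abel
    have h2 : ∑ k : K, ((k : H) • m - m) ∈ brs M K :=
      AddSubgroup.sum_mem _ fun k _ => br_le_brs k.2 (sub_mem_br _ _)
    have h3 : m - c = -∑ k : K, ((k : H) • m - m) := by rw [h1]; abel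
    rw [h3]
    exact neg_mem h2
  exact ⟨m - c, hd, c, hc, by abel⟩

/-- `[M,K] ∩ C_M(K) = 0`, `K` of odd order -/
theorem brs_inf_fxs (two : ∀ m : M, m + m = 0) {K : Subgroup H} (hK : Odd (Nat.card K))
    {m : M} (hm : m ∈ brs M K) (hf : m ∈ fxs M K) : m = 0 := by
  classical
  have : Fintype K := Fintype.ofFinite K
  -- the trace kills `[M,K]`
  let tr : M →+ M :=
    { toFun := fun m => ∑ k : K, (k : H) • m
      map_zero' := by simp
      map_add' := fun a b => by simp only [smul_add, Finset.sum_add_distrib] }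
  have h1 : brs M K ≤ tr.ker := by
    refine brs_le fun g hg => ?_
    rintro _ ⟨n, rfl⟩
    rw [AddMonoidHom.mem_ker, map_sub, sub_eq_zero]
    change ∑ k : K, (k : H) • g • n = ∑ k : K, (k : H) • n
    refine Fintype.sum_equiv (Equiv.mulRight (⟨g, hg⟩ : K)) _ _ fun k => ?_
    change (k : H) • g • n = ((k : H) * g) • n
    rw [mul_smul]
  have h2 : tr m = 0 := h1 hm
  have h3 : tr m = Nat.card K • m := by
    change ∑ k : K, (k : H) • m = _
    rw [Finset.sum_congr rfl (fun (k : K) _ => (mem_fxs.mp hf) k k.2)]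
    simp [Finset.sum_const, Finset.card_univ, Nat.card_eq_fintype_card]
  rw [h3] at h2
  exact eq_zero_of_odd_nsmul two hK h2

/-- a 2-group acting on a nonzero invariant subgroup of `M` fixes a nonzero vector in it -/
theorem exists_fixed [Finite M] (two : ∀ m : M, m + m = 0) {T : Subgroup H} (hT : IsPGroup 2 T)
    {N : AddSubgroup M} (hN : ∀ t ∈ T, ∀ m ∈ N, t • m ∈ N) (h0 : N ≠ ⊥) :
    ∃ m ∈ N, m ≠ 0 ∧ ∀ t ∈ T, t • m = m := by
  classical
  let _ : MulAction T N :=
    { smul := fun t m => ⟨(t : H) • (m : M), hN t t.2 m m.2⟩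
      one_smul := fun m => Subtype.ext (one_smul H (m : M))
      mul_smul := fun s t m => Subtype.ext (mul_smul (s : H) (t : H) (m : M)) }
  have hsm : ∀ (t : T) (m : N), ((t • m : N) : M) = (t : H) • (m : M) := fun _ _ => rfl
  have h2 : 2 ∣ Nat.card N := by
    obtain ⟨k, hk⟩ := exists_card_two_pow two N
    rcases Nat.eq_zero_or_pos k with rfl | hk0
    · exfalso
      apply h0
      rw [pow_zero] at hk
      exact AddSubgroup.card_eq_one.mp hk
    · rw [hk]; exact dvd_pow_self 2 hk0.ne'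
  have hz : (0 : N) ∈ MulAction.fixedPoints T N := by
    intro t
    exact Subtype.ext (by rw [hsm]; exact smul_zero _)
  obtain ⟨b, hb, hb0⟩ := hT.exists_fixed_point_of_prime_dvd_card_of_fixed_point N h2 hz
  refine ⟨b, b.2, fun h => hb0 (Subtype.ext h.symm), fun t ht => ?_⟩
  have := congrArg Subtype.val (hb ⟨t, ht⟩)
  rwa [hsm] at this

/-- **(3.1)**: `A` (quadratic on `M`, not centralising the odd order group `F`) is trivial on `C_M([F,A])` and faithful
on `F`. `FIX`: a `T`-fixed vector of `[M,A]` is `v0`. -/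
theorem faithful_on_F [Finite M] [FaithfulSMul H M] (two : ∀ m : M, m + m = 0) {v0 : M}
    {A F T : Subgroup H} (hq : ∀ a ∈ A, ∀ b ∈ A, ∀ m : M, a • (b • m - m) = b • m - m)
    (hF : Odd (Nat.card F)) (hAF : ∀ a ∈ A, ∀ f ∈ F, a * f * a⁻¹ ∈ F)
    (hT : IsPGroup 2 T) (hTA : ∀ t ∈ T, ∀ a ∈ A, t * a * t⁻¹ ∈ A)
    (hTF : ∀ t ∈ T, ∀ f ∈ F, t * f * t⁻¹ ∈ F)
    (FIX : ∀ m ∈ brs M A, m ≠ 0 → (∀ t ∈ T, t • m = m) → m = v0)
    (hne : ∃ a ∈ A, ∃ f ∈ F, a * f ≠ f * a) :
    (∀ a ∈ A, ∀ m ∈ fxs M (cmm F A), a • m = m) ∧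
      (∀ b ∈ A, (∀ f ∈ F, b * f = f * b) → b = 1) := by
  classical
  set P := cmm F A with hP
  have hPF : P ≤ F := cmm_le hAF
  have hPodd : Odd (Nat.card P) := Odd.of_dvd_nat hF (Subgroup.card_dvd_of_le hPF)
  have hTP : ∀ t ∈ T, ∀ k ∈ P, t * k * t⁻¹ ∈ P := fun t ht k hk =>
    conj_mem_cmm (hTF t ht) (hTA t ht) hk
  -- a group trivially acted on by `A` and `F`-invariant is centralised by `P`
  have key : ∀ U : AddSubgroup M, (∀ f ∈ F, ∀ u ∈ U, f • u ∈ U) → (∀ a ∈ A, ∀ u ∈ U, a • u = u) →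
      ∀ k ∈ P, ∀ u ∈ U, k • u = u := by
    intro U hU1 hU2 k hk u hu
    have : P ≤ MulAction.stabilizer H u := by
      rw [hP, cmm, Subgroup.closure_le]
      rintro _ ⟨f, hf, a, ha, rfl⟩
      change (f * a * f⁻¹ * a⁻¹) • u = u
      have h1 : a⁻¹ • u = u := by rw [inv_smul_eq_iff, hU2 a ha u hu]
      have h2 : f⁻¹ • u ∈ U := hU1 _ (inv_mem hf) u hu
      rw [mul_smul, mul_smul, mul_smul, h1, hU2 a ha _ h2, smul_inv_smul]
    exact this hk
  have hPA : ∀ a ∈ A, ∀ k ∈ P, a * k * a⁻¹ ∈ P := fun a ha k hk =>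
    conj_mem_cmm (hAF a ha) (fun b hb => mul_mem (mul_mem ha hb) (inv_mem ha)) hk
  -- A is nontrivial on [M,P]
  have hA1 : ∃ a ∈ A, ∃ m ∈ brs M P, a • m - m ≠ 0 := by
    by_contra hcon
    push Not at hcon
    have h1 : ∀ k ∈ P, ∀ u ∈ brs M P, k • u = u := by
      refine key (brs M P) (fun f hf u hu => smul_mem_brs (fun k hk => conj_mem_cmm' hf hk) hu)
        (fun a ha u hu => sub_eq_zero.mp (hcon a ha u hu))
    have h2 : ∀ k ∈ P, k = 1 := by
      intro k hk
      refine FaithfulSMul.eq_of_smul_eq_smul (α := M) fun m => ?_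
      have h3 : k • m - m ∈ brs M P := br_le_brs hk (sub_mem_br k m)
      have h4 : k • m - m ∈ fxs M P := mem_fxs.mpr fun g hg => h1 g hg _ h3
      rw [one_smul]
      exact sub_eq_zero.mp (brs_inf_fxs two hPodd h3 h4)
    obtain ⟨a, ha, f, hf, hne⟩ := hne
    apply hne
    have h3 : f * a * f⁻¹ * a⁻¹ = 1 := h2 _ (Subgroup.subset_closure ⟨f, hf, a, ha, rfl⟩)
    have h4 : f * a = a * f := by
      have := mul_inv_eq_one.mp h3
      have h5 := mul_inv_eq_iff_eq_mul.mp this
      exact h5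
    exact h4.symm
  have hb1 : ∀ N : AddSubgroup M, (∀ t ∈ T, ∀ m ∈ N, t • m ∈ N) →
      (∀ a ∈ A, ∀ m ∈ N, a • m ∈ N) → (∃ a ∈ A, ∃ m ∈ N, a • m - m ≠ 0) → v0 ∈ N := by
    intro N hN1 hN2 hN3
    let U : AddSubgroup M := AddSubgroup.closure {u | ∃ a ∈ A, ∃ m ∈ N, a • m - m = u}
    have hUN : U ≤ N := by
      rw [AddSubgroup.closure_le]
      rintro _ ⟨a, ha, m, hm, rfl⟩
      exact sub_mem (hN2 a ha m hm) hm
    have hUA : U ≤ brs M A := by
      rw [AddSubgroup.closure_le]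
      rintro _ ⟨a, ha, m, hm, rfl⟩
      exact br_le_brs ha (sub_mem_br a m)
    have hUT : ∀ t ∈ T, ∀ m ∈ U, t • m ∈ U := by
      intro t ht
      have : U ≤ U.comap (DistribSMul.toAddMonoidHom M t) := by
        rw [AddSubgroup.closure_le]
        rintro _ ⟨a, ha, m, hm, rfl⟩
        refine AddSubgroup.subset_closure ⟨t * a * t⁻¹, hTA t ht a ha, t • m, hN1 t ht m hm, ?_⟩
        change (t * a * t⁻¹) • t • m - t • m = t • (a • m - m)
        rw [smul_sub, mul_smul, mul_smul, inv_smul_smul]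
      exact fun m hm => this hm
    have hU0 : U ≠ ⊥ := by
      obtain ⟨a, ha, m, hm, h⟩ := hN3
      intro h0
      apply h
      have : a • m - m ∈ U := AddSubgroup.subset_closure ⟨a, ha, m, hm, rfl⟩
      rw [h0] at this
      simpa using this
    obtain ⟨u, hu, hu0, huT⟩ := exists_fixed two hT hUT hU0
    rw [← FIX u (hUA hu) hu0 huT]
    exact hUN hu
  have hA2 : ∀ a ∈ A, ∀ m ∈ fxs M P, a • m = m := by
    by_contra hcon
    push Not at hcon
    obtain ⟨a, ha, m, hm, h⟩ := hcon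
    have h1 : v0 ∈ brs M P := hb1 _ (fun t ht m hm => smul_mem_brs (hTP t ht) hm)
      (fun a ha m hm => smul_mem_brs (hPA a ha) hm) hA1
    have h2 : v0 ∈ fxs M P := by
      refine hb1 _ (fun t ht m hm => smul_mem_fxs (fun k hk => ?_) hm)
        (fun a ha m hm => smul_mem_fxs (fun k hk => ?_) hm) ⟨a, ha, m, hm, sub_ne_zero.mpr h⟩
      · simpa using hTP t⁻¹ (inv_mem ht) k hk
      · simpa using hPA a⁻¹ (inv_mem ha) k hk
    have h3 : v0 = 0 := brs_inf_fxs two hPodd h1 h2
    -- but `v0 ≠ 0`: use FIX on the nonzero vector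
    obtain ⟨a', ha', m', hm', h'⟩ := hA1
    let U : AddSubgroup M := brs M A
    have hU0 : U ≠ ⊥ := by
      intro h0
      apply h'
      have : a' • m' - m' ∈ U := br_le_brs ha' (sub_mem_br a' m')
      rw [h0] at this
      simpa using this
    obtain ⟨u, hu, hu0, huT⟩ := exists_fixed two hT (N := U)
      (fun t ht m hm => smul_mem_brs (hTA t ht) hm) hU0
    exact hu0 ((FIX u hu hu0 huT).trans h3)
  refine ⟨hA2, fun b hb hbF => ?_⟩
  -- [M,b] is F-invariant and centralised by A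
  have h1 : ∀ k ∈ P, ∀ u ∈ br M b, k • u = u := by
    refine key (br M b) (fun f hf u hu => smul_mem_br_of_comm (hbF f hf).symm hu) ?_
    rintro a ha _ ⟨n, rfl⟩
    exact hq a ha b hb n
  have h2 : ∀ m ∈ brs M P, b • m = m := by
    intro m hm
    refine smul_brs_le hm fun k hk n hn => ?_
    obtain ⟨l, rfl⟩ := hn
    have h3 : b * k = k * b := hbF k (hPF hk)
    have h4 := h1 k hk _ (sub_mem_br b l)
    have h5 : b • (k • l - l) - (k • l - l) = k • (b • l - l) - (b • l - l) := by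
      rw [smul_sub, smul_sub, ← mul_smul, ← mul_smul, h3]
      abel
    rw [← sub_eq_zero, h5, h4, sub_self]
  refine FaithfulSMul.eq_of_smul_eq_smul (α := M) fun m => ?_
  obtain ⟨d, hd, c, hc, rfl⟩ := exists_decomp_sub two hPodd m
  rw [smul_add, h2 d hd, hA2 b hb c hc, one_smul]

end Quad

end Cfsg.Agent.Omega.NO3S.Fit.Abs

end

section


/-!
# Text #13963, section 3 with `A = ⟨a⟩`: the context and the case `|[M,a]| = 2` (M12)

`Ctx v0 a T` : `H` faithful on `M`, `M` generated by the orbit of `v0`, `a` an involution of `H_0 = Stab(v0)` centralised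
by `H_0`, `T ≤ H_0` a Sylow 2-subgroup of `H`, LEMMA FIX, `|[M,a]| ≤ 4` and LEMMA PLANE (`pl`).
-/

set_option autoImplicit false
set_option linter.unusedSectionVars false

open scoped Pointwise

namespace Cfsg.Agent.Omega.NO3S.Fit.Abs

variable {H M : Type*} [Group H] [AddCommGroup M] [DistribMulAction H M]

/-- the context of section 3, `A = ⟨a⟩` -/
structure Ctx (v0 : M) (a : H) (T : Subgroup H) : Prop where
  two : ∀ m : M, m + m = 0
  ne : v0 ≠ 0
  span : AddSubgroup.closure (Set.range fun h : H => h • v0) = ⊤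
  sq : a * a = 1
  a1 : a ≠ 1
  fix : a • v0 = v0
  cen : ∀ h : H, h • v0 = v0 → h * a = a * h
  T2 : IsPGroup 2 T
  Ti : ¬ 2 ∣ T.index
  T0 : ∀ t ∈ T, t • v0 = v0
  FIX : ∀ m ∈ br M a, m ≠ 0 → (∀ t ∈ T, t • m = m) → m = v0
  le4 : Nat.card (br M a) ≤ 4
  pl : Nat.card (br M a) = 4 → ∀ f : H, f * a = a * f → f • v0 = v0

/-- the span of the `K`-orbit of `v` -/
def sp (K : Subgroup H) (v : M) : AddSubgroup M := AddSubgroup.closure {m | ∃ k ∈ K, k • v = m}

theorem mem_sp {K : Subgroup H} {v : M} {k : H} (hk : k ∈ K) : k • v ∈ sp K v :=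
  AddSubgroup.subset_closure ⟨k, hk, rfl⟩

theorem sp_le {K : Subgroup H} {v : M} {N : AddSubgroup M} (h : ∀ k ∈ K, k • v ∈ N) :
    sp K v ≤ N := by
  rw [sp, AddSubgroup.closure_le]
  rintro _ ⟨k, hk, rfl⟩
  exact h k hk

theorem smul_mem_sp {K : Subgroup H} {v : M} {k : H} (hk : k ∈ K) {m : M} (hm : m ∈ sp K v) :
    k • m ∈ sp K v := by
  have h : sp K v ≤ (sp K v).comap (DistribSMul.toAddMonoidHom M k) := by
    refine sp_le fun l hl => ?_
    change k • l • v ∈ sp K v
    rw [← mul_smul]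
    exact mem_sp (mul_mem hk hl)
  exact h hm

namespace Ctx

variable {v0 : M} {a : H} {T : Subgroup H}

theorem inv_a (c : Ctx v0 a T) : a⁻¹ = a := inv_eq_of_mul_eq_one_right c.sq

theorem fix_br (c : Ctx v0 a T) {m : M} (hm : m ∈ br M a) : a • m = m := by
  obtain ⟨n, rfl⟩ := hm
  rw [smul_sub, ← mul_smul, c.sq, one_smul, sub_eq c.two, sub_eq c.two, add_comm]

theorem smul_br_of_stab (c : Ctx v0 a T) {h : H} (hh : h • v0 = v0) {m : M} (hm : m ∈ br M a) :
    h • m ∈ br M a := smul_mem_br_of_comm (c.cen h hh) hm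

theorem stab_inv {h : H} (hh : h • v0 = v0) : h⁻¹ • v0 = v0 := by
  rw [inv_smul_eq_iff, hh]

theorem stab_mul {h k : H} (hh : h • v0 = v0) (hk : k • v0 = v0) : (h * k) • v0 = v0 := by
  rw [mul_smul, hk, hh]

theorem exists_inverted (c : Ctx v0 a T) {F : Subgroup H} [F.Normal] (hF : ∃ f ∈ F, f * a ≠ a * f) :
    ∃ x ∈ F, x ≠ 1 ∧ a * x * a⁻¹ = x⁻¹ := by
  obtain ⟨f, hf, hne⟩ := hF
  have hFn : F.Normal := inferInstance
  refine ⟨f * (a * f⁻¹ * a⁻¹), mul_mem hf (hFn.conj_mem _ (inv_mem hf) a), ?_, ?_⟩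
  · intro h
    apply hne
    have h1 : f * a * f⁻¹ * a⁻¹ = 1 := by rw [← h]; group
    have := mul_inv_eq_one.mp h1
    exact mul_inv_eq_iff_eq_mul.mp this
  · have h2 : a * (f * (a * f⁻¹ * a⁻¹)) * a⁻¹ = a * f * a * f⁻¹ * (a⁻¹ * a⁻¹) := by group
    have h3 : (f * (a * f⁻¹ * a⁻¹))⁻¹ = a * f * a⁻¹ * f⁻¹ := by group
    rw [h2, h3, c.inv_a, c.sq, mul_one]

variable [Finite H] [Finite M] [FaithfulSMul H M]

theorem v0_mem (c : Ctx v0 a T) : v0 ∈ br M a := by
  obtain ⟨m, hm, hm0, hmT⟩ := exists_fixed c.two c.T2 (N := br M a)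
    (fun t ht m hm => c.smul_br_of_stab (c.T0 t ht) hm) (ne_zero_of_br c.a1)
  rw [← c.FIX m hm hm0 hmT]
  exact hm

theorem card_two_or_four {N : AddSubgroup M} (two : ∀ m : M, m + m = 0) (h0 : N ≠ ⊥)
    (h4 : Nat.card N ≤ 4) : Nat.card N = 2 ∨ Nat.card N = 4 := by
  obtain ⟨k, hk⟩ := exists_card_two_pow two N
  have h1 : k ≠ 0 := by
    rintro rfl
    exact h0 (AddSubgroup.card_eq_one.mp (by simpa using hk))
  have h2 : k ≤ 2 := by
    by_contra hcon
    push Not at hcon
    have : 2 ^ 3 ≤ 2 ^ k := Nat.pow_le_pow_right (by decide) hcon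
    omega
  rw [hk]
  interval_cases k
  · exact absurd rfl h1
  · simp
  · right; norm_num

theorem card_cases (c : Ctx v0 a T) : Nat.card (br M a) = 2 ∨ Nat.card (br M a) = 4 :=
  card_two_or_four c.two (ne_zero_of_br c.a1) c.le4

theorem cx_le (c : Ctx v0 a T) {x : H} (hx : Odd (orderOf x)) (hi : a * x * a⁻¹ = x⁻¹) :
    cx M a x ≤ br M a := by
  intro m hm
  obtain ⟨d, -, rfl⟩ := cx_le_br c.two c.sq hx hi hm
  exact sub_mem_br a d

theorem cx_ne_bot (c : Ctx v0 a T) {x : H} (hx : Odd (orderOf x)) (hi : a * x * a⁻¹ = x⁻¹)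
    (hx1 : x ≠ 1) : cx M a x ≠ ⊥ := by
  intro h
  have h1 := (card_br_eq (M := M) c.two c.sq hx hi).1
  rw [h] at h1
  simp only [AddSubgroup.card_bot, mul_one] at h1
  exact ne_zero_of_br hx1 (AddSubgroup.card_eq_one.mp h1)

/-- an inverted element has `|[M,x]| = 4` or `16`; in the second case `[M,a] = C_{[M,x]}(a)` -/
theorem inv_cases (c : Ctx v0 a T) {x : H} (hx : Odd (orderOf x)) (hi : a * x * a⁻¹ = x⁻¹)
    (hx1 : x ≠ 1) : (Nat.card (cx M a x) = 2 ∧ Nat.card (br M x) = 4) ∨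
      (Nat.card (cx M a x) = 4 ∧ Nat.card (br M x) = 16 ∧ Nat.card (br M a) = 4 ∧
        cx M a x = br M a) := by
  have h1 := (card_br_eq (M := M) c.two c.sq hx hi).1
  have hle := c.cx_le hx hi
  have hle4 : Nat.card (cx M a x) ≤ 4 := (AddSubgroup.card_le_of_le hle).trans c.le4
  rcases card_two_or_four c.two (c.cx_ne_bot hx hi hx1) hle4 with h | h
  · left
    exact ⟨h, by rw [h1, h]⟩
  · right
    refine ⟨h, by rw [h1, h], ?_, ?_⟩
    · have := AddSubgroup.card_le_of_le hle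
      have := c.le4
      omega
    · exact AddSubgroup.eq_of_le_of_card_ge hle (by rw [h]; exact c.le4)

/-- `a` is trivial on `C_M(x)` as soon as `[M,a] ≤ [M,x]` -/
theorem triv_fx (c : Ctx v0 a T) {x : H} (hx : Odd (orderOf x)) (hi : a * x * a⁻¹ = x⁻¹)
    (hle : br M a ≤ br M x) {m : M} (hm : m ∈ fx M x) : a • m = m := by
  have h1 : a • m - m ∈ fx M x := sub_mem (smul_mem_fx_of_inv hi hm) hm
  exact sub_eq_zero.mp (br_inf_fx c.two hx (hle (sub_mem_br a m)) h1)

/-! ### (M12) -/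

/-- the output (M12) -/
structure M12 (v0 : M) (a d : H) : Prop where
  cube : d ^ 3 = 1
  inv : a * d * a⁻¹ = d⁻¹
  ne : d • v0 ≠ v0
  sum : v0 + d • v0 + d ^ 2 • v0 = 0
  card : Nat.card (br M d) = 4
  mem : v0 ∈ br M d
  nor : ∀ h : H, h • v0 = v0 → h * d * h⁻¹ = d ∨ h * d * h⁻¹ = d⁻¹
  hyp : ∀ N : AddSubgroup M, N.index = 2 → v0 ∈ N →
    (∀ h : H, h • v0 = v0 → ∀ m ∈ N, h • m ∈ N) → N = fx M a

theorem odd_conj {x : H} (hx : Odd (orderOf x)) (h : H) : Odd (orderOf (h * x * h⁻¹)) := by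
  have : orderOf (h * x * h⁻¹) = orderOf x := by
    have e : h * x * h⁻¹ = MulAut.conj h x := rfl
    rw [e]
    exact MulEquiv.orderOf_eq (MulAut.conj h) x
  rwa [this]

/-- **(M12)** -/
theorem m12 (c : Ctx v0 a T) {p : ℕ} (hp : p.Prime) (hp2 : p ≠ 2) {F : Subgroup H} [hFn : F.Normal]
    (hF : IsPGroup p F) (hFa : ∃ f ∈ F, f * a ≠ a * f) (h2 : Nat.card (br M a) = 2) :
    ∃ d ∈ F, M12 v0 a d := by
  obtain ⟨x, hxF, hx1, hi⟩ := c.exists_inverted hFa
  have hx := odd_orderOf_of_isPGroup hp hp2 hF hxF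
  have hcx : Nat.card (cx M a x) = 2 ∧ Nat.card (br M x) = 4 := by
    rcases c.inv_cases hx hi hx1 with h | h
    · exact h
    · omega
  have hn := hcx.2
  have hcxe : cx M a x = br M a :=
    AddSubgroup.eq_of_le_of_card_ge (c.cx_le hx hi) (by rw [hcx.1, h2])
  have hle : br M a ≤ br M x := hcxe ▸ (inf_le_left : cx M a x ≤ br M x)
  have hv : v0 ∈ br M x := hle c.v0_mem
  have hne : x • v0 ≠ v0 := fun h => c.ne (br_inf_fx c.two hx hv h)
  refine ⟨x, hxF, nat_cube c.two hx hn, hi, hne, nat_sum c.two hx hn hv, hn, hv, ?_, ?_⟩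
  · intro h hh
    have h1 : v0 ∈ br M (h * x * h⁻¹) := by
      have := smul_mem_br_conj h hv
      rwa [hh] at this
    exact (nat_same c.two hp hp2 hF hxF (hFn.conj_mem x hxF h) hn (nat_conj hn h) hv h1 c.ne).2
  · intro N hN hvN hNi
    let S : AddSubgroup M :=
      AddSubgroup.closure ({v0} ∪ {m | ∃ h : H, h • v0 = m ∧ m ∉ br M x})
    have hvS : v0 ∈ S := AddSubgroup.subset_closure (Or.inl rfl)
    have hbl : ∀ h : H, h • v0 ∉ br M x → br M (h * x * h⁻¹) ≤ fx M x ∧
        br M x ≤ fx M (h * x * h⁻¹) := by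
      intro h hh
      have hF' := hFn.conj_mem x hxF h
      have hn' := nat_conj (M := M) hn h
      have hmem := smul_mem_br_conj h hv
      have hne' : br M x ≠ br M (h * x * h⁻¹) := fun e => hh (e ▸ hmem)
      exact ⟨nat_indep c.two hp hp2 hF hxF hF' hn hn' hne',
        nat_indep c.two hp hp2 hF hF' hxF hn' hn hne'.symm⟩
    have hSN : S ≤ N := by
      refine (AddSubgroup.closure_le _).mpr ?_
      rintro m (rfl | ⟨h, rfl, hh⟩)
      · exact hvN
      · obtain ⟨h1, h2⟩ := hbl h hh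
        have h3 : (h * x * h⁻¹) • v0 = v0 := h2 hv
        have h4 : br M (h * x * h⁻¹) ≤ N := by
          rintro _ ⟨n, rfl⟩
          rw [sub_eq c.two, AddSubgroup.add_mem_iff_of_index_two hN]
          constructor
          · intro h5
            have := hNi _ (stab_inv h3) _ h5
            rwa [inv_smul_smul] at this
          · intro h5
            exact hNi _ h3 _ h5
        exact h4 (smul_mem_br_conj h hv)
    have hSa : S ≤ fx M a := by
      refine (AddSubgroup.closure_le _).mpr ?_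
      rintro m (rfl | ⟨h, rfl, hh⟩)
      · exact c.fix
      · exact c.triv_fx hx hi hle ((hbl h hh).1 (smul_mem_br_conj h hv))
    have htop : S ⊔ AddSubgroup.zmultiples (x • v0) = ⊤ := by
      rw [eq_top_iff, ← c.span, AddSubgroup.closure_le]
      rintro _ ⟨h, rfl⟩
      change h • v0 ∈ S ⊔ AddSubgroup.zmultiples (x • v0)
      by_cases hh : h • v0 ∈ br M x
      · have hxv : x • v0 ∈ S ⊔ AddSubgroup.zmultiples (x • v0) :=
          AddSubgroup.mem_sup_right (AddSubgroup.mem_zmultiples _)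
        have hv0 : v0 ∈ S ⊔ AddSubgroup.zmultiples (x • v0) := AddSubgroup.mem_sup_left hvS
        rcases nat_cases c.two hx hn hv c.ne hh with e | e | e | e
        · rw [e]; exact zero_mem _
        · rw [e]; exact hv0
        · rw [e]; exact hxv
        · rw [e, pow_two, mul_smul, nat_sq c.two hx hn hv]
          exact add_mem hv0 hxv
      · exact AddSubgroup.mem_sup_left (AddSubgroup.subset_closure (Or.inr ⟨h, rfl, hh⟩))
    have hmax : ∀ N' : AddSubgroup M, S ≤ N' → N' ≠ ⊤ → N' = S := by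
      intro N' hSN' hN'
      refine le_antisymm (fun m hm => ?_) hSN'
      have hm' : m ∈ S ⊔ AddSubgroup.zmultiples (x • v0) := by rw [htop]; trivial
      obtain ⟨s, hs, z, hz, rfl⟩ := AddSubgroup.mem_sup.mp hm'
      obtain ⟨k, rfl⟩ := AddSubgroup.mem_zmultiples_iff.mp hz
      rcases Int.even_or_odd k with ⟨j, rfl⟩ | ⟨j, rfl⟩
      · rw [← two_mul, mul_comm, mul_smul, two_zsmul, c.two, smul_zero, add_zero]
        exact hs
      · exfalso
        rw [add_smul, one_smul, mul_comm, mul_smul, two_zsmul, c.two, smul_zero, zero_add] at hm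
        have h5 : x • v0 ∈ N' := by
          have := sub_mem hm (hSN' hs)
          rwa [add_sub_cancel_left] at this
        apply hN'
        rw [eq_top_iff, ← htop]
        refine sup_le hSN' ?_
        rw [AddSubgroup.zmultiples_le]
        exact h5
    have hNt : N ≠ ⊤ := by
      rintro rfl
      rw [AddSubgroup.index_top] at hN
      omega
    have hat : fx M a ≠ ⊤ := by
      intro h
      apply c.a1
      refine FaithfulSMul.eq_of_smul_eq_smul (α := M) fun m => ?_
      have : m ∈ fx M a := h ▸ AddSubgroup.mem_top m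
      rw [one_smul]
      exact this
    rw [hmax N hSN hNt, hmax _ hSa hat]

end Ctx

end Cfsg.Agent.Omega.NO3S.Fit.Abs

end

section


/-!
# Text #13963, section 3 with `A = ⟨a⟩`, `|[M,a]| = 4`

A natural element of `F` inverted by `a`, or `[F,a] = ⟨x⟩ ≤ Z(F)` of order 3 or 5 with `|[M,x]| = 16`.
-/

set_option autoImplicit false
set_option linter.unusedSectionVars false

open scoped Pointwise

namespace Cfsg.Agent.Omega.NO3S.Fit.Abs

variable {H M : Type*} [Group H] [AddCommGroup M] [DistribMulAction H M]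

namespace Ctx

variable {v0 : M} {a : H} {T : Subgroup H}

/-- `h • v0 ∈ [M,a]` ==> `h a h⁻¹` commutes with `a` -/
theorem conj_comm (c : Ctx v0 a T) {h : H} (hh : h • v0 ∈ br M a) :
    h * a * h⁻¹ * a = a * (h * a * h⁻¹) := by
  have h1 : a • h • v0 = h • v0 := c.fix_br hh
  have h2 : (h⁻¹ * a * h) • v0 = v0 := by
    rw [mul_smul, mul_smul, h1, inv_smul_smul]
  have h3 := c.cen _ h2
  have e1 : h * a * h⁻¹ * a = h * (a * (h⁻¹ * a * h)) * h⁻¹ := by group
  have e2 : a * (h * a * h⁻¹) = h * (h⁻¹ * a * h * a) * h⁻¹ := by group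
  rw [e1, e2, h3]

variable [Finite H] [Finite M] [FaithfulSMul H M]

section

variable (c : Ctx v0 a T) (h4 : Nat.card (br M a) = 4)
include c h4

theorem br_cases {b : M} (hb : b ∈ br M a) (hb0 : b ≠ 0) (hbv : b ≠ v0) {w : M}
    (hw : w ∈ br M a) : w = 0 ∨ w = v0 ∨ w = b ∨ w = v0 + b :=
  mem_four h4 c.two c.v0_mem hb c.ne hb0 hbv.symm hw

theorem exists_b : ∃ b ∈ br M a, b ≠ 0 ∧ b ≠ v0 := exists_ne_ne_of_card h4

theorem stab_b {b : M} (hb : b ∈ br M a) (hb0 : b ≠ 0) (hbv : b ≠ v0) {g : H}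
    (hg : g • v0 = v0) : g • b = b ∨ g • b = v0 + b := by
  have hgb := c.smul_br_of_stab hg hb
  rcases c.br_cases h4 hb hb0 hbv hgb with h | h | h | h
  · exact absurd ((smul_eq_zero_iff_eq g).mp h) hb0
  · exfalso
    apply hbv
    have : g • b = g • v0 := by rw [h, hg]
    exact smul_left_cancel g this
  · exact Or.inl h
  · exact Or.inr h

theorem exists_swap {b : M} (hb : b ∈ br M a) (hb0 : b ≠ 0) (hbv : b ≠ v0) :
    ∃ t ∈ T, t • b = v0 + b := by
  by_contra hcon
  push Not at hcon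
  apply hbv
  refine c.FIX b hb hb0 fun t ht => ?_
  rcases c.stab_b h4 hb hb0 hbv (c.T0 t ht) with h | h
  · exact h
  · exact absurd h (hcon t ht)

theorem triv_of_fix {b : M} (hb : b ∈ br M a) (hb0 : b ≠ 0) (hbv : b ≠ v0) {g : H}
    (hg : g • v0 = v0) (hgb : g • b = b) {m : M} (hm : m ∈ br M a) : g • m = m := by
  rcases c.br_cases h4 hb hb0 hbv hm with rfl | rfl | rfl | rfl
  · simp
  · exact hg
  · exact hgb
  · rw [smul_add, hg, hgb]

theorem odd_triv {g : H} (hg : Odd (orderOf g)) (hga : g * a = a * g) {m : M}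
    (hm : m ∈ br M a) : g • m = m := by
  obtain ⟨b, hb, hb0, hbv⟩ := c.exists_b h4
  have hgv : g • v0 = v0 := c.pl h4 g hga
  refine c.triv_of_fix h4 hb hb0 hbv hgv ?_ hm
  rcases c.stab_b h4 hb hb0 hbv hgv with h | h
  · exact h
  · refine fix_of_sq hg ?_
    rw [h, smul_add, hgv, h, ← add_assoc, c.two, zero_add]

end

/-- `a` is determined by its action: it inverts `x` and is trivial on `[M,a]` and on `C_M(x)` -/
theorem key_eq (c : Ctx v0 a T) {x g : H} (hx : Odd (orderOf x)) (hi : a * x * a⁻¹ = x⁻¹)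
    (hcx : cx M a x = br M a) (hg : g * x * g⁻¹ = x⁻¹) (hgb : ∀ m ∈ br M a, g • m = m)
    (hgf : ∀ m ∈ fx M x, g • m = m) : g = a := by
  refine FaithfulSMul.eq_of_smul_eq_smul (α := M) fun m => ?_
  have hle : br M a ≤ br M x := hcx ▸ (inf_le_left : cx M a x ≤ br M x)
  obtain ⟨d, hd, e, he, rfl⟩ := exists_decomp c.two hx m
  obtain ⟨u, hu, w, hw, rfl⟩ := exists_cx_add c.two c.sq hx hi hd
  rw [smul_add, smul_add, smul_add, smul_add, hgf e he, c.triv_fx hx hi hle he,
    inv_smul_of_inv hg (hgb w (hcx ▸ hw)), inv_smul_of_inv hi hw.2, hgb u (hcx ▸ hu),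
    show a • u = u from hu.2]

/-- an element of odd order commuting with `a` and `x` is trivial on `[M,x]` (`cx = [M,a]`) -/
theorem odd_triv_D (c : Ctx v0 a T) (h4 : Nat.card (br M a) = 4) {x : H}
    (hx : Odd (orderOf x)) (hi : a * x * a⁻¹ = x⁻¹)
    (hcx : cx M a x = br M a) {g : H} (hg : Odd (orderOf g)) (hga : g * a = a * g)
    (hgx : g * x = x * g) {m : M} (hm : m ∈ br M x) : g • m = m := by
  obtain ⟨u, hu, w, hw, rfl⟩ := exists_cx_add c.two c.sq hx hi hm
  rw [smul_add, ← mul_smul, hgx, mul_smul, c.odd_triv h4 hg hga (hcx ▸ hu),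
    c.odd_triv h4 hg hga (hcx ▸ hw)]

theorem dead (c : Ctx v0 a T) (h4 : Nat.card (br M a) = 4) {x : H}
    (hx : Odd (orderOf x)) (hi : a * x * a⁻¹ = x⁻¹)
    (hcx : cx M a x = br M a) {g : H} (hg : Odd (orderOf g)) (hga : g * a = a * g)
    (hgx : g * x = x * g) (hle : br M g ≤ br M x) : g = 1 :=
  eq_one_of_fix c.two hg fun _ hm => c.odd_triv_D h4 hx hi hcx hg hga hgx (hle hm)

end Ctx

/-! ### arithmetic -/

theorem card_p_le {p k : ℕ} (hp : p.Prime) (hp2 : p ≠ 2) (h : p ^ k ∣ 20160) : k ≤ 2 := by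
  by_contra hcon
  push Not at hcon
  have h1 : p ^ 3 ∣ 20160 := (pow_dvd_pow p hcon).trans h
  have h2 : p ^ 3 ≤ 20160 := Nat.le_of_dvd (by decide) h1
  have h3 : p < 28 := by
    by_contra hc
    push Not at hc
    have := Nat.pow_le_pow_left hc 3
    omega
  have h4 := hp.two_le
  interval_cases p <;>
    first
    | exact hp2 rfl
    | exact absurd h1 (by decide)
    | exact absurd hp (by norm_num)

theorem comm_of_card {K : Type*} [Group K] [Finite K] {p : ℕ} (hp : p.Prime) (hp2 : p ≠ 2)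
    (hK : IsPGroup p K) (h : Nat.card K ∣ 20160) (g g' : K) : g * g' = g' * g := by
  have : Fact p.Prime := ⟨hp⟩
  obtain ⟨k, hk⟩ := IsPGroup.iff_card.mp hK
  have hk2 : k ≤ 2 := card_p_le hp hp2 (hk ▸ h)
  interval_cases k
  · have : Subsingleton K := (Nat.card_eq_one_iff_unique.mp (by simpa using hk)).1
    exact Subsingleton.elim _ _
  · have : IsCyclic K := isCyclic_of_prime_card (p := p) (by simpa using hk)
    exact (IsCyclic.commGroup (α := K)).mul_comm g g'
  · exact (IsPGroup.commGroupOfCardEqPrimeSq (p := p) hk).mul_comm g g'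

/-- a semiregular action on `N - 0` -/
theorem card_dvd_of_semireg [Finite H] [Finite M] {P : Subgroup H} {N : AddSubgroup M}
    (hN : ∀ g ∈ P, ∀ m ∈ N, g • m ∈ N)
    (hs : ∀ g ∈ P, ∀ m ∈ N, m ≠ 0 → g • m = m → g = 1) :
    Nat.card P ∣ Nat.card N - 1 := by
  classical
  let X := {m : N // m ≠ 0}
  let _ : MulAction P X :=
    { smul := fun g m => ⟨⟨(g : H) • ((m : N) : M), hN g g.2 _ (m : N).2⟩, by
        intro h
        apply m.2
        have h1 : (g : H) • ((m : N) : M) = 0 := congrArg Subtype.val h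
        exact Subtype.ext ((smul_eq_zero_iff_eq (g : H)).mp h1)⟩
      one_smul := fun m => Subtype.ext (Subtype.ext (one_smul H _))
      mul_smul := fun s t m => Subtype.ext (Subtype.ext (mul_smul (s : H) (t : H) _)) }
  have hsm : ∀ (g : P) (m : X), (((g • m : X) : N) : M) = (g : H) • ((m : N) : M) :=
    fun _ _ => rfl
  have : Fintype P := Fintype.ofFinite P
  have : Fintype X := Fintype.ofFinite X
  have : Fintype (Quotient (MulAction.orbitRel P X)) := Fintype.ofFinite _
  have : ∀ b : X, Fintype (MulAction.stabilizer P b) := fun b => Fintype.ofFinite _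
  have h1 := MulAction.card_eq_sum_card_group_div_card_stabilizer P X
  have h2 : ∀ b : X, Fintype.card (MulAction.stabilizer P b) = 1 := by
    intro b
    have : MulAction.stabilizer P b = ⊥ := by
      rw [eq_bot_iff]
      intro g hg
      have h3 : g • b = b := hg
      have h4 : (g : H) • ((b : N) : M) = ((b : N) : M) := by
        rw [← hsm, h3]
      have h5 : (g : H) = 1 := hs g g.2 _ (b : N).2 (fun h => b.2 (Subtype.ext h)) h4
      exact Subtype.ext h5
    rw [← Nat.card_eq_fintype_card, this]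
    exact Subgroup.card_bot
  simp only [h2, Nat.div_one, Finset.sum_const, smul_eq_mul] at h1
  have h3 : Nat.card X = Nat.card N - 1 := by
    have : Fintype N := Fintype.ofFinite N
    rw [Nat.card_eq_fintype_card, Nat.card_eq_fintype_card, Fintype.card_subtype_compl]
    simp
  rw [← h3, Nat.card_eq_fintype_card, Nat.card_eq_fintype_card, h1]
  exact Dvd.intro_left _ rfl

/-! ### the structure of `[F,a]` -/

theorem conj_mem_FA {F : Subgroup H} [hFn : F.Normal] {a g : H} (hg : g * a = a * g) {k : H}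
    (hk : k ∈ cmm F (Subgroup.zpowers a)) : g * k * g⁻¹ ∈ cmm F (Subgroup.zpowers a) := by
  refine conj_mem_cmm (fun f hf => hFn.conj_mem f hf g) ?_ hk
  rintro _ ⟨i, rfl⟩
  have h1 : Commute g (a ^ i) := (show Commute g a from hg).zpow_right i
  change g * a ^ i * g⁻¹ ∈ Subgroup.zpowers a
  rw [h1.eq, mul_inv_cancel_right]
  exact Subgroup.zpow_mem_zpowers a i

/-- `[F,a] = ⟨x⟩ ≤ Z(F)` of order 3 or 5, `|[M,x]| = 16` -/
structure Cyc (M : Type*) [AddCommGroup M] [DistribMulAction H M] (a : H) (F : Subgroup H)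
    (x : H) : Prop where
  mem : x ∈ F
  cen : ∀ f ∈ F, f * x = x * f
  inv : a * x * a⁻¹ = x⁻¹
  ord : orderOf x = 3 ∨ orderOf x = 5
  card : Nat.card (br M x) = 16
  cxe : cx M a x = br M a
  FA : cmm F (Subgroup.zpowers a) = Subgroup.zpowers x

/-- an involution acts on an abelian odd order set-up: `y (a y a⁻¹)` commutes with `a` -/
theorem comm_prod {a y : H} (hsq : a * a = 1) (hc : y * (a * y * a⁻¹) = a * y * a⁻¹ * y) :
    (y * (a * y * a⁻¹)) * a = a * (y * (a * y * a⁻¹)) := by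
  have ha : a⁻¹ = a := inv_eq_of_mul_eq_one_right hsq
  rw [ha] at hc ⊢
  have e1 : y * (a * y * a) * a = y * (a * y) * (a * a) := by group
  have e2 : a * (y * (a * y * a)) = a * (y * (a * y * a)) * 1 := by rw [mul_one]
  rw [e1, hsq, mul_one, hc]
  have e3 : a * (a * y * a * y) = (a * a) * y * (a * y) := by group
  rw [e3, hsq, one_mul]

namespace Ctx

variable {v0 : M} {a : H} {T : Subgroup H} [Finite H] [Finite M] [FaithfulSMul H M]

/-- a natural element of `F` inverted by `a`, or `Cyc` -/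
theorem exists_struct (c : Ctx v0 a T) (h4 : Nat.card (br M a) = 4) {p : ℕ} (hp : p.Prime)
    (hp2 : p ≠ 2) {F : Subgroup H} [hFn : F.Normal] (hF : IsPGroup p F)
    (hFa : ∃ f ∈ F, f * a ≠ a * f) :
    (∃ x ∈ F, Nat.card (br M x) = 4 ∧ a * x * a⁻¹ = x⁻¹) ∨ ∃ x, Cyc M a F x := by
  have : Fact p.Prime := ⟨hp⟩
  set P := cmm F (Subgroup.zpowers a) with hP
  have hPF : P ≤ F := cmm_le fun b _ f hf => hFn.conj_mem f hf b
  have hPp : IsPGroup p P := hF.to_le hPF
  have hodd : ∀ f ∈ F, Odd (orderOf f) := fun f hf => odd_orderOf_of_isPGroup hp hp2 hF hf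
  have hgen : ∀ f ∈ F, f * a * f⁻¹ * a⁻¹ ∈ P := fun f hf =>
    Subgroup.subset_closure ⟨f, hf, a, Subgroup.mem_zpowers a, rfl⟩
  have hP1 : P ≠ ⊥ := by
    obtain ⟨f, hf, hne⟩ := hFa
    intro h
    apply hne
    have h1 : f * a * f⁻¹ * a⁻¹ = 1 := by
      have := hgen f hf
      rwa [h, Subgroup.mem_bot] at this
    exact mul_inv_eq_iff_eq_mul.mp (mul_inv_eq_one.mp h1)
  -- central element
  obtain ⟨x, hxP, hxF, hx1⟩ : ∃ x ∈ P, (∀ f ∈ F, f * x = x * f) ∧ x ≠ 1 := by
    have hN : (P.subgroupOf F).Normal := by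
      refine ⟨fun n hn g => ?_⟩
      rw [Subgroup.mem_subgroupOf] at hn ⊢
      exact conj_mem_cmm' g.2 hn
    have hN1 : P.subgroupOf F ≠ ⊥ := by
      intro h
      apply hP1
      rw [Subgroup.subgroupOf_eq_bot] at h
      rw [eq_bot_iff]
      intro g hg
      exact h.le_bot ⟨hg, hPF hg⟩
    obtain ⟨z, hz, hzc, hz1⟩ :=
      Cfsg.Agent.GTwoFour.Tools.exists_mem_center_of_normal hF (P.subgroupOf F) hN1
    refine ⟨z, hz, fun f hf => ?_, fun h => hz1 (Subtype.ext h)⟩
    have := (Subgroup.mem_center_iff.mp hzc) ⟨f, hf⟩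
    exact congrArg Subtype.val this
  -- a nontrivial central element of `P` does not commute with `a`
  have hdead : ∀ z ∈ P, (∀ f ∈ F, f * z = z * f) → z * a = a * z → z = 1 := by
    intro z hz hzF hza
    have hzo := hodd z (hPF hz)
    have h1 : P ≤ into (fx M z) := by
      rw [hP, cmm, Subgroup.closure_le]
      rintro _ ⟨f, hf, b, ⟨i, rfl⟩, rfl⟩
      change br M (f * a ^ i * f⁻¹ * (a ^ i)⁻¹) ≤ fx M z
      have h2 : br M (a ^ i) ≤ fx M z := fun m hm => c.odd_triv h4 hzo hza (br_zpow_le a i hm)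
      refine (br_mul_le _ _).trans (sup_le ?_ ?_)
      · rw [← smul_br]
        intro m hm
        rw [AddSubgroup.mem_smul_pointwise_iff_exists] at hm
        obtain ⟨n, hn, rfl⟩ := hm
        exact smul_mem_fx_of_comm (hzF f hf) (h2 hn)
      · rw [br_inv]
        exact h2
    exact eq_one_of_fix c.two hzo fun m hm => h1 hz hm
  have hxa : a * x * a⁻¹ = x⁻¹ := by
    have haP : a * x * a⁻¹ ∈ P := conj_mem_FA rfl hxP
    have haF : ∀ f ∈ F, f * (a * x * a⁻¹) = a * x * a⁻¹ * f := by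
      intro f hf
      have h1 := hxF (a⁻¹ * f * a) (by simpa using hFn.conj_mem f hf a⁻¹)
      have e1 : f * (a * x * a⁻¹) = a * (a⁻¹ * f * a * x) * a⁻¹ := by group
      rw [e1, h1]
      group
    have hcx : x * (a * x * a⁻¹) = a * x * a⁻¹ * x := haF x (hPF hxP)
    have h2 : x * (a * x * a⁻¹) = 1 := by
      refine hdead _ (mul_mem hxP haP) (fun f hf => ?_) (comm_prod c.sq hcx)
      rw [← mul_assoc, hxF f hf, mul_assoc, haF f hf, ← mul_assoc x]
    exact eq_inv_of_mul_eq_one_right h2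
  have hxo := hodd x (hPF hxP)
  rcases c.inv_cases hxo hxa hx1 with ⟨-, h⟩ | ⟨-, h16, -, hcx⟩
  · exact Or.inl ⟨x, hPF hxP, h, hxa⟩
  have hle : br M a ≤ br M x := hcx ▸ (inf_le_left : cx M a x ≤ br M x)
  have hPD : P ≤ into (br M x) := by
    rw [hP, cmm, Subgroup.closure_le]
    rintro _ ⟨f, hf, b, ⟨i, rfl⟩, rfl⟩
    change br M (f * a ^ i * f⁻¹ * (a ^ i)⁻¹) ≤ br M x
    refine (br_mul_le _ _).trans (sup_le ?_ ?_)
    · rw [← smul_br]
      intro m hm
      rw [AddSubgroup.mem_smul_pointwise_iff_exists] at hm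
      obtain ⟨n, hn, rfl⟩ := hm
      exact smul_mem_br_of_comm (hxF f hf) (hle (br_zpow_le a i hn))
    · rw [br_inv]
      exact (br_zpow_le a i).trans hle
  have hdvd : Nat.card P ∣ 20160 :=
    (card_dvd_addAut c.two (fun k hk => hPD hk) (fun k hk => hodd k (hPF hk))).trans
      (card_addAut_dvd c.two (by rw [h16]))
  by_cases hsr : ∀ g ∈ P, ∀ m ∈ br M x, m ≠ 0 → g • m = m → g = 1
  · right
    have h15 : Nat.card P ∣ 15 := by
      have := card_dvd_of_semireg (P := P) (N := br M x)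
        (fun g hg m hm => smul_mem_br_of_comm (hxF g (hPF hg)) hm) hsr
      rwa [h16] at this
    obtain ⟨k, hk⟩ := IsPGroup.iff_card.mp hPp
    have hk1 : k ≠ 0 := by
      rintro rfl
      exact hP1 (Subgroup.card_eq_one.mp (by simpa using hk))
    have hp15 : p ∣ 15 := by
      refine dvd_trans ?_ h15
      rw [hk]
      exact dvd_pow_self p hk1
    have hp35 : p = 3 ∨ p = 5 := by
      have h1 : p ∣ 3 * 5 := hp15
      rcases (Nat.Prime.dvd_mul hp).mp h1 with h | h
      · exact Or.inl ((Nat.prime_dvd_prime_iff_eq hp Nat.prime_three).mp h)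
      · exact Or.inr ((Nat.prime_dvd_prime_iff_eq hp Nat.prime_five).mp h)
    have hk2 : k = 1 := by
      by_contra hcon
      have h2 : 2 ≤ k := by omega
      have h3 : p ^ 2 ∣ 15 := (pow_dvd_pow p h2).trans (hk ▸ h15)
      rcases hp35 with rfl | rfl <;> revert h3 <;> decide
    subst hk2
    rw [pow_one] at hk
    have hxo' : orderOf x = p := by
      have h1 : orderOf x ∣ p := by
        rw [← hk]
        exact Subgroup.orderOf_dvd_natCard P hxP
      rcases (Nat.dvd_prime hp).mp h1 with h | h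
      · exact absurd (orderOf_eq_one_iff.mp h) hx1
      · exact h
    refine ⟨x, hPF hxP, hxF, hxa, by rwa [hxo'], h16, hcx, ?_⟩
    symm
    refine Subgroup.eq_of_le_of_card_ge (Subgroup.zpowers_le.mpr hxP) ?_
    rw [Nat.card_zpowers, hxo', hk]
  · left
    push Not at hsr
    obtain ⟨y, hyP, m, hm, hm0, hym, hy1⟩ := hsr
    have hPc : ∀ g ∈ P, ∀ g' ∈ P, g * g' = g' * g := by
      intro g hg g' hg'
      exact congrArg Subtype.val (comm_of_card hp hp2 hPp hdvd ⟨g, hg⟩ ⟨g', hg'⟩)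
    have hya : a * y * a⁻¹ = y⁻¹ := by
      have haP : a * y * a⁻¹ ∈ P := conj_mem_FA rfl hyP
      have hc := hPc y hyP _ haP
      have h2 : y * (a * y * a⁻¹) = 1 := by
        have hmem : y * (a * y * a⁻¹) ∈ P := mul_mem hyP haP
        exact c.dead h4 hxo hxa hcx (hodd _ (hPF hmem)) (comm_prod c.sq hc)
          (hxF _ (hPF hmem)) (hPD hmem)
      exact eq_inv_of_mul_eq_one_right h2
    have hyo := hodd y (hPF hyP)
    rcases c.inv_cases hyo hya hy1 with ⟨-, h⟩ | ⟨-, h16', -, -⟩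
    · exact ⟨y, hPF hyP, h, hya⟩
    · exfalso
      have h1 : br M y = br M x := AddSubgroup.eq_of_le_of_card_ge (hPD hyP) (by rw [h16, h16'])
      rw [← h1] at hm
      exact hm0 (br_inf_fx c.two hyo hm hym)

end Ctx

end Cfsg.Agent.Omega.NO3S.Fit.Abs

end

section


/-!
# Text #13963, (3.5): the case `[F,a] = ⟨x⟩ ≤ Z(F)` of order 3 or 5, `|[M,x]| = 16`

* `Cyc.no_move` (contains (3.6)): `h • v0 ∈ [M,a]` ==> `h • v0 = v0`;
* `Cyc.t5`: the output (T5).
-/

set_option autoImplicit false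
set_option linter.unusedSectionVars false

open scoped Pointwise

namespace Cfsg.Agent.Omega.NO3S.Fit.Abs

variable {H M : Type*} [Group H] [AddCommGroup M] [DistribMulAction H M]

theorem exists_sqrt {y : H} (hy : Odd (orderOf y)) : ∃ s ∈ Subgroup.zpowers y, s * s = y := by
  obtain ⟨k, hk⟩ := hy
  refine ⟨y ^ (k + 1), Subgroup.npow_mem_zpowers y (k + 1), ?_⟩
  rw [← pow_add, show k + 1 + (k + 1) = (2 * k + 1) + 1 by ring, pow_succ, ← hk,
    pow_orderOf_eq_one, one_mul]

theorem inv_of_mem_zpowers {a x s : H} (hi : a * x * a⁻¹ = x⁻¹) (hs : s ∈ Subgroup.zpowers x) :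
    a * s * a⁻¹ = s⁻¹ := by
  obtain ⟨i, rfl⟩ := hs
  change a * x ^ i * a⁻¹ = (x ^ i)⁻¹
  rw [← conj_zpow, hi, inv_zpow]

theorem br_le_of_mem_zpowers {x s : H} (hs : s ∈ Subgroup.zpowers x) : br M s ≤ br M x := by
  obtain ⟨i, rfl⟩ := hs
  exact br_zpow_le x i

theorem smul_eq_of_mem_zpowers {x s : H} {m : M} (hs : s ∈ Subgroup.zpowers x)
    (h : x • m = m) : s • m = m := by
  have h1 : x ∈ MulAction.stabilizer H m := h
  exact (Subgroup.zpowers_le.mpr h1) hs

theorem comm_of_mem_zpowers {x y s : H} (hs : s ∈ Subgroup.zpowers x) (h : y * x = x * y) :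
    y * s = s * y := by
  obtain ⟨i, rfl⟩ := hs
  exact ((show Commute y x from h).zpow_right i).eq

namespace Cyc

variable {v0 : M} {a : H} {T : Subgroup H} {F : Subgroup H} {x : H}

theorem odd (K : Cyc M a F x) : Odd (orderOf x) := by
  rcases K.ord with h | h <;> rw [h] <;> decide

theorem ne_one (K : Cyc M a F x) : x ≠ 1 := by
  intro h
  rcases K.ord with h' | h' <;> rw [h, orderOf_one] at h' <;> omega

theorem br_le (K : Cyc M a F x) : br M a ≤ br M x := K.cxe ▸ (inf_le_left : cx M a x ≤ br M x)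

theorem prime (K : Cyc M a F x) : (orderOf x).Prime := by
  rcases K.ord with h | h <;> rw [h] <;> norm_num

/-- a nontrivial element of `⟨x⟩` generates it -/
theorem mem_zpowers_of (K : Cyc M a F x) {s : H} (hs : s ∈ Subgroup.zpowers x) (hs1 : s ≠ 1) :
    x ∈ Subgroup.zpowers s := by
  have : Fact (orderOf x).Prime := ⟨K.prime⟩
  have h1 : Nat.card (Subgroup.zpowers x) = orderOf x := Nat.card_zpowers x
  have h2 : Subgroup.zpowers s ≤ Subgroup.zpowers x := Subgroup.zpowers_le.mpr hs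
  have hfin : Finite (Subgroup.zpowers x) :=
    Nat.finite_of_card_ne_zero (by rw [h1]; exact K.prime.ne_zero)
  have h3 : Nat.card (Subgroup.zpowers s) ∣ orderOf x := by
    rw [← h1]
    exact Subgroup.card_dvd_of_le h2
  have h4 : Nat.card (Subgroup.zpowers s) = orderOf x := by
    rcases (Nat.dvd_prime K.prime).mp h3 with h | h
    · exfalso
      apply hs1
      have := Subgroup.card_eq_one.mp h
      exact Subgroup.zpowers_eq_bot.mp this
    · exact h
  have h5 : Subgroup.zpowers s = Subgroup.zpowers x :=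
    Subgroup.eq_of_le_of_card_ge h2 (by rw [h1, h4])
  rw [h5]
  exact Subgroup.mem_zpowers x

variable [Finite H] [Finite M] [FaithfulSMul H M]

/-- `F` acts on `D = [M,x]` as `⟨x⟩` -/
theorem act (K : Cyc M a F x) (c : Ctx v0 a T) (h4 : Nat.card (br M a) = 4)
    (hodd : ∀ f ∈ F, Odd (orderOf f)) {f : H} (hf : f ∈ F) :
    ∃ s ∈ Subgroup.zpowers x, ∀ m ∈ br M x, f • m = s • m := by
  have h1 : f * a * f⁻¹ * a⁻¹ ∈ Subgroup.zpowers x := by
    rw [← K.FA]
    exact Subgroup.subset_closure ⟨f, hf, a, Subgroup.mem_zpowers a, rfl⟩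
  have h1F : f * a * f⁻¹ * a⁻¹ ∈ F := (Subgroup.zpowers_le.mpr K.mem) h1
  obtain ⟨s, hs, hss⟩ := exists_sqrt (hodd _ h1F)
  have hsx : s ∈ Subgroup.zpowers x := (Subgroup.zpowers_le.mpr h1) hs
  have hsF : s ∈ F := (Subgroup.zpowers_le.mpr K.mem) hsx
  have hsi := inv_of_mem_zpowers K.inv hsx
  have hga : s⁻¹ * f * a = a * (s⁻¹ * f) := by
    have e1 : s⁻¹ * f * a = s⁻¹ * (f * a * f⁻¹ * a⁻¹) * a * f := by group
    have e2 : a * s⁻¹ * a⁻¹ = s := inv_symm hsi
    rw [e1, ← hss]
    have e3 : s⁻¹ * (s * s) * a * f = s * a * f := by group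
    rw [e3]
    nth_rewrite 1 [← e2]
    group
  have hsxc : x * s = s * x := comm_of_mem_zpowers hsx rfl
  have hgx : s⁻¹ * f * x = x * (s⁻¹ * f) := by
    have h2 : Commute f x := K.cen f hf
    have h3 : Commute s x := hsxc.symm
    exact (h3.inv_left.mul_left h2).eq
  refine ⟨s, hsx, fun m hm => ?_⟩
  have h5 := c.odd_triv_D h4 K.odd K.inv K.cxe (hodd _ (mul_mem (inv_mem hsF) hf)) hga hgx hm
  rw [mul_smul, inv_smul_eq_iff] at h5
  exact h5

/-- blocks `[M,x]`, `h [M,x]` with nonzero intersection are equal -/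
theorem conj_mem (K : Cyc M a F x) [hFn : F.Normal] (c : Ctx v0 a T) (h4 : Nat.card (br M a) = 4)
    (hodd : ∀ f ∈ F, Odd (orderOf f)) {h : H} {u : M} (hu0 : u ≠ 0) (hu : u ∈ br M x)
    (hu' : u ∈ br M (h * x * h⁻¹)) : h * x * h⁻¹ ∈ Subgroup.zpowers x := by
  have hxF : h * x * h⁻¹ ∈ F := hFn.conj_mem x K.mem h
  obtain ⟨s, hs, hsm⟩ := K.act c h4 hodd hxF
  have hs1 : s ≠ 1 := by
    rintro rfl
    have h1 := hsm u hu
    rw [one_smul] at h1
    exact hu0 (br_inf_fx c.two (hodd _ hxF) hu' h1)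
  have hxs := K.mem_zpowers_of hs hs1
  have hle : br M x ≤ br M (h * x * h⁻¹) := by
    intro d hd
    obtain ⟨n, rfl⟩ := br_le_of_mem_zpowers hxs hd
    obtain ⟨n1, hn1, n2, hn2, rfl⟩ := exists_decomp c.two K.odd n
    refine ⟨n1, ?_⟩
    rw [hsm n1 hn1, smul_add, smul_eq_of_mem_zpowers hs hn2]
    abel
  have heq : br M x = br M (h * x * h⁻¹) :=
    AddSubgroup.eq_of_le_of_card_ge hle (by rw [card_br_conj])
  have h1 : h * x * h⁻¹ * s⁻¹ = 1 := by
    have hF' : h * x * h⁻¹ * s⁻¹ ∈ F :=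
      mul_mem hxF (inv_mem ((Subgroup.zpowers_le.mpr K.mem) hs))
    refine eq_one_of_fix c.two (hodd _ hF') fun m hm => ?_
    have hm' : m ∈ br M x := by
      have : br M (h * x * h⁻¹ * s⁻¹) ≤ br M x := by
        refine (br_mul_le _ _).trans (sup_le heq.ge ?_)
        rw [br_inv]
        exact br_le_of_mem_zpowers hs
      exact this hm
    have h2 : s⁻¹ • m ∈ br M x :=
      smul_mem_of_into (by rw [br_inv]; exact br_le_of_mem_zpowers hs) hm'
    rw [mul_smul, hsm _ h2, smul_inv_smul]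
  rw [mul_inv_eq_one.mp h1]
  exact hs

/-- `h • v0 ∈ [M,a]` ==> `h • v0 = v0` -/
theorem no_move (K : Cyc M a F x) [hFn : F.Normal] (c : Ctx v0 a T)
    (h4 : Nat.card (br M a) = 4) (hodd : ∀ f ∈ F, Odd (orderOf f)) {h : H}
    (hh : h • v0 ∈ br M a) : h • v0 = v0 := by
  by_contra hne
  have hw0 : h • v0 ≠ 0 := fun e => c.ne ((smul_eq_zero_iff_eq h).mp e)
  have hcm := c.conj_comm hh
  have h1 : (h * a * h⁻¹) • v0 = v0 := c.pl h4 _ hcm
  have h2 : (h * a * h⁻¹) • h • v0 = h • v0 := by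
    rw [mul_smul, mul_smul, inv_smul_smul, c.fix]
  have htriv : ∀ m ∈ br M a, (h * a * h⁻¹) • m = m := fun m hm =>
    c.triv_of_fix h4 hh hw0 hne h1 h2 hm
  have hx' : h * x * h⁻¹ ∈ Subgroup.zpowers x :=
    K.conj_mem c h4 hodd hw0 (K.br_le hh) (smul_mem_br_conj h (K.br_le c.v0_mem))
  have hx1' : h * x * h⁻¹ ≠ 1 := by
    intro e
    apply K.ne_one
    have : x = h⁻¹ * (h * x * h⁻¹) * h := by group
    rw [this, e]
    group
  have hinv : h * a * h⁻¹ * x * (h * a * h⁻¹)⁻¹ = x⁻¹ := by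
    refine inv_of_mem_zpowers (x := h * x * h⁻¹) ?_ (K.mem_zpowers_of hx' hx1')
    have e : h * a * h⁻¹ * (h * x * h⁻¹) * (h * a * h⁻¹)⁻¹ = h * (a * x * a⁻¹) * h⁻¹ := by group
    rw [e, K.inv]
    group
  have hfx : ∀ m ∈ fx M x, (h * a * h⁻¹) • m = m := by
    intro m hm
    have h3 : x • h⁻¹ • m = h⁻¹ • m := by
      have h4 := smul_eq_of_mem_zpowers hx' (show x • m = m from hm)
      rw [mul_smul, mul_smul] at h4
      rw [eq_inv_smul_iff]
      exact h4
    have h5 := c.triv_fx K.odd K.inv K.br_le (show h⁻¹ • m ∈ fx M x from h3)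
    rw [mul_smul, mul_smul, h5, smul_inv_smul]
  have heq := c.key_eq K.odd K.inv K.cxe hinv htriv hfx
  have hca : h * a = a * h := mul_inv_eq_iff_eq_mul.mp heq
  exact hne (c.pl h4 h hca)

/-- the sum over `⟨x⟩` vanishes on `[M,x]`, order 5 -/
theorem sum5 (c : Ctx v0 a T) (K : Cyc M a F x) (h5 : orderOf x = 5) {m : M} (hm : m ∈ br M x) :
    m + x • m + x ^ 2 • m + x ^ 3 • m + x ^ 4 • m = 0 := by
  have hmem : ∀ i : ℕ, x ^ i • m ∈ br M x := fun i =>
    smul_mem_of_into (br_pow_le x i) hm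
  have h1 := hmem 1
  rw [pow_one] at h1
  refine br_inf_fx c.two K.odd
    (add_mem (add_mem (add_mem (add_mem hm h1) (hmem 2)) (hmem 3)) (hmem 4)) ?_
  have e5 : x • x ^ 4 • m = m := by
    have h6 : x ^ (4 + 1) = 1 := by
      have := pow_orderOf_eq_one x
      rwa [h5] at this
    rw [← mul_smul, ← pow_succ', h6, one_smul]
  have e2 : x • x • m = x ^ 2 • m := by rw [← mul_smul, ← pow_two]
  have e3 : x • x ^ 2 • m = x ^ 3 • m := by rw [← mul_smul, ← pow_succ']
  have e4 : x • x ^ 3 • m = x ^ 4 • m := by rw [← mul_smul, ← pow_succ']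
  rw [smul_add, smul_add, smul_add, smul_add, e2, e3, e4, e5]
  abel

/-- order 3 -/
theorem sum3 (c : Ctx v0 a T) (K : Cyc M a F x) (h3 : orderOf x = 3) {m : M} (hm : m ∈ br M x) :
    m + x • m + x • x • m = 0 := by
  have h1 : x • m ∈ br M x := smul_mem_br_self hm
  have h2 : x • x • m ∈ br M x := smul_mem_br_self h1
  refine br_inf_fx c.two K.odd (add_mem (add_mem hm h1) h2) ?_
  have e3 : x • x • x • m = m := by
    have : x * (x * x) = 1 := by
      have := pow_orderOf_eq_one x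
      rwa [h3, pow_succ', pow_two] at this
    rw [← mul_smul, ← mul_smul, mul_assoc, this, one_smul]
  rw [smul_add, smul_add, e3]
  abel

/-- `v0^⟨x⟩` spans `[M,x]`, order 5 -/
theorem sp_eq (c : Ctx v0 a T) (K : Cyc M a F x) (h5 : orderOf x = 5) :
    sp (Subgroup.zpowers x) v0 = br M x := by
  have hv : v0 ∈ br M x := K.br_le c.v0_mem
  have hle : sp (Subgroup.zpowers x) v0 ≤ br M x :=
    sp_le fun k hk => smul_mem_of_into (br_le_of_mem_zpowers hk) hv
  refine AddSubgroup.eq_of_le_of_card_ge hle ?_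
  have h1 : Nat.card (Subgroup.zpowers x) ∣ Nat.card (sp (Subgroup.zpowers x) v0) - 1 := by
    refine card_dvd_of_semireg (fun g hg m hm => smul_mem_sp hg hm) ?_
    intro g hg m hm hm0 hgm
    by_contra hg1
    exact hm0 (br_inf_fx c.two K.odd (hle hm)
      (smul_eq_of_mem_zpowers (K.mem_zpowers_of hg hg1) hgm))
  rw [Nat.card_zpowers, h5] at h1
  obtain ⟨k, hk⟩ := exists_card_two_pow c.two (sp (Subgroup.zpowers x) v0)
  have hne : sp (Subgroup.zpowers x) v0 ≠ ⊥ := by
    intro h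
    apply c.ne
    have := mem_sp (v := v0) (one_mem (Subgroup.zpowers x))
    rw [h, one_smul] at this
    simpa using this
  have hk0 : k ≠ 0 := by
    rintro rfl
    exact hne (AddSubgroup.card_eq_one.mp (by simpa using hk))
  have hk4 : 4 ≤ k := by
    by_contra hcon
    push Not at hcon
    rw [hk] at h1
    interval_cases k <;> omega
  rw [K.card, hk]
  calc 16 = 2 ^ 4 := by norm_num
    _ ≤ 2 ^ k := Nat.pow_le_pow_right (by decide) hk4

end Cyc

/-- the output (T5) -/
structure T5 (v0 : M) (a d : H) : Prop where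
  five : d ^ 5 = 1
  inv : a * d * a⁻¹ = d⁻¹
  ne : d • v0 ≠ v0
  sum : v0 + d • v0 + d ^ 2 • v0 + d ^ 3 • v0 + d ^ 4 • v0 = 0
  card : Nat.card (br M d) = 16
  le : br M a ≤ br M d
  cxe : cx M a d = br M a
  spe : sp (Subgroup.zpowers d) v0 = br M d
  nor : ∀ h : H, h • v0 = v0 → h * d * h⁻¹ ∈ Subgroup.zpowers d
  frob : ∃ h : H, h • v0 = v0 ∧ h * d * h⁻¹ = d ^ 2

namespace Cyc

variable {v0 : M} {a : H} {T : Subgroup H} {F : Subgroup H} {x : H}
variable [Finite H] [Finite M] [FaithfulSMul H M]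

theorem nor (K : Cyc M a F x) [hFn : F.Normal] (c : Ctx v0 a T) {h : H} (hh : h • v0 = v0) :
    h * x * h⁻¹ ∈ Subgroup.zpowers x := by
  rw [← K.FA]
  refine conj_mem_FA (c.cen h hh) ?_
  rw [K.FA]
  exact Subgroup.mem_zpowers x

theorem ne_v0 (K : Cyc M a F x) (c : Ctx v0 a T) : x • v0 ≠ v0 := fun h =>
  c.ne (br_inf_fx c.two K.odd (K.br_le c.v0_mem) h)

/-- **(T5)** -/
theorem t5 (K : Cyc M a F x) [hFn : F.Normal] (c : Ctx v0 a T) (h4 : Nat.card (br M a) = 4)
    (h5 : orderOf x = 5) : T5 v0 a x := by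
  have hx5 : x ^ 5 = 1 := by rw [← h5, pow_orderOf_eq_one]
  refine ⟨hx5, K.inv, K.ne_v0 c, K.sum5 c h5 (K.br_le c.v0_mem), K.card, K.br_le, K.cxe,
    K.sp_eq c h5, fun h hh => K.nor c hh, ?_⟩
  obtain ⟨b, hb, hb0, hbv⟩ := c.exists_b h4
  obtain ⟨t, ht, htb⟩ := c.exists_swap h4 hb hb0 hbv
  have htv := c.T0 t ht
  -- an element of `H_0` commuting with `x` fixes `b`
  have key : ∀ g : H, g • v0 = v0 → g * x = x * g → g • b = b := by
    intro g hg hgx
    have h1 : sp (Subgroup.zpowers x) v0 ≤ fx M g := by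
      refine sp_le fun k hk => ?_
      rw [mem_fx, ← mul_smul, comm_of_mem_zpowers hk hgx, mul_smul, hg]
    rw [K.sp_eq c h5] at h1
    exact h1 (K.br_le hb)
  have hbne : t • b ≠ b := by
    rw [htb]
    intro h
    exact c.ne (by simpa using h)
  obtain ⟨n, hn, hn'⟩ : ∃ n < 5, x ^ n = t * x * t⁻¹ := by
    classical
    have h1 := K.nor c htv
    rw [mem_zpowers_iff_mem_range_orderOf] at h1
    obtain ⟨n, hn, h2⟩ := Finset.mem_image.mp h1
    exact ⟨n, by rw [h5] at hn; exact Finset.mem_range.mp hn, h2⟩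
  have hta : (t * a) • v0 = v0 := by rw [mul_smul, c.fix, htv]
  have htax : t * a * x * (t * a)⁻¹ = (t * x * t⁻¹)⁻¹ := by
    have e : t * a * x * (t * a)⁻¹ = t * (a * x * a⁻¹) * t⁻¹ := by group
    rw [e, K.inv]
    group
  interval_cases n
  · exfalso
    rw [pow_zero] at hn'
    apply K.ne_one
    have : x = t⁻¹ * (t * x * t⁻¹) * t := by group
    rw [this, ← hn']
    group
  · exfalso
    rw [pow_one] at hn'
    exact hbne (key t htv (mul_inv_eq_iff_eq_mul.mp hn'.symm))
  · exact ⟨t, htv, hn'.symm⟩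
  · refine ⟨t * a, hta, ?_⟩
    rw [htax, ← hn', inv_eq_iff_mul_eq_one, ← pow_add]
    exact hx5
  · exfalso
    have h1 : t * a * x * (t * a)⁻¹ = x := by
      rw [htax, ← hn', inv_eq_iff_mul_eq_one, ← pow_succ]
      exact hx5
    have h2 := key (t * a) hta (mul_inv_eq_iff_eq_mul.mp h1)
    rw [mul_smul, c.fix_br hb] at h2
    exact hbne h2

end Cyc

end Cfsg.Agent.Omega.NO3S.Fit.Abs

end

section


/-!
# NO-3S, natural lines, critical distance 1 (`OneQ`), helper279's (E) of #17428: the module part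

`H` acts faithfully on the 2-group `M` (additively written), `A ≤ H` elementary abelian and quadratic, `N` normal solvable of odd
order, `lam ≤ M` the line vector group, `E ≤ M` with `[E, A] ≤ lam` and `|M : E| ≤ |A|`; `LinRel` : an `F`-structure on `M / rad`
which commutes with `H` (relational form), `A` centralises `rad`, `lam` is 1-dimensional modulo `rad`.
If `A` is trivial on `[M, [N,A]]` or on `C_M([N,A])` (property (B) of #17428), then `A` centralises `N` (`comm_of`).
-/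

set_option autoImplicit false
set_option linter.unusedSectionVars false

namespace Cfsg.Agent.Omega.NO3S.OneQ.FitQ

open Subgroup Cfsg.Agent.Omega.NO3S.Fit.Abs

/-- an involution inverting an element, from a dihedral group -/
theorem exists_inv {H : Type*} [Group H] [Finite H] {B L : Subgroup H} {n : ℕ} (hB : Nat.card B = 2)
    (hL : Odd (Nat.card L)) (hn : Odd n) (h3 : 3 ≤ n) (e : ↥(B ⊔ L) ≃* DihedralGroup n) :
    ∃ a ∈ B, a ≠ 1 ∧ ∃ x ∈ L, x ≠ 1 ∧ a * x * a⁻¹ = x⁻¹ := by
  classical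
  obtain ⟨⟨a, ha⟩, ha1⟩ : ∃ a : B, a ≠ 1 := by
    have : Nontrivial B := by
      rw [← Finite.one_lt_card_iff_nontrivial, hB]; norm_num
    exact exists_ne 1
  have ha1' : a ≠ 1 := fun h => ha1 (Subtype.ext h)
  have haa : a * a = 1 := by
    have h1 : (⟨a, ha⟩ : B) ^ 2 = 1 := by rw [← hB]; exact pow_card_eq_one'
    have h2 := congrArg Subtype.val h1
    simpa [pow_two] using h2
  have hL1 : L ≠ ⊥ := by
    rintro rfl
    have h1 : Nat.card ↥(B ⊔ (⊥ : Subgroup H)) = 2 * n := by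
      rw [Nat.card_congr e.toEquiv, DihedralGroup.nat_card]
    rw [sup_bot_eq, hB] at h1
    omega
  obtain ⟨⟨x, hx⟩, hx1'⟩ := Subgroup.ne_bot_iff_exists_ne_one.1 hL1
  have hx1 : x ≠ 1 := fun h => hx1' (Subtype.ext h)
  refine ⟨a, ha, ha1', x, hx, hx1, ?_⟩
  have hxo : Odd (orderOf x) := by
    have h1 : orderOf (⟨x, hx⟩ : L) ∣ Nat.card L := orderOf_dvd_natCard _
    rw [Subgroup.orderOf_mk] at h1
    exact hL.of_dvd_nat h1
  let a' : ↥(B ⊔ L) := ⟨a, (le_sup_left : B ≤ B ⊔ L) ha⟩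
  let x' : ↥(B ⊔ L) := ⟨x, (le_sup_right : L ≤ B ⊔ L) hx⟩
  have hx'o : Odd (orderOf (e x')) := by
    rw [MulEquiv.orderOf_eq, Subgroup.orderOf_mk]
    exact hxo
  have ha' : e a' * e a' = 1 := by
    rw [← map_mul]
    have : a' * a' = 1 := Subtype.ext haa
    rw [this, map_one]
  have ha'1 : e a' ≠ 1 := by
    intro h
    apply ha1'
    have := (map_eq_one_iff e e.injective).1 h
    exact congrArg Subtype.val this
  have hx'1 : e x' ≠ 1 := by
    intro h
    apply hx1
    have := (map_eq_one_iff e e.injective).1 h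
    exact congrArg Subtype.val this
  have key : e a' * e x' * (e a')⁻¹ = (e x')⁻¹ := by
    revert ha' ha'1 hx'o hx'1
    generalize e a' = α
    generalize e x' = ξ
    intro hξo hαα hα1 hξ1
    cases α with
    | r i =>
      exfalso
      apply hα1
      rw [DihedralGroup.r_mul_r, DihedralGroup.one_def] at hαα
      have h1 : i + i = 0 := DihedralGroup.r.inj hαα
      have h2 : i = 0 := by
        obtain ⟨k, hk⟩ := hn
        have h3 : (n : ZMod n) = 0 := ZMod.natCast_self n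
        have h4 : ((2 * k + 1 : ℕ) : ZMod n) * i = 0 := by rw [← hk, h3, zero_mul]
        push_cast at h4
        have h5 : (2 * (k : ZMod n) + 1) * i = (k : ZMod n) * (i + i) + i := by ring
        rw [h5, h1, mul_zero, zero_add] at h4
        exact h4
      rw [h2]; rfl
    | sr i =>
      cases ξ with
      | r j => simp
      | sr j =>
        exfalso
        rw [DihedralGroup.orderOf_sr] at hξo
        exact absurd hξo (by decide)
  have h1 : a' * x' * a'⁻¹ = x'⁻¹ := by
    apply e.injective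
    rw [map_mul, map_mul, map_inv, map_inv]
    exact key
  have h2 := congrArg Subtype.val h1
  simpa using h2

/-- **Thompson's dihedral lemma** in the form used here -/
theorem exists_dih {H : Type*} [Group H] [Finite H] {L A : Subgroup H} (hLs : Group.IsSolvable L)
    (hLo : Odd (Nat.card L)) (hA : Cfsg.IsElementaryAbelian 2 A) {d : ℕ} (hd : 1 ≤ d) (hAd : Nat.card A = 2 ^ d)
    (hAL : ∀ a ∈ A, ∀ l ∈ L, a * l * a⁻¹ ∈ L) (hf : ∀ a ∈ A, (∀ l ∈ L, a * l = l * a) → a = 1) :
    ∃ a x : Fin d → H, (∀ i, a i ∈ A) ∧ (∀ i, x i ∈ L) ∧ (∀ i, x i ≠ 1) ∧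
      (∀ i, a i * x i * (a i)⁻¹ = (x i)⁻¹) ∧ (∀ i j, i ≠ j → a i * x j = x j * a i) ∧
      ∀ B : Subgroup H, (∀ i, a i ∈ B) → A ≤ B := by
  classical
  have hn : A ≤ normalizer (L : Set H) := by
    intro a ha
    rw [mem_normalizer_iff]
    intro l
    refine ⟨fun hl => hAL a ha l hl, fun hl => ?_⟩
    have := hAL a⁻¹ (inv_mem ha) _ hl
    simpa [mul_assoc] using this
  have hfa : A ⊓ centralizer (L : Set H) = ⊥ := by
    rw [eq_bot_iff]
    intro a ha
    rw [mem_bot]
    refine hf a ha.1 fun l hl => ?_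
    exact (mem_centralizer_iff.1 ha.2 l hl).symm
  obtain ⟨Ai, Li, n, h1, h2, h3⟩ := Cfsg.Agent.S1349.result L A hLs hLo hA d hd hAd hn hfa
  choose hAi hAc hLi hodd hn3 he using h1
  have hLio : ∀ i, Odd (Nat.card (Li i)) := fun i => hLo.of_dvd_nat (card_dvd_of_le (hLi i))
  have h4 : ∀ i, ∃ a ∈ Ai i, a ≠ 1 ∧ ∃ x ∈ Li i, x ≠ 1 ∧ a * x * a⁻¹ = x⁻¹ := fun i =>
    exists_inv (hAc i) (hLio i) (hodd i) (hn3 i) (he i).some
  choose a ha ha1 x hx hx1 hax using h4
  refine ⟨a, x, fun i => hAi i (ha i), fun i => hLi i (hx i), hx1, hax, ?_, ?_⟩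
  · intro i j hij
    exact h3 i j hij _ ((le_sup_left : Ai i ≤ _) (ha i)) _ ((le_sup_right : Li j ≤ _) (hx j))
  · intro B hB
    rw [← h2]
    refine iSup_le fun i => ?_
    have h5 : zpowers (a i) = Ai i := by
      apply eq_of_le_of_card_ge
      · rw [zpowers_le]; exact ha i
      · rw [hAc i]
        have h6 : 1 < Nat.card (zpowers (a i)) := by
          rw [Finite.one_lt_card_iff_nontrivial]
          refine ⟨⟨⟨a i, mem_zpowers _⟩, 1, fun h => ha1 i (congrArg Subtype.val h)⟩⟩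
        exact h6
    rw [← h5, zpowers_le]
    exact hB i

section Main

variable {H M : Type*} [Group H] [AddCommGroup M] [DistribMulAction H M] [Finite H]

/-- `A` is trivial on `C_M([N,A])` and faithful on `N` -/
theorem faithful [FaithfulSMul H M] (two : ∀ m : M, m + m = 0) {A N : Subgroup H}
    (hq : ∀ a ∈ A, ∀ b ∈ A, ∀ m : M, a • (b • m - m) = b • m - m) (hNo : Odd (Nat.card N))
    (hAN : ∀ a ∈ A, ∀ f ∈ N, a * f * a⁻¹ ∈ N)
    (hB : (∀ a ∈ A, ∀ m ∈ brs M (cmm N A), a • m = m) ∨ (∀ a ∈ A, ∀ m ∈ fxs M (cmm N A), a • m = m))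
    (hne : ∃ a ∈ A, ∃ f ∈ N, a * f ≠ f * a) :
    ∀ b ∈ A, (∀ f ∈ N, b * f = f * b) → b = 1 := by
  classical
  set P := cmm N A with hP
  have hPF : P ≤ N := cmm_le hAN
  have hPodd : Odd (Nat.card P) := Odd.of_dvd_nat hNo (Subgroup.card_dvd_of_le hPF)
  have key : ∀ U : AddSubgroup M, (∀ f ∈ N, ∀ u ∈ U, f • u ∈ U) → (∀ a ∈ A, ∀ u ∈ U, a • u = u) →
      ∀ k ∈ P, ∀ u ∈ U, k • u = u := by
    intro U hU1 hU2 k hk u hu
    have : P ≤ MulAction.stabilizer H u := by
      rw [hP, cmm, Subgroup.closure_le]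
      rintro _ ⟨f, hf, a, ha, rfl⟩
      change (f * a * f⁻¹ * a⁻¹) • u = u
      have h1 : a⁻¹ • u = u := by rw [inv_smul_eq_iff, hU2 a ha u hu]
      have h2 : f⁻¹ • u ∈ U := hU1 _ (inv_mem hf) u hu
      rw [mul_smul, mul_smul, mul_smul, h1, hU2 a ha _ h2, smul_inv_smul]
    exact this hk
  have hPA : ∀ a ∈ A, ∀ k ∈ P, a * k * a⁻¹ ∈ P := fun a ha k hk =>
    conj_mem_cmm (hAN a ha) (fun b hb => mul_mem (mul_mem ha hb) (inv_mem ha)) hk
  -- A is nontrivial on [M,P]
  have hA1 : ¬ ∀ a ∈ A, ∀ m ∈ brs M P, a • m = m := by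
    intro hcon
    have h1 : ∀ k ∈ P, ∀ u ∈ brs M P, k • u = u := by
      refine key (brs M P) (fun f hf u hu => smul_mem_brs (fun k hk => conj_mem_cmm' hf hk) hu)
        (fun a ha u hu => hcon a ha u hu)
    have h2 : ∀ k ∈ P, k = 1 := by
      intro k hk
      refine FaithfulSMul.eq_of_smul_eq_smul (α := M) fun m => ?_
      have h3 : k • m - m ∈ brs M P := br_le_brs hk (sub_mem_br k m)
      have h4 : k • m - m ∈ fxs M P := mem_fxs.mpr fun g hg => h1 g hg _ h3
      rw [one_smul]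
      exact sub_eq_zero.mp (brs_inf_fxs two hPodd h3 h4)
    obtain ⟨a, ha, f, hf, hne⟩ := hne
    apply hne
    have h3 : f * a * f⁻¹ * a⁻¹ = 1 := h2 _ (Subgroup.subset_closure ⟨f, hf, a, ha, rfl⟩)
    have h4 : f * a = a * f := mul_inv_eq_iff_eq_mul.mp (mul_inv_eq_one.mp h3)
    exact h4.symm
  have hA2 : ∀ a ∈ A, ∀ m ∈ fxs M P, a • m = m := hB.resolve_left hA1
  intro b hb hbN
  refine FaithfulSMul.eq_of_smul_eq_smul (α := M) fun m => ?_
  rw [one_smul]
  obtain ⟨d, hd, c, hc, rfl⟩ := exists_decomp_sub two hPodd m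
  rw [smul_add, hA2 b hb c hc]
  congr 1
  -- `[M,b]` is centralised by `P`
  have hbP : ∀ k ∈ P, b * k * b⁻¹ ∈ P := hPA b hb
  have h1 : b • d - d ∈ brs M P := sub_mem (smul_mem_brs hbP hd) hd
  have h2 : ∀ k ∈ P, ∀ u ∈ br M b, k • u = u := by
    refine key (br M b) ?_ ?_
    · rintro f hf _ ⟨n, rfl⟩
      refine ⟨f • n, ?_⟩
      rw [← mul_smul, hbN f hf, mul_smul, smul_sub]
    · rintro a ha _ ⟨n, rfl⟩
      exact hq a ha b hb n
  have h3 : b • d - d ∈ fxs M P := mem_fxs.mpr fun k hk => h2 k hk _ ⟨d, rfl⟩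
  exact sub_eq_zero.mp (brs_inf_fxs two hPodd h1 h3)

theorem odd_of_mem {N : Subgroup H} (hNo : Odd (Nat.card N)) {x : H} (hx : x ∈ N) : Odd (orderOf x) := by
  have h1 : orderOf (⟨x, hx⟩ : N) ∣ Nat.card N := orderOf_dvd_natCard _
  rw [Subgroup.orderOf_mk] at h1
  exact hNo.of_dvd_nat h1

/-- `Mul c m m'` : `m' = c m` modulo `rad`, for an `F`-structure on `M / rad` which commutes with `H`; `A` centralises
`rad` -/
structure LinRel (H : Type*) {M F : Type*} [Group H] [AddCommGroup M] [DistribMulAction H M] (A : Subgroup H)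
    (rad : AddSubgroup M) (Mul : F → M → M → Prop) : Prop where
  inv : ∀ (x : H), ∀ m ∈ rad, x • m ∈ rad
  cen : ∀ a ∈ A, ∀ m ∈ rad, a • m = m
  ex : ∀ c m, ∃ m', Mul c m m'
  smul : ∀ c m m' (x : H), Mul c m m' → Mul c (x • m) (x • m')
  sub : ∀ c m m' n n', Mul c m m' → Mul c n n' → Mul c (m - n) (m' - n')
  zero : ∀ c m, Mul c 0 m → m ∈ rad
  inj : ∀ c c' m m', Mul c m m' → Mul c' m m' → c ≠ c' → m ∈ rad

/-- **(E) of #17428, module part**: `A` centralises `N` -/
theorem comm_of [Finite M] [FaithfulSMul H M] (two : ∀ m : M, m + m = 0) {A N : Subgroup H}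
    (hq : ∀ a ∈ A, ∀ b ∈ A, ∀ m : M, a • (b • m - m) = b • m - m)
    (hA : Cfsg.IsElementaryAbelian 2 A) (hNs : Group.IsSolvable N) (hNo : Odd (Nat.card N))
    (hAN : ∀ a ∈ A, ∀ f ∈ N, a * f * a⁻¹ ∈ N)
    (hB : (∀ a ∈ A, ∀ m ∈ brs M (cmm N A), a • m = m) ∨ (∀ a ∈ A, ∀ m ∈ fxs M (cmm N A), a • m = m))
    {lam E : AddSubgroup M} (hlam : ∀ a ∈ A, ∀ v ∈ lam, a • v = v)
    (hE : ∀ a ∈ A, ∀ m ∈ E, a • m - m ∈ lam) (hEi : E.index ≤ Nat.card A)
    (hst : ∀ x : H, (∀ v ∈ lam, x • v = v) → ∀ a ∈ A, x * a * x⁻¹ ∈ A)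
    {F : Type*} {Mul : F → M → M → Prop} {rad : AddSubgroup M} (L : LinRel H A rad Mul)
    (hlin : ∀ u ∈ lam, u ≠ 0 → ∀ v ∈ lam, ∃ c : F, Mul c u v)
    (hF : 4 ≤ Nat.card F) (hA4 : 2 < Nat.card A) :
    ∀ a ∈ A, ∀ f ∈ N, a * f = f * a := by
  classical
  by_contra hcon
  push Not at hcon
  obtain ⟨a0, ha0, f0, hf0, hne0⟩ := hcon
  have hf := faithful two hq hNo hAN hB ⟨a0, ha0, f0, hf0, hne0⟩
  -- the rank
  have hA2 : ∀ b ∈ A, b * b = 1 := fun b hb => by rw [← pow_two]; exact hA.2 b hb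
  have hAp : IsPGroup 2 A := fun g => ⟨1, Subtype.ext (by
    rw [pow_one, Subgroup.coe_pow, pow_two]; exact hA2 _ g.2)⟩
  obtain ⟨d, hAd⟩ : ∃ d : ℕ, Nat.card A = 2 ^ d := IsPGroup.iff_card.mp hAp
  have hd2 : 2 ≤ d := by
    by_contra hlt
    push Not at hlt
    interval_cases d
    · rw [hAd] at hA4; norm_num at hA4
    · rw [hAd] at hA4; norm_num at hA4
  obtain ⟨a, x, ha, hx, hx1, hinv, hcom, hgen⟩ := exists_dih hNs hNo hA (by omega) hAd hAN hf
  have hxo : ∀ i, Odd (orderOf (x i)) := fun i => odd_of_mem hNo (hx i)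
  -- `a j` is trivial on `[M, x i]`
  have htr : ∀ i j, i ≠ j → ∀ m ∈ br M (x i), a j • m = m := fun i j hij m hm =>
    triv_on_br two (hxo i) (hinv i) (fun m => hq _ (ha i) _ (ha j) m) (hcom j i (Ne.symm hij)) hm
  -- `x i` fixes no vector of `lam`
  have hfix : ∀ i, ∀ v ∈ lam, x i • v = v → v = 0 := by
    intro i v hv hxv
    by_contra hv0
    have h1 : ∀ w ∈ lam, x i • w - w ∈ rad := by
      intro w hw
      obtain ⟨c, hc⟩ := hlin v hv hv0 w hw
      have h2 := L.sub _ _ _ _ _ (L.smul _ _ _ (x i) hc) hc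
      rw [hxv, sub_self] at h2
      exact L.zero _ _ h2
    have h2 : ∀ w ∈ lam, x i • w = w := by
      intro w hw
      have h3 : a i • (x i • w) = x i • w := by
        have h4 := L.cen _ (ha i) _ (h1 w hw)
        rw [smul_sub, hlam _ (ha i) w hw] at h4
        exact sub_left_inj.mp h4
      rw [inv_smul_of_inv (hinv i) (hlam _ (ha i) w hw)] at h3
      refine fix_of_sq (hxo i) ?_
      rw [← h3, smul_inv_smul]
    have h5 := hst (x i) h2 (a i) (ha i)
    have h6 : x i * a i * (x i)⁻¹ = x i * x i * a i := by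
      have h8 : a i * (x i)⁻¹ = x i * a i := mul_inv_eq_iff_eq_mul.mp (inv_symm (hinv i))
      rw [mul_assoc, h8, mul_assoc]
    have h7 : x i * x i ∈ A := by
      have : x i * x i = x i * a i * (x i)⁻¹ * (a i)⁻¹ := by rw [h6]; group
      rw [this]
      exact mul_mem h5 (inv_mem (ha i))
    have h8 := hA2 _ h7
    have h9 : (x i) ^ 4 = 1 := by
      rw [show (4 : ℕ) = 2 + 2 from rfl, pow_add, pow_two]; exact h8
    have h10 : orderOf (x i) ∣ 4 := orderOf_dvd_of_pow_eq_one h9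
    have h11 : Nat.Coprime (orderOf (x i)) 4 := by
      have h12 : Nat.Coprime (orderOf (x i)) 2 := (Nat.coprime_two_right).mpr (hxo i)
      exact Nat.Coprime.mul_right h12 h12
    have h12 : orderOf (x i) = 1 := Nat.Coprime.eq_one_of_dvd h11 h10
    exact hx1 i (orderOf_eq_one_iff.mp h12)
  -- `a j` is trivial on `E`
  have hEa : ∀ j, ∀ m ∈ E, a j • m = m := by
    intro j m hm
    obtain ⟨i, hij⟩ : ∃ i : Fin d, i ≠ j := by
      have : Nontrivial (Fin d) := Fin.nontrivial_iff_two_le.mpr hd2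
      exact exists_ne j
    have h1 : a j • m - m ∈ lam := hE _ (ha j) m hm
    have h2 : x i • (a j • m - m) = a j • m - m := by
      obtain ⟨m1, hm1, m2, hm2, rfl⟩ := exists_decomp two (hxo i) m
      have h3 : a j • (m1 + m2) - (m1 + m2) = a j • m2 - m2 := by
        rw [smul_add, htr i j hij m1 hm1]; abel
      rw [h3, smul_sub, ← mul_smul, ← hcom j i (Ne.symm hij), mul_smul, mem_fx.mp hm2]
    exact sub_eq_zero.mp (hfix i _ h1 h2)
  -- the commutator map
  let Θ : M →+ (Fin d → M) :=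
    { toFun := fun m i => a i • m - m
      map_zero' := by funext i; simp
      map_add' := fun m n => by funext i; simp only [smul_add, Pi.add_apply]; abel }
  have hEker : E ≤ Θ.ker := by
    intro m hm
    rw [AddMonoidHom.mem_ker]
    funext i
    exact sub_eq_zero.mpr (hEa i m hm)
  have hup : Nat.card Θ.range ≤ 2 ^ d := by
    rw [← AddSubgroup.index_ker]
    have h1 : Θ.ker.index ≤ E.index := Nat.le_of_dvd (Nat.pos_of_ne_zero E.index_ne_zero_of_finite)
      (AddSubgroup.index_dvd_of_le hEker)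
    rw [← hAd]
    exact h1.trans hEi
  -- lower bound
  let Z : Fin d → Set M := fun i => {z | ∃ m ∈ br M (x i), a i • m - m = z}
  have hZ : ∀ i, Nat.card F ≤ Nat.card (Z i) := by
    intro i
    -- a nonzero value
    obtain ⟨n, hn⟩ : ∃ n : M, a i • (x i • n - n) - (x i • n - n) ∉ rad := by
      by_contra hcon
      push Not at hcon
      have h1 : ∀ m ∈ br M (x i), a i • m - m ∈ rad := by
        rintro _ ⟨n, rfl⟩
        exact hcon n
      have h2 : ∀ m ∈ br M (x i), (x i) • (x i) • m - m ∈ rad := by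
        intro m hm
        have e1 : a i • (x i • m) = (x i)⁻¹ • (a i • m) := by
          rw [← mul_smul, ← mul_smul, conj_eq_of_inv (hinv i)]
        have e2 := L.inv (x i) _ (h1 _ (smul_mem_br_self hm))
        rw [smul_sub, e1, smul_inv_smul] at e2
        have e3 := sub_mem (h1 m hm) e2
        have e4 : a i • m - m - (a i • m - x i • x i • m) = x i • x i • m - m := by abel
        rwa [e4] at e3
      have h4 : ∀ m ∈ br M (x i), x i • x i • m = m := by
        intro m hm
        have h5 : x i • x i • m - m ∈ br M (x i) := sub_mem (smul_mem_br_self (smul_mem_br_self hm)) hm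
        have h8 : x i • (x i • x i • m - m) = x i • x i • m - m := by
          have e1 := L.cen _ (ha i) _ (h2 m hm)
          have e2 := L.cen _ (ha i) _ (L.inv (x i) _ (h2 m hm))
          rw [inv_smul_of_inv (hinv i) e1] at e2
          refine fix_of_sq (hxo i) ?_
          rw [← e2, smul_inv_smul]
        exact sub_eq_zero.mp (br_inf_fx two (hxo i) h5 h8)
      exact hx1 i (eq_one_of_fix two (hxo i) fun m hm => fix_of_sq (hxo i) (h4 m hm))
    have hval : ∀ c : F, ∃ z ∈ Z i, Mul c (a i • (x i • n - n) - (x i • n - n)) z := by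
      intro c
      obtain ⟨n', hn'⟩ := L.ex c n
      refine ⟨a i • (x i • n' - n') - (x i • n' - n'), ⟨_, sub_mem_br _ _, rfl⟩, ?_⟩
      have h1 := L.sub _ _ _ _ _ (L.smul _ _ _ (x i) hn') hn'
      exact L.sub _ _ _ _ _ (L.smul _ _ _ (a i) h1) h1
    choose z hz hzw using hval
    have hinj : Function.Injective (fun c : F => (⟨z c, hz c⟩ : Z i)) := by
      intro c c' e
      have h1 : z c = z c' := congrArg Subtype.val e
      by_contra hne
      exact hn (L.inj c c' _ _ (hzw c) (h1 ▸ hzw c') hne)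
    exact Nat.card_le_card_of_injective _ hinj
  have hlow : Nat.card F ^ d ≤ Nat.card Θ.range := by
    have h1 : Nat.card F ^ d ≤ Nat.card (∀ i, Z i) := by
      rw [Nat.card_pi]
      calc Nat.card F ^ d = ∏ _i : Fin d, Nat.card F := by simp
        _ ≤ ∏ i : Fin d, Nat.card (Z i) := Finset.prod_le_prod' fun i _ => hZ i
    refine h1.trans ?_
    have h2 : ∀ g : (∀ i, Z i), (fun i => ((g i : Z i) : M)) ∈ Θ.range := by
      intro g
      choose m hm hmz using fun i => (g i).2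
      refine ⟨∑ j, m j, ?_⟩
      funext i
      change a i • (∑ j, m j) - (∑ j, m j) = ((g i : Z i) : M)
      rw [Finset.smul_sum, ← Finset.sum_sub_distrib]
      rw [Finset.sum_eq_single i]
      · exact hmz i
      · intro j _ hji
        rw [htr j i hji _ (hm j), sub_self]
      · intro h; exact absurd (Finset.mem_univ i) h
    refine Nat.card_le_card_of_injective (fun g => (⟨_, h2 g⟩ : Θ.range)) ?_
    intro g g' e
    have h3 := congrArg Subtype.val e
    funext i
    exact Subtype.ext (congrFun h3 i)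
  have h1 : 4 ^ d ≤ 2 ^ d := (Nat.pow_le_pow_left hF d).trans (hlow.trans hup)
  have h2 : 2 ^ d < 4 ^ d := Nat.pow_lt_pow_left (by norm_num) (by omega)
  omega

end Main

end Cfsg.Agent.Omega.NO3S.OneQ.FitQ

end

section


/-!
# NsF, F3: groups with cyclic Sylow 2-subgroups acting on `Y = R ⊕ D`; the case `|Y| ≤ 16`

* `comm_of_le_sixteen`: `K` normal of odd order in `A`, `A` of even order and faithful on an elementary abelian
  2-group of order at most 16: `K` is commutative;
* `exists_complement`: a group with cyclic Sylow 2-subgroup has a normal 2-complement containing all subgroups of odd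
  order.
-/

set_option autoImplicit false
set_option linter.unusedSectionVars false

namespace Cfsg.Agent.Omega.NOThreeL.NsF.NormD

open Subgroup Cfsg.Agent.Omega.NO3S.Fit.Abs

section Count

variable {A Y : Type*} [Group A] [Finite A] [AddCommGroup Y] [Finite Y] [DistribMulAction A Y]

/-- an element of prime order on an invariant subgroup -/
theorem modEq {p : ℕ} [hp : Fact p.Prime] {x : A} (hx : x ^ p = 1) {N : AddSubgroup Y}
    (hN : ∀ m ∈ N, x • m ∈ N) :
    Nat.card N ≡ Nat.card (N ⊓ fx Y x : AddSubgroup Y) [MOD p] := by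
  classical
  have := Fintype.ofFinite N
  let f : Function.End N := fun m => ⟨x • (m : Y), hN m m.2⟩
  have hf : ∀ (k : ℕ) (m : N), ((f ^ k) m : Y) = x ^ k • (m : Y) := by
    intro k
    induction k with
    | zero => intro m; rw [pow_zero, pow_zero, one_smul]; rfl
    | succ k ih =>
      intro m
      rw [pow_succ, pow_succ, mul_smul]
      exact ih (f m)
  have hfp : f ^ p ^ 1 = 1 := by
    funext m
    apply Subtype.ext
    rw [hf, pow_one, hx, one_smul]
    rfl
  have h := Equiv.Perm.card_fixedPoints_modEq (p := p) (n := 1) hfp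
  rw [← Nat.card_eq_fintype_card, ← Nat.card_eq_fintype_card] at h
  have key : Nat.card (Function.fixedPoints f) = Nat.card (N ⊓ fx Y x : AddSubgroup Y) := Nat.card_congr
    { toFun := fun m => ⟨((m : N) : Y), (m : N).2, congrArg Subtype.val (m.2 : f (m : N) = (m : N))⟩
      invFun := fun m => ⟨⟨(m : Y), m.2.1⟩, Subtype.ext (m.2.2 : x • (m : Y) = (m : Y))⟩
      left_inv := fun m => rfl
      right_inv := fun m => rfl }
  rw [← key]
  exact h

theorem card_br_mul_fx (x : A) : Nat.card (br Y x) * Nat.card (fx Y x) = Nat.card Y := by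
  let f : Y →+ Y :=
    { toFun := fun m => x • m - m
      map_zero' := by simp
      map_add' := fun m n => by rw [smul_add]; abel }
  have h1 : f.range = br Y x := by
    ext m
    rfl
  have h2 : f.ker = fx Y x := by
    ext m
    exact sub_eq_zero
  have h3 : Nat.card f.ker * Nat.card f.range = Nat.card Y := by
    rw [← AddSubgroup.index_ker, AddSubgroup.card_mul_index]
  rw [h1, h2] at h3
  rw [mul_comm]
  exact h3

variable [FaithfulSMul A Y]

/-- an element of order 7 on a group of order at most 16 -/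
theorem card_br_seven (two : ∀ m : Y, m + m = 0) (h16 : Nat.card Y ≤ 16) {x : A}
    (hx : orderOf x = 7) : Nat.card (br Y x) = 8 ∧ Nat.card (fx Y x) ≤ 2 := by
  have : Fact (Nat.Prime 7) := ⟨by decide⟩
  have hx7 : x ^ 7 = 1 := by rw [← hx]; exact pow_orderOf_eq_one x
  have hx1 : x ≠ 1 := by
    rintro rfl
    rw [orderOf_one] at hx
    omega
  obtain ⟨a, ha⟩ := exists_card_two_pow two (br Y x)
  obtain ⟨b, hb⟩ := exists_card_two_pow two (fx Y x)
  have h1 := card_br_mul_fx (Y := Y) x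
  have h2 : Nat.card (⊤ : AddSubgroup Y) ≡ Nat.card ((⊤ : AddSubgroup Y) ⊓ fx Y x : AddSubgroup Y)
    [MOD 7] := modEq hx7 fun m _ => AddSubgroup.mem_top _
  rw [top_inf_eq, AddSubgroup.card_top, ← h1, ha, hb] at h2
  rw [ha, hb] at h1
  have ha0 : a ≠ 0 := by
    rintro rfl
    rw [pow_zero, AddSubgroup.card_eq_one] at ha
    exact ne_zero_of_br hx1 ha
  rw [← pow_add] at h1 h2
  have hab : a + b ≤ 4 := by
    by_contra hcon
    have : 2 ^ 5 ≤ 2 ^ (a + b) := Nat.pow_le_pow_right (by decide) (by omega)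
    omega
  rw [ha, hb]
  have ha4 : a ≤ 4 := by omega
  have hb4 : b ≤ 4 := by omega
  clear ha hb h1
  revert h2 hab ha0
  unfold Nat.ModEq
  interval_cases a <;> interval_cases b <;> decide

/-- an involution normalising a group of order 7 -/
theorem not_seven (two : ∀ m : Y, m + m = 0) (h16 : Nat.card Y ≤ 16) {x s : A}
    (hx : orderOf x = 7) (hs : orderOf s = 2) (hsx : s * x * s⁻¹ ∈ zpowers x) : False := by
  have : Fact (Nat.Prime 7) := ⟨by decide⟩
  have : Fact (Nat.Prime 2) := ⟨by decide⟩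
  obtain ⟨h8, hf2⟩ := card_br_seven two h16 hx
  have hx7 : x ^ 7 = 1 := by rw [← hx]; exact pow_orderOf_eq_one x
  have hs2 : s ^ 2 = 1 := by rw [← hs]; exact pow_orderOf_eq_one s
  have hss : s * s = 1 := by rw [← pow_two]; exact hs2
  have hsi : s⁻¹ = s := inv_eq_of_mul_eq_one_left hss
  have hodd : Odd (orderOf x) := by rw [hx]; decide
  have hs1 : s ≠ 1 := by
    rintro rfl
    rw [orderOf_one] at hs
    omega
  -- the exponent
  obtain ⟨k, hk7, hk⟩ : ∃ k < 7, x ^ k = s * x * s⁻¹ := by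
    obtain ⟨k, hk⟩ := (mem_powers_iff_mem_zpowers.mpr hsx)
    refine ⟨k % 7, Nat.mod_lt _ (by decide), ?_⟩
    rw [← hk, ← hx]
    exact pow_mod_orderOf x k
  have hkk : x ^ (k * k) = x := by
    have h1 : (s * x * s⁻¹) ^ k = s * x ^ k * s⁻¹ := by
      rw [conj_pow]
    rw [pow_mul, hk, h1, hk, hsi]
    calc s * (s * x * s) * s = (s * s) * x * (s * s) := by group
      _ = x := by rw [hss]; group
  have hmod : k * k ≡ 1 [MOD 7] := by
    rw [← hx, ← pow_eq_pow_iff_modEq, pow_one]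
    exact hkk
  have hk16 : k = 1 ∨ k = 6 := by
    unfold Nat.ModEq at hmod
    clear hk hkk
    revert hmod
    interval_cases k <;> decide
  rcases hk16 with rfl | rfl
  · -- commuting
    have hcomm : s * x = x * s := by
      rw [pow_one] at hk
      have := congrArg (· * s) hk
      simp only [inv_mul_cancel_right] at this
      exact this.symm
    have hB1 : ∀ m ∈ br Y x, s • m ∈ br Y x := fun m hm => smul_mem_br_of_comm hcomm hm
    have hB2 : ∀ m ∈ (br Y x ⊓ fx Y s : AddSubgroup Y), x • m ∈ (br Y x ⊓ fx Y s : AddSubgroup Y) :=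
      fun m hm => ⟨smul_mem_br_self hm.1, smul_mem_fx_of_comm hcomm.symm hm.2⟩
    have e1 := modEq hs2 hB1
    have e2 := modEq hx7 hB2
    have e3 : ((br Y x ⊓ fx Y s : AddSubgroup Y) ⊓ fx Y x : AddSubgroup Y) = ⊥ := by
      rw [eq_bot_iff]
      rintro m ⟨⟨h1, _⟩, h2⟩
      exact br_inf_fx two hodd h1 h2
    rw [e3, AddSubgroup.card_bot] at e2
    rw [h8] at e1
    have e4 : Nat.card (br Y x ⊓ fx Y s : AddSubgroup Y) ≤ 8 := by
      rw [← h8]
      exact AddSubgroup.card_le_of_le inf_le_left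
    have e5 : Nat.card (br Y x ⊓ fx Y s : AddSubgroup Y) = 8 := by
      unfold Nat.ModEq at e1 e2
      have := Nat.card_pos (α := (br Y x ⊓ fx Y s : AddSubgroup Y))
      omega
    have e6 : br Y x ⊓ fx Y s = br Y x :=
      AddSubgroup.eq_of_le_of_card_ge inf_le_left (by rw [e5, h8])
    have hfx : ∀ m ∈ fx Y x, s • m ∈ fx Y x := fun m hm => smul_mem_fx_of_comm hcomm hm
    have e7 := modEq hs2 hfx
    have e8 : fx Y x ⊓ fx Y s = fx Y x := by
      refine AddSubgroup.eq_of_le_of_card_ge inf_le_left ?_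
      have h1 := Nat.card_pos (α := (fx Y x ⊓ fx Y s : AddSubgroup Y))
      have h2 := Nat.card_pos (α := fx Y x)
      unfold Nat.ModEq at e7
      omega
    apply hs1
    refine FaithfulSMul.eq_of_smul_eq_smul (α := Y) fun m => ?_
    rw [one_smul]
    obtain ⟨d, hd, c, hc, rfl⟩ := exists_decomp two hodd m
    have hd' : d ∈ br Y x ⊓ fx Y s := by rw [e6]; exact hd
    have hc' : c ∈ fx Y x ⊓ fx Y s := by rw [e8]; exact hc
    rw [smul_add, hd'.2, hc'.2]
  · -- inverted
    have hi : s * x * s⁻¹ = x⁻¹ := by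
      rw [← hk]
      refine eq_inv_of_mul_eq_one_left ?_
      rw [← pow_succ]
      exact hx7
    have h1 := (card_br_eq (M := Y) two hss hodd hi).1
    rw [h8] at h1
    have h2 : Nat.card (cx Y s x) < 3 := by nlinarith
    interval_cases Nat.card (cx Y s x) <;> omega

end Count

/-! ### Groups of order dividing 45 -/

section FortyFive

variable {K : Type*} [Group K] [Finite K]

theorem comm_of_isPGroup_card {P : Type*} [Group P] [Finite P] {p : ℕ} [hp : Fact p.Prime]
    (h : Nat.card P ∣ p ^ 2) : ∀ a b : P, a * b = b * a := by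
  obtain ⟨k, hk, hk2⟩ := (Nat.dvd_prime_pow hp.out).mp h
  intro a b
  interval_cases k
  · rw [pow_zero] at hk2
    have := (Nat.card_eq_one_iff_unique.mp hk2).1
    exact Subsingleton.elim _ _
  · rw [pow_one] at hk2
    have := isCyclic_of_prime_card hk2
    obtain ⟨g, hg⟩ := IsCyclic.exists_generator (α := P)
    obtain ⟨i, rfl⟩ := mem_zpowers_iff.mp (hg a)
    obtain ⟨j, rfl⟩ := mem_zpowers_iff.mp (hg b)
    rw [← zpow_add, ← zpow_add, add_comm]
  · exact (IsPGroup.isMulCommutative_of_card_eq_prime_sq hk2).is_comm.comm a b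

theorem comm_of_card_dvd (h : Nat.card K ∣ 45) : ∀ a b : K, a * b = b * a := by
  have f3 : Fact (Nat.Prime 3) := ⟨by decide⟩
  have f5 : Fact (Nat.Prime 5) := ⟨by decide⟩
  obtain ⟨P⟩ : Nonempty (Sylow 3 K) := inferInstance
  obtain ⟨Q⟩ : Nonempty (Sylow 5 K) := inferInstance
  have hP : Nat.card P ∣ 9 := by
    have h1 : Nat.card P ∣ 45 := (card_subgroup_dvd_card (P : Subgroup K)).trans h
    obtain ⟨k, hk⟩ := IsPGroup.iff_card.mp P.isPGroup'
    rw [hk] at h1 ⊢
    have h2 : Nat.Coprime (3 ^ k) 5 := Nat.Coprime.pow_left k (by decide)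
    exact h2.dvd_of_dvd_mul_right (show 3 ^ k ∣ 9 * 5 from h1)
  have hQ : Nat.card Q ∣ 5 := by
    have h1 : Nat.card Q ∣ 45 := (card_subgroup_dvd_card (Q : Subgroup K)).trans h
    obtain ⟨k, hk⟩ := IsPGroup.iff_card.mp Q.isPGroup'
    rw [hk] at h1 ⊢
    have h2 : Nat.Coprime (5 ^ k) 9 := Nat.Coprime.pow_left k (by decide)
    exact h2.dvd_of_dvd_mul_left (show 5 ^ k ∣ 9 * 5 from h1)
  have hPi : (P : Subgroup K).index ∣ 5 := by
    have h1 : (P : Subgroup K).index ∣ 45 := (index_dvd_card (P : Subgroup K)).trans h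
    have h2 : Nat.Coprime (P : Subgroup K).index 9 := by
      have := (Nat.Prime.coprime_iff_not_dvd f3.out).mpr P.not_dvd_index
      exact (Nat.Coprime.pow_left 2 this).symm
    exact h2.dvd_of_dvd_mul_left (show (P : Subgroup K).index ∣ 9 * 5 from h1)
  have hQi : (Q : Subgroup K).index ∣ 9 := by
    have h1 : (Q : Subgroup K).index ∣ 45 := (index_dvd_card (Q : Subgroup K)).trans h
    have h2 : Nat.Coprime (Q : Subgroup K).index 5 :=
      ((Nat.Prime.coprime_iff_not_dvd f5.out).mpr Q.not_dvd_index).symm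
    exact h2.dvd_of_dvd_mul_right (show (Q : Subgroup K).index ∣ 9 * 5 from h1)
  have nP : Nat.card (Sylow 3 K) = 1 := by
    have h1 : Nat.card (Sylow 3 K) ∣ 5 := P.card_dvd_index.trans hPi
    have h2 := card_sylow_modEq_one 3 K
    rcases (Nat.dvd_prime f5.out).mp h1 with h | h
    · exact h
    · rw [h] at h2
      exact absurd h2 (by decide)
  have nQ : Nat.card (Sylow 5 K) = 1 := by
    have h1 : Nat.card (Sylow 5 K) ∣ 9 := Q.card_dvd_index.trans hQi
    have h2 := card_sylow_modEq_one 5 K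
    have h3 : Nat.card (Sylow 5 K) ≤ 9 := Nat.le_of_dvd (by decide) h1
    unfold Nat.ModEq at h2
    interval_cases Nat.card (Sylow 5 K) <;> simp_all
  have sP : Subsingleton (Sylow 3 K) := (Nat.card_eq_one_iff_unique.mp nP).1
  have sQ : Subsingleton (Sylow 5 K) := (Nat.card_eq_one_iff_unique.mp nQ).1
  have cP : (P : Subgroup K).Normal := P.normal_of_subsingleton
  have cQ : (Q : Subgroup K).Normal := Q.normal_of_subsingleton
  have hcop : Nat.Coprime (Nat.card P) (Nat.card Q) :=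
    Nat.Coprime.of_dvd hP hQ (by decide)
  have hdis : Disjoint (P : Subgroup K) (Q : Subgroup K) := by
    exact disjoint_of_coprime_natCard hcop
  have htop : (P : Subgroup K) ⊔ (Q : Subgroup K) = ⊤ := by
    rw [← index_eq_one, ← Nat.dvd_one]
    have h1 : ((P : Subgroup K) ⊔ (Q : Subgroup K)).index ∣ 5 :=
      (index_dvd_of_le le_sup_left).trans hPi
    have h2 : ((P : Subgroup K) ⊔ (Q : Subgroup K)).index ∣ 9 :=
      (index_dvd_of_le le_sup_right).trans hQi
    exact Nat.dvd_gcd h1 h2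
  have cPQ : ∀ a ∈ (P : Subgroup K), ∀ b ∈ (Q : Subgroup K), a * b = b * a := fun a ha b hb =>
    commute_of_normal_of_disjoint _ _ cP cQ hdis a b ha hb
  have cPP : ∀ a ∈ (P : Subgroup K), ∀ b ∈ (P : Subgroup K), a * b = b * a := fun a ha b hb =>
    congrArg Subtype.val (comm_of_isPGroup_card (p := 3) (P := P) hP ⟨a, ha⟩ ⟨b, hb⟩)
  have cQQ : ∀ a ∈ (Q : Subgroup K), ∀ b ∈ (Q : Subgroup K), a * b = b * a := fun a ha b hb =>
    congrArg Subtype.val (comm_of_isPGroup_card (p := 5) (P := Q) (hQ.trans (by decide)) ⟨a, ha⟩ ⟨b, hb⟩)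
  intro a b
  have ha : a ∈ (P : Subgroup K) ⊔ (Q : Subgroup K) := htop ▸ mem_top a
  have hb : b ∈ (P : Subgroup K) ⊔ (Q : Subgroup K) := htop ▸ mem_top b
  rw [← SetLike.mem_coe, mul_normal, Set.mem_mul] at ha hb
  obtain ⟨a1, ha1, a2, ha2, rfl⟩ := ha
  obtain ⟨b1, hb1, b2, hb2, rfl⟩ := hb
  have ha1' : a1 ∈ (P : Subgroup K) := ha1
  have ha2' : a2 ∈ (Q : Subgroup K) := ha2
  have hb1' : b1 ∈ (P : Subgroup K) := hb1
  have hb2' : b2 ∈ (Q : Subgroup K) := hb2
  calc a1 * a2 * (b1 * b2) = a1 * (a2 * b1) * b2 := by group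
    _ = a1 * b1 * (a2 * b2) := by rw [← cPQ b1 hb1' a2 ha2']; group
    _ = b1 * a1 * (b2 * a2) := by rw [cPP a1 ha1' b1 hb1', cQQ a2 ha2' b2 hb2']
    _ = b1 * (a1 * b2) * a2 := by group
    _ = b1 * b2 * (a1 * a2) := by rw [cPQ a1 ha1' b2 hb2']; group

end FortyFive

end Cfsg.Agent.Omega.NOThreeL.NsF.NormD

end
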