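import Cfsg.Agent.Mrg.Omega.NO3S.Fit.Cmp
import Cfsg.Agent.Mrg.Omega.CaseL.Base
import Cfsg.Agent.Involutions.BaerSuzuki
import Cfsg.Agent.Involutions.DihedralPair
import Cfsg.Agent.Mrg.Omega.NO3S.Fit.AbsNat

section


/-!
# LEMMA PLANE: the seven conjugates of `W` form a `PForm`; the group `F_E`

`Mov.pform`; `FF = ⟨W_p⟩`, `ZF = Z(FF)`; `cm_mem` : `[C_G(W), FF] ≤ ZF`;
`comm_conj` : for all `s ∈ C` and `g = s a s⁻¹`, the involution `g a g⁻¹` centralises `E`.
-/

set_option autoImplicit false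
set_option linter.unusedSectionVars false

namespace Cfsg.Agent.Omega.NO3S.Fit.PlaneCore

open Subgroup Cfsg Cfsg.Agent.MinSimple.Geo Cfsg.Agent.Omega.NO3S.Fit.PlaneForm

universe u

variable {G : Type u} [Group G]

theorem of_cj {g x : G} {A : Subgroup G} (hx : x ∈ cj g A) : ∃ w ∈ A, x = g * w * g⁻¹ :=
  ⟨g⁻¹ * x * g, mem_cj.mp hx, by group⟩

/-! ### Coordinates -/

/-- `x^i`, `i ∈ 𝔽₂` -/
def pw (x : G) (i : ZMod 2) : G := if i = 0 then 1 else x

theorem zcases : ∀ i : ZMod 2, i = 0 ∨ i = 1 := by decide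

theorem pw_zero (x : G) : pw x 0 = 1 := if_pos rfl

theorem pw_one (x : G) : pw x 1 = x := if_neg (by decide)

theorem pw_add {x : G} (hx : x * x = 1) (i j : ZMod 2) : pw x (i + j) = pw x i * pw x j := by
  rcases zcases i with rfl | rfl <;> rcases zcases j with rfl | rfl
  · rw [add_zero, pw_zero, one_mul]
  · rw [zero_add, pw_zero, one_mul]
  · rw [add_zero, pw_zero, mul_one]
  · rw [show (1 : ZMod 2) + 1 = 0 by decide, pw_zero, pw_one, hx]

/-- coordinates of `E = ⟨z, y, u⟩` -/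
def ee (z y u : G) (v : V3) : G := pw z v.1 * pw y v.2.1 * pw u v.2.2

namespace Mov

variable {V E C Q W WY : Subgroup G} {z y a f u : G} (h : Mov V E C Q W WY z y a f)
  (hu : u ∈ E) (huV : u ∉ V)

include h in
theorem pw_mem {x : G} (hx : x ∈ E) (i : ZMod 2) : pw x i ∈ E := by
  rcases zcases i with rfl | rfl
  · rw [pw_zero]; exact E.one_mem
  · rwa [pw_one]

include h hu

theorem ee_mem (v : V3) : ee z y u v ∈ E :=
  E.mul_mem (E.mul_mem (h.pw_mem h.zE _) (h.pw_mem h.yE _)) (h.pw_mem hu _)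

theorem ee_add (v w : V3) : ee z y u (v + w) = ee z y u v * ee z y u w := by
  unfold ee
  change pw z (v.1 + w.1) * pw y (v.2.1 + w.2.1) * pw u (v.2.2 + w.2.2) = _
  rw [pw_add h.zz, pw_add h.yy, pw_add (h.sqE u hu)]
  have c1 := h.commE (h.pw_mem h.zE w.1) (h.pw_mem h.yE v.2.1)
  have c2 := h.commE (h.pw_mem h.zE w.1) (h.pw_mem hu v.2.2)
  have c3 := h.commE (h.pw_mem h.yE w.2.1) (h.pw_mem hu v.2.2)
  generalize pw z v.1 = z1 at *
  generalize pw z w.1 = z2 at *
  generalize pw y v.2.1 = y1 at *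
  generalize pw y w.2.1 = y2 at *
  generalize pw u v.2.2 = u1 at *
  generalize pw u w.2.2 = u2 at *
  calc z1 * z2 * (y1 * y2) * (u1 * u2) = z1 * (z2 * y1) * (y2 * u1) * u2 := by group
    _ = z1 * (y1 * z2) * (u1 * y2) * u2 := by rw [c1, c3]
    _ = z1 * y1 * (z2 * u1) * y2 * u2 := by group
    _ = z1 * y1 * (u1 * z2) * y2 * u2 := by rw [c2]
    _ = z1 * y1 * u1 * (z2 * y2 * u2) := by group

omit h hu in
theorem ee_x : ee z y u ((1, 0, 0) : V3) = z := by
  unfold ee
  rw [pw_one, pw_zero, pw_zero, mul_one, mul_one]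

include huV

theorem ee_inj_one {v : V3} (hv : ee z y u v = 1) : v = 0 := by
  obtain ⟨i, j, k⟩ := v
  unfold ee at hv
  simp only at hv
  have hi : pw z i ∈ V := by
    rcases zcases i with rfl | rfl
    · rw [pw_zero]; exact V.one_mem
    · rw [pw_one]; exact h.zV
  have hj : pw y j ∈ V := by
    rcases zcases j with rfl | rfl
    · rw [pw_zero]; exact V.one_mem
    · rw [pw_one]; exact h.yV
  rcases zcases k with rfl | rfl
  · rw [pw_zero, mul_one] at hv
    rcases zcases j with rfl | rfl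
    · rw [pw_zero, mul_one] at hv
      rcases zcases i with rfl | rfl
      · rfl
      · rw [pw_one] at hv
        exact absurd hv h.z1
    · exfalso
      rw [pw_one] at hv
      rcases zcases i with rfl | rfl
      · rw [pw_zero, one_mul] at hv
        exact h.y1 hv
      · rw [pw_one] at hv
        apply h.yz
        have h1 : y = z⁻¹ := (inv_eq_of_mul_eq_one_right hv).symm
        rw [h1]
        exact inv_eq_of_mul_eq_one_left h.zz
  · exfalso
    apply huV
    rw [pw_one] at hv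
    have h1 : u = (pw z i * pw y j)⁻¹ := (inv_eq_of_mul_eq_one_right hv).symm
    rw [h1]
    exact V.inv_mem (V.mul_mem hi hj)

theorem ee_inj : Function.Injective (ee z y u) := by
  intro v w hvw
  have h1 : ee z y u (v + w) = 1 := by
    rw [h.ee_add hu, hvw]
    exact h.sqE _ (h.ee_mem hu w)
  have h2 := h.ee_inj_one hu huV h1
  have h3 : v + w + w = w := by rw [h2, zero_add]
  rwa [add_assoc, add_self, add_zero] at h3

theorem ee_surj {x : G} (hx : x ∈ E) : ∃ v, ee z y u v = x := by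
  have key : ∀ x ∈ V, ∃ v, ee z y u v = x := by
    intro x hx
    rcases h.four x hx with rfl | rfl | rfl | rfl
    · exact ⟨(0, 0, 0), by unfold ee; simp [pw_zero]⟩
    · exact ⟨(1, 0, 0), ee_x⟩
    · exact ⟨(0, 1, 0), by unfold ee; simp [pw_zero, pw_one]⟩
    · exact ⟨(1, 1, 0), by unfold ee; simp [pw_zero, pw_one]⟩
  by_cases hxV : x ∈ V
  · exact key x hxV
  · obtain ⟨v, hv⟩ := key _ (h.idx u hu x hx huV hxV)
    refine ⟨(0, 0, 1) + v, ?_⟩
    have h1 : ee z y u ((0, 0, 1) : V3) = u := by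
      unfold ee
      simp [pw_zero, pw_one]
    rw [h.ee_add hu, h1, hv, ← mul_assoc, h.sqE u hu, one_mul]

omit h hu huV in
/-- an element of `N(E)` moving `z` to `e p` -/
noncomputable def gp (E : Subgroup G) (z y u : G) (p : V3) : G := by
  classical
  exact if h : ∃ g ∈ normalizer (E : Set G), g * z * g⁻¹ = ee z y u p then h.choose else 1

omit h hu huV in
/-- `W_p` -/
noncomputable def wp (E W : Subgroup G) (z y u : G) (p : V3) : Subgroup G := cj (gp E z y u p) W

omit h hu huV in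
/-- `a_p` -/
noncomputable def ap (E : Subgroup G) (z y u a : G) (p : V3) : G :=
  gp E z y u p * a * (gp E z y u p)⁻¹

variable [Finite G]

theorem gp_spec {p : V3} (hp : p ≠ 0) : gp E z y u p ∈ normalizer (E : Set G) ∧
    gp E z y u p * z * (gp E z y u p)⁻¹ = ee z y u p := by
  have hex : ∃ g ∈ normalizer (E : Set G), g * z * g⁻¹ = ee z y u p :=
    h.tr_E (h.ee_mem hu p) (fun h1 => hp (h.ee_inj_one hu huV h1))
  unfold gp
  rw [dif_pos hex]
  exact hex.choose_spec

theorem wp_eq {p : V3} (hp : p ≠ 0) {g : G} (hg : g ∈ normalizer (E : Set G))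
    (hz : g * z * g⁻¹ = ee z y u p) : wp E W z y u p = cj g W := by
  obtain ⟨h1, h2⟩ := h.gp_spec hu huV hp
  exact h.cj_W_eq h1 hg (h2.trans hz.symm)

theorem wp_eq_y {p : V3} (hp : p ≠ 0) {g : G} (hg : g ∈ normalizer (E : Set G))
    (hy : g * y * g⁻¹ = ee z y u p) : wp E W z y u p = cj g WY := by
  obtain ⟨k, hk, hkz⟩ := h.tr y h.yV h.y1
  rw [← h.WYdef k hk hkz, cj_cj]
  refine h.wp_eq hu huV hp (mul_mem hg (h.NE hk)) ?_
  have e : g * k * z * (g * k)⁻¹ = g * (k * z * k⁻¹) * g⁻¹ := by group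
  rw [e, hkz, hy]

theorem wp_x : wp E W z y u (1, 0, 0) = W := by
  rw [h.wp_eq hu huV (p := (1, 0, 0)) (by decide) (one_mem _) (by rw [ee_x]; group), cj_one]

/-- pairs of points -/
theorem exists_pair {p r : V3} (hp : p ≠ 0) (hr : r ≠ 0) (hpr : p ≠ r) :
    ∃ k, h.NA k ∧ wp E W z y u p = cj (gp E z y u p * k) W ∧
      wp E W z y u r = cj (gp E z y u p * k) WY ∧ k ∈ normalizer (E : Set G) ∧
      (gp E z y u p * k) * y * (gp E z y u p * k)⁻¹ = ee z y u r ∧ k * z = z * k := by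
  obtain ⟨h1, h2⟩ := h.gp_spec hu huV hp
  set g := gp E z y u p with hg
  have h3 : g⁻¹ * ee z y u r * g ∈ E := h.conj_E' h1 (h.ee_mem hu r)
  obtain ⟨k, hk, hkz, hky⟩ := h.tr_E' h3
    (fun h4 => hr (h.ee_inj_one hu huV (by
      have e : ee z y u r = g * (g⁻¹ * ee z y u r * g) * g⁻¹ := by group
      rw [e, h4]; group)))
    (fun h4 => hpr (h.ee_inj hu huV (by
      have e : ee z y u r = g * (g⁻¹ * ee z y u r * g) * g⁻¹ := by group
      rw [e, h4, h2])))
  have hgk : g * k ∈ normalizer (E : Set G) := mul_mem h1 hk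
  have hz : g * k * z * (g * k)⁻¹ = ee z y u p := by
    have e : g * k * z * (g * k)⁻¹ = g * (k * z * k⁻¹) * g⁻¹ := by group
    rw [e, hkz, mul_inv_cancel_right, h2]
  have hy : g * k * y * (g * k)⁻¹ = ee z y u r := by
    have e : g * k * y * (g * k)⁻¹ = g * (k * y * k⁻¹) * g⁻¹ := by group
    rw [e, hky]; group
  exact ⟨k, h.NA_of hk hkz, h.wp_eq hu huV hp hgk hz, h.wp_eq_y hu huV hr hgk hy, hk, hy, hkz⟩

omit hu huV [Finite G] in
/-- the action of a conjugate of `a` -/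
theorem cm_NA {k w : G} (hk : h.NA k) (hw : w ∈ W) :
    cm w (k * a * k⁻¹) = cm w a ∨ cm w (k * a * k⁻¹) = cm w a * z := by
  set q := k * a * k⁻¹ * a⁻¹ with hq
  have hqQ : q ∈ Q := hk.2
  have e1 : k * a * k⁻¹ = q * a := by rw [hq]; group
  have e2 : cm w (q * a) = cm w q * (q * cm w a * q⁻¹) := by
    unfold cm
    group
  have hc := h.comE w hw a h.aW
  have hzc := h.commE h.zE hc
  rw [e1, e2]
  have h1 : cm w q = 1 ∨ cm w q = z := by
    rcases ((h.memQ q).mp hqQ).2 w hw with h2 | h2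
    · left; rw [← cm_inv, h2, inv_one]
    · right; rw [← cm_inv, h2]; exact inv_eq_of_mul_eq_one_left h.zz
  rcases h1 with h1 | h1 <;> rcases h.Q_act hqQ (h.EW hc) with h2 | h2 <;> rw [h1, h2]
  · left; rw [one_mul]
  · right; rw [one_mul, hzc]
  · right; rw [hzc]
  · left; rw [← mul_assoc, h.zz, one_mul]

/-- **The seven conjugates of `W` form a `PForm`.** -/
theorem pform : PForm (ee z y u) (wp E W z y u) (ap E z y u a) where
  e_add := h.ee_add hu
  e_inj := h.ee_inj hu huV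
  comm := by
    intro p hp _ hw _ hw'
    obtain ⟨w, hw0, rfl⟩ := of_cj hw
    replace hw := hw0
    obtain ⟨w', hw'0, rfl⟩ := of_cj hw'
    replace hw' := hw'0
    have e1 : ∀ g x x' : G, g * x * g⁻¹ * (g * x' * g⁻¹) = g * (x * x') * g⁻¹ := fun g x x' => by group
    rw [e1, e1, h.ab w hw w' hw']
  cent := by
    intro p hp _ hw v
    obtain ⟨w, hw0, rfl⟩ := of_cj hw
    replace hw := hw0
    obtain ⟨h1, h2⟩ := h.gp_spec hu huV hp
    have h3 := h.W_cent hw (h.conj_E' h1 (h.ee_mem hu v))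
    generalize gp E z y u p = g at *
    calc g * w * g⁻¹ * ee z y u v = g * (w * (g⁻¹ * ee z y u v * g)) * g⁻¹ := by group
      _ = ee z y u v * (g * w * g⁻¹) := by rw [h3]; group
  com := by
    intro p r hp hr hpr w hw g hg
    obtain ⟨k, hk, hWp, hWr, hkE, hky, hkz⟩ := h.exists_pair hu huV hp hr hpr
    rw [hWp] at hw
    rw [hWr] at hg
    obtain ⟨w, hw0, rfl⟩ := of_cj hw
    replace hw := hw0
    obtain ⟨g, hg0, rfl⟩ := of_cj hg
    replace hg := hg0
    obtain ⟨h1, h2⟩ := h.gp_spec hu huV hp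
    have h3 := h.conj_E (mul_mem h1 hkE) (h.comE w hw g hg)
    rw [conj_cm] at h3
    obtain ⟨v, hv⟩ := h.ee_surj hu huV h3
    exact ⟨v, hv.symm⟩
  amem := by
    intro p hp
    obtain ⟨h1, h2⟩ := h.gp_spec hu huV hp
    obtain ⟨r, hr⟩ := h.ee_surj hu huV (h.conj_E h1 h.yE)
    have hr0 : r ≠ 0 := by
      rintro rfl
      apply h.y1
      have h3 : ee z y u (0 : V3) = 1 := by
        have h4 := h.ee_add hu 0 0
        rw [add_zero] at h4
        exact left_eq_mul.mp h4
      rw [h3] at hr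
      have e : y = (gp E z y u p)⁻¹ * (gp E z y u p * y * (gp E z y u p)⁻¹) * gp E z y u p := by group
      rw [e, ← hr]; group
    have hrp : r ≠ p := by
      rintro rfl
      apply h.yz
      have h3 := hr.symm.trans h2.symm
      have e : y = (gp E z y u r)⁻¹ * (gp E z y u r * y * (gp E z y u r)⁻¹) * gp E z y u r := by group
      rw [e, h3]; group
    refine ⟨r, hr0, hrp, ?_⟩
    rw [h.wp_eq_y hu huV hr0 h1 hr.symm]
    exact conj_mem_cj h.aW
  same := by
    intro p r hp hr hpr g hg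
    obtain ⟨k, hk, hWp, hWr, hkE, hky, hkz⟩ := h.exists_pair hu huV hp hr hpr
    obtain ⟨h1, h2⟩ := h.gp_spec hu huV hp
    rw [hWr] at hg
    obtain ⟨g, hg0, rfl⟩ := of_cj hg
    replace hg := hg0
    have hgkz : (gp E z y u p * k) * z * (gp E z y u p * k)⁻¹ = ee z y u p := by
      have e : (gp E z y u p * k) * z * (gp E z y u p * k)⁻¹ =
        gp E z y u p * (k * z * k⁻¹) * (gp E z y u p)⁻¹ := by group
      rw [e, hkz, mul_inv_cancel_right, h2]
    rcases h.k1 g hg with h3 | h3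
    · left
      intro w hw
      rw [hWp] at hw
      obtain ⟨w, hw0, rfl⟩ := of_cj hw
      replace hw := hw0
      rw [← conj_cm, ← cm_inv g w]
      rcases ((h.memQ g).mp h3).2 w hw with h4 | h4
      · left; rw [h4]; group
      · right
        rw [h4, inv_eq_of_mul_eq_one_left h.zz, hgkz]
    · right
      intro w hw
      rw [hWp] at hw
      obtain ⟨w, hw0, rfl⟩ := of_cj hw
      replace hw := hw0
      unfold ap
      -- `[w, g] = [w, a]` up to `z`
      have e3 : g = g * a * a := by rw [mul_assoc, h.aa, mul_one]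
      have hc := h.comE w hw a h.aW
      have h4 : cm w g = cm w a ∨ cm w g = cm w a * z := by
        rw [e3]
        have e4 : cm w (g * a * a) = cm w (g * a) * ((g * a) * cm w a * (g * a)⁻¹) := by
          unfold cm
          group
        rw [e4]
        have h5 : cm w (g * a) = 1 ∨ cm w (g * a) = z := by
          rcases ((h.memQ _).mp h3).2 w hw with h6 | h6
          · left; rw [← cm_inv, h6, inv_one]
          · right; rw [← cm_inv, h6]; exact inv_eq_of_mul_eq_one_left h.zz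
        have hzc := h.commE h.zE hc
        rcases h5 with h5 | h5 <;> rcases h.Q_act h3 (h.EW hc) with h6 | h6 <;> rw [h5, h6]
        · left; rw [one_mul]
        · right; rw [one_mul, hzc]
        · right; rw [hzc]
        · left; rw [← mul_assoc, h.zz, one_mul]
      -- `[w, a_p]`
      have hw' : k * w * k⁻¹ ∈ W := h.CW k hk.1 w hw
      have e5 : cm (gp E z y u p * k * w * (gp E z y u p * k)⁻¹)
          (gp E z y u p * a * (gp E z y u p)⁻¹) =
          (gp E z y u p * k) * cm w (k⁻¹ * a * k⁻¹⁻¹) * (gp E z y u p * k)⁻¹ := by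
        rw [conj_cm]
        congr 1
        group
      rw [← conj_cm, e5]
      have h7 := h.cm_NA (h.NA_inv hk) hw
      have hez : ∀ c : G, (gp E z y u p * k) * (c * z) * (gp E z y u p * k)⁻¹ =
          (gp E z y u p * k) * c * (gp E z y u p * k)⁻¹ * ee z y u p := by
        intro c
        rw [← hgkz]; group
      rcases h4 with h4 | h4 <;> rcases h7 with h7 | h7 <;> rw [h4, h7]
      · left; rfl
      · right
        rw [hez, mul_assoc _ (ee z y u p) (ee z y u p), h.sqE _ (h.ee_mem hu p), mul_one]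
      · right
        rw [hez]
      · left; rfl
  onto := by
    intro p hp v
    obtain ⟨h1, h2⟩ := h.gp_spec hu huV hp
    obtain ⟨w, hw, h3⟩ := h.onto _ (h.conj_E' h1 (h.ee_mem hu v))
    refine ⟨gp E z y u p * w * (gp E z y u p)⁻¹, conj_mem_cj hw, ?_⟩
    unfold ap
    rw [← conj_cm]
    rcases h3 with h3 | h3
    · left; rw [h3]; group
    · right
      rw [h3, h.ee_add hu, ← h2]
      group
  inj := by
    intro p hp w hw hwa r hr g hg
    by_cases hpr : p = r
    · subst hpr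
      obtain ⟨w, hw0, rfl⟩ := of_cj hw
      replace hw := hw0
      obtain ⟨g, hg0, rfl⟩ := of_cj hg
      replace hg := hg0
      have e1 : ∀ g x x' : G, g * x * g⁻¹ * (g * x' * g⁻¹) = g * (x * x') * g⁻¹ :=
        fun g x x' => by group
      rw [e1, e1, h.ab w hw g hg]
    · obtain ⟨k, hk, hWp, hWr, hkE, hky, hkz⟩ := h.exists_pair hu huV hp hr hpr
      obtain ⟨h1, h2⟩ := h.gp_spec hu huV hp
      rw [hWp] at hw
      rw [hWr] at hg
      obtain ⟨w, hw0, rfl⟩ := of_cj hw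
      replace hw := hw0
      obtain ⟨g, hg0, rfl⟩ := of_cj hg
      replace hg := hg0
      unfold ap at hwa
      have e5 : cm (gp E z y u p * k * w * (gp E z y u p * k)⁻¹)
          (gp E z y u p * a * (gp E z y u p)⁻¹) =
          (gp E z y u p * k) * cm w (k⁻¹ * a * k⁻¹⁻¹) * (gp E z y u p * k)⁻¹ := by
        rw [conj_cm]
        congr 1
        group
      have hgkz : (gp E z y u p * k) * z * (gp E z y u p * k)⁻¹ = ee z y u p := by
        have e : (gp E z y u p * k) * z * (gp E z y u p * k)⁻¹ =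
          gp E z y u p * (k * z * k⁻¹) * (gp E z y u p)⁻¹ := by group
        rw [e, hkz, mul_inv_cancel_right, h2]
      rw [e5] at hwa
      have h6 : cm w (k⁻¹ * a * k⁻¹⁻¹) = 1 ∨ cm w (k⁻¹ * a * k⁻¹⁻¹) = z := by
        rcases hwa with h7 | h7
        · left
          have e : cm w (k⁻¹ * a * k⁻¹⁻¹) = (gp E z y u p * k)⁻¹ * ((gp E z y u p * k) *
            cm w (k⁻¹ * a * k⁻¹⁻¹) * (gp E z y u p * k)⁻¹) * (gp E z y u p * k) := by group
          rw [e, h7]; group
        · right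
          have e : cm w (k⁻¹ * a * k⁻¹⁻¹) = (gp E z y u p * k)⁻¹ * ((gp E z y u p * k) *
            cm w (k⁻¹ * a * k⁻¹⁻¹) * (gp E z y u p * k)⁻¹) * (gp E z y u p * k) := by group
          rw [e, h7, ← hgkz]; group
      have h7 : cm w a = 1 ∨ cm w a = z := by
        rcases h.cm_NA (h.NA_inv hk) hw with h8 | h8
        · rwa [h8] at h6
        · rw [h8] at h6
          rcases h6 with h6 | h6
          · right
            have : cm w a = z⁻¹ := eq_inv_of_mul_eq_one_left h6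
            rw [this]; exact inv_eq_of_mul_eq_one_left h.zz
          · left
            exact mul_eq_right.mp h6
      have h8 := h.inj w hw h7 g hg
      have e1 : ∀ g x x' : G, g * x * g⁻¹ * (g * x' * g⁻¹) = g * (x * x') * g⁻¹ :=
        fun g x x' => by group
      rw [e1, e1, h8]
  one := by
    intro p r hp hr hpr
    obtain ⟨k, hk, hWp, hWr, hkE, hky, hkz⟩ := h.exists_pair hu huV hp hr hpr
    obtain ⟨w, hw, hall, g, hg, hwg⟩ := h.one
    refine ⟨(gp E z y u p * k) * w * (gp E z y u p * k)⁻¹, ?_, ?_, ?_⟩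
    · rw [hWp]; exact conj_mem_cj hw
    · intro x hx
      rw [hWr] at hx
      obtain ⟨x, hx0, rfl⟩ := of_cj hx
      replace hx := hx0
      rw [← conj_cm]
      rcases hall x hx with h1 | h1
      · left; rw [h1]; group
      · right; rw [h1, hky]
    · refine ⟨(gp E z y u p * k) * g * (gp E z y u p * k)⁻¹, ?_, ?_⟩
      · rw [hWr]; exact conj_mem_cj hg
      · rw [← conj_cm, hwg, hky]

end Mov

end Cfsg.Agent.Omega.NO3S.Fit.PlaneCore

end

section


/-!
# LEMMA PLANE: the contradiction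

* `Mov.comm_conj` : for all `s ∈ C` and `g = s a s⁻¹`, the element `g a g⁻¹` centralises `E`;
* `Mov.false_of_inverted` : there is no `s ∈ C - Q` of odd order modulo `Q` inverted by `a` modulo `Q`.
-/

set_option autoImplicit false
set_option linter.unusedSectionVars false

namespace Cfsg.Agent.Omega.NO3S.Fit.PlaneCore

open Subgroup Cfsg Cfsg.Agent.MinSimple.Geo Cfsg.Agent.Omega.NO3S.Fit.PlaneForm

universe u

variable {G : Type u} [Group G]

theorem cm_mul_mem {N K : Subgroup G} (hn : ∀ k ∈ K, ∀ x ∈ N, k * x * k⁻¹ ∈ N) {u v c d : G}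
    (hu : u ∈ K) (hv : v ∈ K) (hc : c ∈ K) (hd : d ∈ K) (hu' : ∀ k ∈ K, cm u k ∈ N)
    (hv' : ∀ k ∈ K, cm v k ∈ N) (hcd : c * d = d * c) : cm (u * c) (v * d) ∈ N := by
  have h1 : d * c⁻¹ = c⁻¹ * d := by
    rw [eq_inv_mul_iff_mul_eq, ← mul_assoc, hcd, mul_inv_cancel_right]
  have e : cm (u * c) (v * d) = (u * cm c v * u⁻¹) * cm u (v * d) := by
    unfold cm
    calc u * c * (v * d) * (u * c)⁻¹ * (v * d)⁻¹ = u * c * v * (d * c⁻¹) * u⁻¹ * d⁻¹ * v⁻¹ := by group
      _ = u * c * v * (c⁻¹ * d) * u⁻¹ * d⁻¹ * v⁻¹ := by rw [h1]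
      _ = u * (c * v * c⁻¹ * v⁻¹) * u⁻¹ * (u * (v * d) * u⁻¹ * (v * d)⁻¹) := by group
  rw [e]
  refine N.mul_mem (hn u hu _ ?_) (hu' _ (K.mul_mem hv hd))
  rw [← cm_inv]
  exact N.inv_mem (hv' c hc)

theorem quot_calc {Γ : Type*} [Group Γ] {s a : Γ} (h1 : a * a = 1) (h2 : a * s * a⁻¹ * s = 1) :
    (s * a * s⁻¹) * a * (s * a * s⁻¹)⁻¹ = s * s * s * s * a := by
  have ha : a⁻¹ = a := inv_eq_of_mul_eq_one_left h1
  have h3 : a * s⁻¹ = s * a := by
    have h4 : a * s * a⁻¹ = s⁻¹ := eq_inv_of_mul_eq_one_left h2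
    have h5 : (a * s * a⁻¹)⁻¹ = s := by rw [h4, inv_inv]
    have h7 : (a * s * a⁻¹)⁻¹ = a * s⁻¹ * a⁻¹ := by group
    have h6 : a * s⁻¹ * a⁻¹ = s := by rw [← h7, h5]
    exact mul_inv_eq_iff_eq_mul.mp h6
  have h4 : s * a * s⁻¹ = s * s * a := by rw [mul_assoc, h3, mul_assoc]
  have h5 : (s * s * a)⁻¹ = s * s * a := by
    rw [mul_inv_rev, mul_inv_rev, ha, ← mul_assoc, h3, mul_assoc, h3, mul_assoc]
  rw [h4, h5]
  calc s * s * a * a * (s * s * a) = s * s * (a * a) * (s * s * a) := by group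
    _ = s * s * s * s * a := by rw [h1]; group

namespace Mov

variable {V E C Q W WY : Subgroup G} {z y a f u : G} (h : Mov V E C Q W WY z y a f)
  (hu : u ∈ E) (huV : u ∉ V)

/-- `F_E` -/
noncomputable def FF (E W : Subgroup G) (z y u : G) : Subgroup G :=
  ⨆ p : {p : V3 // p ≠ 0}, wp E W z y u p

theorem wp_le_FF {p : V3} (hp : p ≠ 0) : wp E W z y u p ≤ FF E W z y u :=
  le_iSup (fun p : {p : V3 // p ≠ 0} => wp E W z y u p) ⟨p, hp⟩

/-- `Z(F_E)` -/
noncomputable def ZF (E W : Subgroup G) (z y u : G) : Subgroup G :=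
  FF E W z y u ⊓ centralizer ((FF E W z y u : Subgroup G) : Set G)

theorem ZF_comm {x g : G} (hx : x ∈ ZF E W z y u) (hg : g ∈ FF E W z y u) : x * g = g * x :=
  ((mem_centralizer_iff.mp hx.2) g hg).symm

theorem mem_cent {W : Subgroup G} {k : G} : k ∈ centralizer (W : Set G) ↔ ∀ w ∈ W, k * w = w * k := by
  rw [mem_centralizer_iff]
  exact ⟨fun h w hw => (h w hw).symm, fun h w hw => (h w hw).symm⟩

include h

theorem K_C {k : G} (hk : k ∈ centralizer (W : Set G)) : k ∈ C :=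
  h.cent_C fun x hx => mem_cent.mp hk x (h.EW (h.VE hx))

theorem K_NE {k : G} (hk : k ∈ centralizer (W : Set G)) : k ∈ normalizer (E : Set G) :=
  cent_NV'' fun x hx => mem_cent.mp hk x (h.EW hx)

theorem K_conj {c k : G} (hc : c ∈ C) (hk : k ∈ centralizer (W : Set G)) :
    c * k * c⁻¹ ∈ centralizer (W : Set G) := by
  rw [mem_cent]
  intro w hw
  have h1 := mem_cent.mp hk _ (h.CW c⁻¹ (C.inv_mem hc) w hw)
  calc c * k * c⁻¹ * w = c * (k * (c⁻¹ * w * c⁻¹⁻¹)) * c⁻¹ := by group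
    _ = w * (c * k * c⁻¹) := by rw [h1]; group

include hu huV
variable [Finite G]

theorem K_wp {k : G} (hk : k ∈ centralizer (W : Set G)) {p : V3} (hp : p ≠ 0) {w : G}
    (hw : w ∈ wp E W z y u p) : k * w * k⁻¹ ∈ wp E W z y u p := by
  obtain ⟨h1, h2⟩ := h.gp_spec hu huV hp
  have h3 : wp E W z y u p = cj (k * gp E z y u p) W := by
    refine h.wp_eq hu huV hp (mul_mem (h.K_NE hk) h1) ?_
    have e : k * gp E z y u p * z * (k * gp E z y u p)⁻¹ =
      k * (gp E z y u p * z * (gp E z y u p)⁻¹) * k⁻¹ := by group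
    rw [e, h2, mem_cent.mp hk _ (h.EW (h.ee_mem hu p)), mul_inv_cancel_right]
  rw [h3, ← cj_cj]
  exact conj_mem_cj hw

theorem wp_C {p : V3} (hp : p ≠ 0) {w : G} (hw : w ∈ wp E W z y u p) : w ∈ C := by
  refine h.cent_C fun x hx => ?_
  obtain ⟨v, rfl⟩ := h.ee_surj hu huV (h.VE hx)
  exact (h.pform hu huV).cent p hp w hw v

theorem cm_gen {k : G} (hk : k ∈ centralizer (W : Set G)) {p : V3} (hp : p ≠ 0) {w : G}
    (hw : w ∈ wp E W z y u p) : cm k w ∈ ZF E W z y u := by
  have hP := h.pform hu huV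
  by_cases hpx : p = (1, 0, 0)
  · subst hpx
    rw [h.wp_x hu huV] at hw
    rw [cm_eq_one.mpr (mem_cent.mp hk w hw)]
    exact one_mem _
  · have hx0 : ((1, 0, 0) : V3) ≠ 0 := by decide
    have hd : cm k w ∈ wp E W z y u p := by
      have e : cm k w = (k * w * k⁻¹) * w⁻¹ := rfl
      rw [e]
      exact mul_mem (h.K_wp hu huV hk hp hw) (inv_mem hw)
    have hdK : cm k w ∈ centralizer (W : Set G) := by
      have e : cm k w = k * (w * k⁻¹ * w⁻¹) := by unfold cm; group
      rw [e]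
      exact mul_mem hk (h.K_conj (h.wp_C hu huV hp hw) (inv_mem hk))
    have h1 : PForm.lam (ee z y u) (ap E z y u a) p (cm k w) = 0 := by
      refine hP.lam_zero_of hp hx0 hpx hd fun g hg => ?_
      rw [h.wp_x hu huV] at hg
      exact cm_eq_one.mpr (mem_cent.mp hdK g hg)
    refine ⟨wp_le_FF hp hd, ?_⟩
    have h2 : FF E W z y u ≤ centralizer ({cm k w} : Set G) := by
      refine iSup_le fun r => ?_
      intro g hg
      rw [mem_centralizer_singleton_iff]
      exact (hP.comm_of_lam hp hd h1 r.2 hg).symm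
    have h3 : cm k w ∈ centralizer ((FF E W z y u : Subgroup G) : Set G) :=
      mem_centralizer_iff.mpr fun g hg => mem_centralizer_singleton_iff.mp (h2 hg)
    exact h3

/-- **(c)** `[C_G(W), F_E] ≤ Z(F_E)`. -/
theorem cm_mem {k : G} (hk : k ∈ centralizer (W : Set G)) {g : G} (hg : g ∈ FF E W z y u) :
    cm k g ∈ ZF E W z y u := by
  let S : Subgroup G :=
    { carrier := {g | g ∈ FF E W z y u ∧ cm k g ∈ ZF E W z y u}
      one_mem' := ⟨one_mem _, by
        have : cm k (1 : G) = 1 := by unfold cm; group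
        rw [this]; exact one_mem _⟩
      mul_mem' := by
        rintro x x' ⟨h1, h2⟩ ⟨h3, h4⟩
        refine ⟨mul_mem h1 h3, ?_⟩
        have e : cm k (x * x') = cm k x * (x * cm k x' * x⁻¹) := by
          unfold cm
          group
        rw [e, ← ZF_comm h4 h1, mul_inv_cancel_right]
        exact mul_mem h2 h4
      inv_mem' := by
        rintro x ⟨h1, h2⟩
        refine ⟨inv_mem h1, ?_⟩
        have e : cm k x⁻¹ = x⁻¹ * (cm k x)⁻¹ * x := by
          unfold cm
          group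
        have h3 := ZF_comm (inv_mem h2) (inv_mem h1)
        change cm k x⁻¹ ∈ ZF E W z y u
        rw [e, ← h3, inv_mul_cancel_right]
        exact inv_mem h2 }
  have hS : FF E W z y u ≤ S := iSup_le fun p w hw => ⟨wp_le_FF p.2 hw, h.cm_gen hu huV hk p.2 hw⟩
  exact (hS hg).2

theorem cm_mem_cj {k : G} (hk : k ∈ centralizer (W : Set G)) {c : G} (hc : c ∈ C) {g : G}
    (hg : g ∈ cj c (FF E W z y u)) : cm k g ∈ cj c (ZF E W z y u) := by
  obtain ⟨x, hx, rfl⟩ := of_cj hg
  have h1 := h.cm_mem hu huV (h.K_conj (C.inv_mem hc) hk) hx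
  have e : cm k (c * x * c⁻¹) = c * cm (c⁻¹ * k * c⁻¹⁻¹) x * c⁻¹ := by
    unfold cm
    group
  rw [e]
  exact conj_mem_cj h1

theorem a_mem_FF : a ∈ FF E W z y u := by
  have h0 : ((0, 1, 0) : V3) ≠ 0 := by decide
  have h1 : wp E W z y u (0, 1, 0) = WY := by
    rw [h.wp_eq_y hu huV h0 (one_mem _) (by unfold ee; simp [pw_zero, pw_one]), cj_one]
  exact wp_le_FF h0 (by rw [h1]; exact h.aW)

theorem W_le_FF : W ≤ FF E W z y u := by
  have h0 : ((1, 0, 0) : V3) ≠ 0 := by decide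
  have h1 := wp_le_FF (E := E) (W := W) (z := z) (y := y) (u := u) h0
  rwa [h.wp_x hu huV] at h1

theorem ZF_K {x : G} (hx : x ∈ ZF E W z y u) : x ∈ centralizer (W : Set G) :=
  mem_cent.mpr fun _ hw => ZF_comm hx (h.W_le_FF hu huV hw)

/-- the points different from `z` -/
theorem comm_conj_aux {s : G} (hs : s ∈ C) {t : G} (ht : t ∈ E) (ht1 : t ≠ 1) (htz : t ≠ z) :
    t * ((s * a * s⁻¹) * a * (s * a * s⁻¹)⁻¹) = ((s * a * s⁻¹) * a * (s * a * s⁻¹)⁻¹) * t := by
  have hP := h.pform hu huV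
  set g := s * a * s⁻¹ with hg
  have hgC : g ∈ C := C.mul_mem (C.mul_mem hs h.aC) (C.inv_mem hs)
  obtain ⟨v, rfl⟩ := h.ee_surj hu huV ht
  have hx0 : ((1, 0, 0) : V3) ≠ 0 := by decide
  have hv0 : v ≠ 0 := by
    rintro rfl
    exact ht1 hP.e_zero
  have hvx : v ≠ (1, 0, 0) := by
    rintro rfl
    exact htz ee_x
  obtain ⟨p, r, hp, hr, w₁, hw₁, w₂, hw₂, w₃, hw₃, w₄, hw₄, hc1, hc2, hjj⟩ := hP.exists_jj hx0 hv0 hvx
  have hjF : w₁ * w₂ ∈ FF E W z y u := mul_mem (wp_le_FF hv0 hw₁) (wp_le_FF hp hw₂)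
  have hjF' : w₃ * w₄ ∈ FF E W z y u := mul_mem (wp_le_FF hv0 hw₃) (wp_le_FF hr hw₄)
  have hjK : w₁ * w₂ ∈ centralizer (W : Set G) := by
    rw [mem_cent]
    intro w hw
    exact (hc1 w (by rw [h.wp_x hu huV]; exact hw)).symm
  have hjK' : w₃ * w₄ ∈ centralizer (W : Set G) := by
    rw [mem_cent]
    intro w hw
    exact (hc2 w (by rw [h.wp_x hu huV]; exact hw)).symm
  generalize w₁ * w₂ = j at *
  generalize w₃ * w₄ = j' at *
  -- the elements of `Z(F'')`
  have hgF : g ∈ cj s (FF E W z y u) := conj_mem_cj (h.a_mem_FF hu huV)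
  have key : ∀ j ∈ centralizer (W : Set G), (g * j * g⁻¹)⁻¹ * j ∈ cj s (ZF E W z y u) := by
    intro j hj
    have e : (g * j * g⁻¹)⁻¹ * j = (cm j⁻¹ g)⁻¹ := by
      unfold cm
      group
    rw [e]
    exact inv_mem (h.cm_mem_cj hu huV (inv_mem hj) hs hgF)
  have key2 : ∀ x ∈ cj s (ZF E W z y u), x ∈ centralizer (W : Set G) := by
    intro x hx
    obtain ⟨x, hx0, rfl⟩ := of_cj hx
    exact h.K_conj hs (h.ZF_K hu huV hx0)
  have hcomm : ∀ x ∈ cj s (ZF E W z y u), ∀ x' ∈ cj s (ZF E W z y u), x * x' = x' * x := by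
    intro x hx x' hx'
    obtain ⟨x, hx0, rfl⟩ := of_cj hx
    obtain ⟨x', hx0', rfl⟩ := of_cj hx'
    have h1 := ZF_comm hx0 hx0'.1
    have e1 : ∀ g x x' : G, g * x * g⁻¹ * (g * x' * g⁻¹) = g * (x * x') * g⁻¹ :=
      fun g x x' => by group
    rw [e1, e1, h1]
  have hmem : ee z y u v ∈ cj g (ZF E W z y u) := by
    have e1 : j = (g * j * g⁻¹) * ((g * j * g⁻¹)⁻¹ * j) := by group
    have e2 : j' = (g * j' * g⁻¹) * ((g * j' * g⁻¹)⁻¹ * j') := by group
    rw [← hjj, e1, e2]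
    refine cm_mul_mem (K := centralizer (W : Set G)) ?_ (h.K_conj hgC hjK) (h.K_conj hgC hjK')
      (key2 _ (key j hjK)) (key2 _ (key j' hjK')) ?_ ?_ (hcomm _ (key j hjK) _ (key j' hjK'))
    · intro k hk x hx
      obtain ⟨x, hx0, rfl⟩ := of_cj hx
      have h1 := h.cm_mem hu huV (h.K_conj (C.inv_mem hgC) hk) hx0.1
      have e : k * (g * x * g⁻¹) * k⁻¹ = g * (cm (g⁻¹ * k * g⁻¹⁻¹) x * x) * g⁻¹ := by
        unfold cm
        group
      rw [e]
      exact conj_mem_cj (mul_mem h1 hx0)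
    · intro k hk
      rw [← cm_inv]
      exact inv_mem (h.cm_mem_cj hu huV hk hgC (conj_mem_cj hjF))
    · intro k hk
      rw [← cm_inv]
      exact inv_mem (h.cm_mem_cj hu huV hk hgC (conj_mem_cj hjF'))
  obtain ⟨x, hx, hxe⟩ := of_cj hmem
  rw [hxe]
  have h1 := ZF_comm hx (h.a_mem_FF hu huV)
  have e1 : ∀ g x x' : G, g * x * g⁻¹ * (g * x' * g⁻¹) = g * (x * x') * g⁻¹ :=
    fun g x x' => by group
  rw [e1, e1, h1]

/-- **`g a g⁻¹` centralises `E` for all `g = s a s⁻¹`, `s ∈ C`.** -/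
theorem comm_conj {s : G} (hs : s ∈ C) {t : G} (ht : t ∈ E) :
    t * ((s * a * s⁻¹) * a * (s * a * s⁻¹)⁻¹) = ((s * a * s⁻¹) * a * (s * a * s⁻¹)⁻¹) * t := by
  by_cases ht1 : t = 1
  · rw [ht1, one_mul, mul_one]
  by_cases htz : t = z
  · have hgC : (s * a * s⁻¹) * a * (s * a * s⁻¹)⁻¹ ∈ C := by
      have h1 : s * a * s⁻¹ ∈ C := C.mul_mem (C.mul_mem hs h.aC) (C.inv_mem hs)
      exact C.mul_mem (C.mul_mem h1 h.aC) (C.inv_mem h1)
    rw [htz]
    exact (h.Cz _ hgC).symm
  · exact h.comm_conj_aux hu huV hs ht ht1 htz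

end Mov

/-! ### The action on `W / ⟨z⟩` -/

namespace Pl

variable {V E C Q W WY : Subgroup G} {z y a : G} (h : Pl V E C Q W WY z y a)
include h

/-- the quotient `W / ⟨z⟩` -/
theorem exists_quot : ∃ (M : Type u) (_ : CommGroup M) (m : W →* M),
    ∀ w : W, m w = 1 ↔ (w : G) = 1 ∨ (w : G) = z := by
  let _ : CommGroup W := { (inferInstance : Group W) with
    mul_comm := fun a b => Subtype.ext (h.ab a a.2 b b.2) }
  refine ⟨W ⧸ (zpowers (⟨z, h.zW⟩ : W)), inferInstance, QuotientGroup.mk' _, fun w => ?_⟩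
  have hzz : (⟨z, h.zW⟩ : W) * ⟨z, h.zW⟩ = 1 := Subtype.ext h.zz
  rw [QuotientGroup.mk'_apply, QuotientGroup.eq_one_iff, mem_zp hzz]
  constructor
  · rintro (h1 | h1)
    · exact Or.inl (congrArg Subtype.val h1)
    · exact Or.inr (congrArg Subtype.val h1)
  · rintro (h1 | h1)
    · exact Or.inl (Subtype.ext h1)
    · exact Or.inr (Subtype.ext h1)

omit h in
/-- the conjugate of `w ∈ W` by `c ∈ C` -/
def act (CW : ∀ c ∈ C, ∀ w ∈ W, c * w * c⁻¹ ∈ W) (c : C) (w : W) : W := ⟨c * w * (c : G)⁻¹, CW c c.2 w w.2⟩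

theorem act_mul (c c' : C) (w : W) : act h.CW (c * c') w = act h.CW c (act h.CW c' w) :=
  Subtype.ext (by simp [act, mul_assoc])

theorem act_mul' (c : C) (w w' : W) : act h.CW c (w * w') = act h.CW c w * act h.CW c w' :=
  Subtype.ext (by simp [act])

theorem act_one (w : W) : act h.CW 1 w = w := Subtype.ext (by simp [act])

theorem m_act {M : Type u} [CommGroup M] {m : W →* M}
    (hm : ∀ w : W, m w = 1 ↔ (w : G) = 1 ∨ (w : G) = z) (c : C) {w w' : W} (hw : m w = m w') :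
    m (act h.CW c w) = m (act h.CW c w') := by
  have h1 : m (w * w'⁻¹) = 1 := by rw [map_mul, map_inv, hw, mul_inv_cancel]
  have h2 : act h.CW c w = act h.CW c (w * w'⁻¹) * act h.CW c w' := by
    rw [← h.act_mul', inv_mul_cancel_right]
  have h3 : m (act h.CW c (w * w'⁻¹)) = 1 := by
    rw [hm] at h1 ⊢
    change (c : G) * ((w * w'⁻¹ : W) : G) * (c : G)⁻¹ = 1 ∨ (c : G) * ((w * w'⁻¹ : W) : G) * (c : G)⁻¹ = z
    rcases h1 with h1 | h1
    · left; rw [h1]; group
    · right; rw [h1, h.Cz c c.2]; group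
  rw [h2, map_mul, h3, one_mul]

theorem m_act_Q {M : Type u} [CommGroup M] {m : W →* M}
    (hm : ∀ w : W, m w = 1 ↔ (w : G) = 1 ∨ (w : G) = z) (c : C) (hc : (c : G) ∈ Q) (w : W) :
    m (act h.CW c w) = m w := by
  have h1 : m (act h.CW c w * w⁻¹) = 1 := by
    rw [hm]
    exact ((h.memQ c).mp hc).2 w w.2
  rw [map_mul, map_inv] at h1
  exact mul_inv_eq_one.mp h1

/-- If `s` is inverted by `a` modulo `Q` and fixes `E / ⟨z⟩ = [W / ⟨z⟩, a]`, then `s⁴ ∈ Q`. -/
theorem pow_four_mem {s : G} (hs : s ∈ C) (has : a * s * a⁻¹ * s ∈ Q)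
    (hfix : ∀ t ∈ E, s * t * s⁻¹ = t ∨ s * t * s⁻¹ = z * t) : s * s * s * s ∈ Q := by
  obtain ⟨M, _, m, hm⟩ := h.exists_quot
  let S : C := ⟨s, hs⟩
  let A : C := ⟨a, h.aC⟩
  have hAA : A * A = 1 := Subtype.ext h.aa
  have sqM : ∀ w : W, m w * m w = 1 := by
    intro w
    rw [← map_mul, hm]
    exact Or.inl (h.sqW w w.2)
  -- the basic relation
  have h0 : ∀ v : W, m (act h.CW (S * A) v) * m (act h.CW S v) = m (act h.CW A v) * m v := by
    intro v
    have h1 : ((act h.CW A v * v : W) : G) ∈ E := by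
      have h2 := E.inv_mem (h.comE v v.2 a h.aW)
      rw [cm_inv] at h2
      have e : ((act h.CW A v * v : W) : G) = cm a v := by
        change a * v * a⁻¹ * v = a * v * a⁻¹ * (v : G)⁻¹
        rw [inv_eq_of_mul_eq_one_left (h.sqW v v.2)]
      rwa [e]
    have h2 : m (act h.CW S (act h.CW A v * v)) = m (act h.CW A v * v) := by
      have h3 : m (act h.CW S (act h.CW A v * v) * (act h.CW A v * v)⁻¹) = 1 := by
        rw [hm]
        change s * ((act h.CW A v * v : W) : G) * s⁻¹ * ((act h.CW A v * v : W) : G)⁻¹ = 1 ∨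
          s * ((act h.CW A v * v : W) : G) * s⁻¹ * ((act h.CW A v * v : W) : G)⁻¹ = z
        rcases hfix _ h1 with h4 | h4
        · left; rw [h4, mul_inv_cancel]
        · right; rw [h4, mul_inv_cancel_right]
      rw [map_mul, map_inv] at h3
      exact mul_inv_eq_one.mp h3
    rw [h.act_mul', map_mul, map_mul, ← h.act_mul] at h2
    exact h2
  have h1 : ∀ w : W, m (act h.CW (S * A * S) w) = m (act h.CW A w) := by
    intro w
    have hq : ((S * A * S * A⁻¹ : C) : G) ∈ Q := by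
      change s * a * s * a⁻¹ ∈ Q
      have h2 := h.Q_conj (C.inv_mem h.aC) has
      have e : a⁻¹ * (a * s * a⁻¹ * s) * a⁻¹⁻¹ = s * a⁻¹ * s * a := by group
      rw [e] at h2
      rw [h.a_inv] at h2 ⊢
      exact h2
    have e : S * A * S = (S * A * S * A⁻¹) * A := by group
    rw [e, h.act_mul, h.m_act_Q hm _ hq]
  have E1 : ∀ w : W, m (act h.CW A w) * m (act h.CW (S * S) w) =
      m (act h.CW (A * S) w) * m (act h.CW S w) := by
    intro w
    have h2 := h0 (act h.CW S w)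
    rw [← h.act_mul, ← h.act_mul, ← h.act_mul, h1] at h2
    exact h2
  have E1a : ∀ w : W, m w * m (act h.CW (A * (S * S)) w) =
      m (act h.CW S w) * m (act h.CW (A * S) w) := by
    intro w
    have h2 := E1 w
    rw [← map_mul, ← map_mul] at h2
    have h3 := h.m_act hm A h2
    rw [h.act_mul', h.act_mul', map_mul, map_mul, ← h.act_mul, ← h.act_mul, ← h.act_mul,
      ← h.act_mul, hAA, h.act_one, ← mul_assoc A A S, hAA, one_mul] at h3
    exact h3
  have E1' : ∀ w : W, m (act h.CW (A * S) w) * m (act h.CW (S * S * S) w) =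
      m (act h.CW (A * (S * S)) w) * m (act h.CW (S * S) w) := by
    intro w
    have h2 := E1 (act h.CW S w)
    rw [← h.act_mul, ← h.act_mul, ← h.act_mul, ← h.act_mul, mul_assoc A S S] at h2
    exact h2
  have E2 : ∀ w : W, m w * m (act h.CW (S * S * S) w) =
      m (act h.CW S w) * m (act h.CW (S * S) w) := by
    intro w
    have h2 := E1a w
    have h3 := E1' w
    generalize m (act h.CW (A * (S * S)) w) = x1 at *
    generalize m (act h.CW (A * S) w) = x2 at *
    generalize m (act h.CW (S * S * S) w) = x3 at *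
    generalize m (act h.CW (S * S) w) = x4 at *
    generalize m (act h.CW S w) = x5 at *
    generalize m w = x0 at *
    have h4 : (x1 * x2) * (x0 * x3) = (x1 * x2) * (x5 * x4) := by
      calc (x1 * x2) * (x0 * x3) = (x0 * x1) * (x2 * x3) := by
            simp only [mul_comm, mul_left_comm, mul_assoc]
        _ = (x5 * x2) * (x1 * x4) := by rw [h2, h3]
        _ = (x1 * x2) * (x5 * x4) := by simp only [mul_comm, mul_left_comm, mul_assoc]
    exact mul_left_cancel h4
  rw [h.memQ]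
  refine ⟨C.mul_mem (C.mul_mem (C.mul_mem hs hs) hs) hs, fun w hw => ?_⟩
  have E3 := E2 ⟨w, hw⟩
  have E4 : m (act h.CW S ⟨w, hw⟩) * m (act h.CW (S * S * S * S) ⟨w, hw⟩) =
      m (act h.CW (S * S) ⟨w, hw⟩) * m (act h.CW (S * S * S) ⟨w, hw⟩) := by
    have h2 := E3
    rw [← map_mul, ← map_mul] at h2
    have h3 := h.m_act hm S h2
    rw [h.act_mul', h.act_mul', map_mul, map_mul, ← h.act_mul, ← h.act_mul, ← h.act_mul] at h3
    have e1 : S * (S * S * S) = S * S * S * S := by group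
    have e2 : S * (S * S) = S * S * S := by group
    rw [e1, e2] at h3
    exact h3
  have h5 : m ⟨w, hw⟩ * m (act h.CW (S * S * S * S) ⟨w, hw⟩) = 1 := by
    have h6 := sqM (act h.CW (S * S) ⟨w, hw⟩)
    generalize m (act h.CW (S * S * S * S) ⟨w, hw⟩) = x1 at *
    generalize m (act h.CW (S * S * S) ⟨w, hw⟩) = x3 at *
    generalize m (act h.CW (S * S) ⟨w, hw⟩) = x4 at *
    generalize m (act h.CW S ⟨w, hw⟩) = x5 at *
    generalize m ⟨w, hw⟩ = x0 at *
    have h4 : (x3 * x5) * (x0 * x1) = (x3 * x5) * 1 := by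
      calc (x3 * x5) * (x0 * x1) = (x0 * x3) * (x5 * x1) := by
            simp only [mul_comm, mul_left_comm, mul_assoc]
        _ = (x5 * x4) * (x4 * x3) := by rw [E3, E4]
        _ = (x3 * x5) * (x4 * x4) := by simp only [mul_comm, mul_left_comm, mul_assoc]
        _ = (x3 * x5) * 1 := by rw [h6]
    exact mul_left_cancel h4
  have h6 : m (act h.CW (S * S * S * S) ⟨w, hw⟩ * (⟨w, hw⟩ : W)⁻¹) = 1 := by
    rw [map_mul, map_inv]
    have h7 := sqM ⟨w, hw⟩
    rw [mul_inv_eq_one]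
    exact mul_left_cancel (h5.trans h7.symm)
  rw [hm] at h6
  exact h6

end Pl

namespace Mov

variable {V E C Q W WY : Subgroup G} {z y a f : G} (h : Mov V E C Q W WY z y a f)
include h

/-- **LEMMA PLANE, core.** There is no `s ∈ C - Q` of odd order modulo `Q` inverted by `a` modulo `Q`. -/
theorem false_of_inverted [Finite G] {s : G} (hs : s ∈ C) (hsQ : s ∉ Q)
    (has : a * s * a⁻¹ * s ∈ Q) {n : ℕ} (hn : Odd n) (hsn : s ^ n ∈ Q) : False := by
  obtain ⟨u, hu, huV⟩ := h.neE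
  -- the elements of `C` acting trivially on `E / ⟨z⟩`
  let X : Subgroup G :=
    { carrier := {c | c ∈ C ∧ ∀ t ∈ E, c * t * c⁻¹ = t ∨ c * t * c⁻¹ = z * t}
      one_mem' := ⟨one_mem _, fun t _ => Or.inl (by group)⟩
      mul_mem' := by
        rintro c c' ⟨h1, h2⟩ ⟨h3, h4⟩
        refine ⟨mul_mem h1 h3, fun t ht => ?_⟩
        have e : c * c' * t * (c * c')⁻¹ = c * (c' * t * c'⁻¹) * c⁻¹ := by group
        rw [e]
        have ecz : c * (z * t) * c⁻¹ = z * (c * t * c⁻¹) := by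
          rw [← mul_assoc, h.Cz c h1]
          group
        rcases h4 t ht with h5 | h5 <;> rcases h2 t ht with h6 | h6 <;> rw [h5]
        · exact Or.inl h6
        · exact Or.inr h6
        · rw [ecz, h6]; exact Or.inr rfl
        · rw [ecz, h6]
          left
          rw [← mul_assoc, h.zz, one_mul]
      inv_mem' := by
        rintro c ⟨h1, h2⟩
        refine ⟨inv_mem h1, fun t ht => ?_⟩
        rcases h2 t ht with h3 | h3
        · left
          have e : t = c⁻¹ * (c * t * c⁻¹) * c := by group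
          rw [h3] at e
          rw [inv_inv]
          exact e.symm
        · right
          have hcz : c⁻¹ * z = z * c⁻¹ := h.Cz c⁻¹ (inv_mem h1)
          have e : c⁻¹ * (z * t) * c = t := by rw [← h3]; group
          have e2 : z * (c⁻¹ * t * c⁻¹⁻¹) = t := by
            rw [inv_inv, ← mul_assoc, ← mul_assoc, ← hcz]
            rw [← mul_assoc] at e
            exact e
          calc c⁻¹ * t * c⁻¹⁻¹ = z * (z * (c⁻¹ * t * c⁻¹⁻¹)) := by rw [← mul_assoc, h.zz, one_mul]
            _ = z * t := by rw [e2] }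
  have hQX : Q ≤ X := fun q hq => ⟨h.QC hq, fun t ht => h.Q_act hq (h.EW ht)⟩
  have haX : a ∈ X := ⟨h.aC, fun t ht => Or.inl (by rw [h.WY_cent h.aW ht]; group)⟩
  have hgC : s * a * s⁻¹ ∈ C := C.mul_mem (C.mul_mem hs h.aC) (C.inv_mem hs)
  have ha3X : (s * a * s⁻¹) * a * (s * a * s⁻¹)⁻¹ ∈ X := by
    refine ⟨C.mul_mem (C.mul_mem hgC h.aC) (C.inv_mem hgC), fun t ht => Or.inl ?_⟩
    rw [← h.comm_conj hu huV hs ht]
    group
  -- `s⁴ a ∈ a₃ Q`
  have h4 : ((s * a * s⁻¹) * a * (s * a * s⁻¹)⁻¹)⁻¹ * (s * s * s * s * a) ∈ Q := by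
    have hN : (Q.subgroupOf C).Normal := by
      constructor
      intro x hx c
      rw [mem_subgroupOf] at hx ⊢
      exact h.Q_conj c.2 hx
    let S : C := ⟨s, hs⟩
    let A : C := ⟨a, h.aC⟩
    have h1 : (QuotientGroup.mk A : C ⧸ Q.subgroupOf C) * QuotientGroup.mk A = 1 := by
      rw [← QuotientGroup.mk_mul]
      have : A * A = 1 := Subtype.ext h.aa
      rw [this]; rfl
    have h2 : (QuotientGroup.mk A : C ⧸ Q.subgroupOf C) * QuotientGroup.mk S *
        (QuotientGroup.mk A)⁻¹ * QuotientGroup.mk S = 1 := by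
      rw [← QuotientGroup.mk_inv, ← QuotientGroup.mk_mul, ← QuotientGroup.mk_mul,
        ← QuotientGroup.mk_mul, QuotientGroup.eq_one_iff, mem_subgroupOf]
      exact has
    have h3 := quot_calc h1 h2
    rw [← QuotientGroup.mk_inv, ← QuotientGroup.mk_mul, ← QuotientGroup.mk_mul,
      ← QuotientGroup.mk_mul, ← QuotientGroup.mk_inv, ← QuotientGroup.mk_mul,
      ← QuotientGroup.mk_mul, ← QuotientGroup.mk_mul, ← QuotientGroup.mk_mul,
      ← QuotientGroup.mk_mul, QuotientGroup.eq, mem_subgroupOf] at h3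
    exact h3
  have hs4X : s * s * s * s ∈ X := by
    have e : s * s * s * s = ((s * a * s⁻¹) * a * (s * a * s⁻¹)⁻¹) *
        (((s * a * s⁻¹) * a * (s * a * s⁻¹)⁻¹)⁻¹ * (s * s * s * s * a)) * a⁻¹ := by group
    rw [e]
    exact mul_mem (mul_mem ha3X (hQX h4)) (inv_mem haX)
  -- odd order arguments
  have hodd : ∀ Y : Subgroup G, s * s * s * s ∈ Y → s ^ n ∈ Y → s ∈ Y := by
    intro Y h1 h2
    obtain ⟨k, hk⟩ := hn
    obtain ⟨j, hj⟩ : ∃ j, n * n = 4 * j + 1 := ⟨k * k + k, by rw [hk]; ring⟩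
    have e1 : s ^ (n * n) ∈ Y := by rw [pow_mul]; exact pow_mem h2 n
    have e4 : s * s * s * s = s ^ 4 := by simp [pow_succ]
    have e2 : s ^ (4 * j) ∈ Y := by rw [pow_mul, ← e4]; exact pow_mem h1 j
    rw [hj, pow_add, pow_one] at e1
    have e3 := mul_mem (inv_mem e2) e1
    rwa [inv_mul_cancel_left] at e3
  have hsX : s ∈ X := hodd X hs4X (hQX hsn)
  exact hsQ (hodd Q (h.pow_four_mem hs has hsX.2) hsn)

end Mov

end Cfsg.Agent.Omega.NO3S.Fit.PlaneCore

end

section


/-!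
# LEMMA PLANE (helper311's text #13963, section 2) for families

`Fam.plane` : `k = 1`, `|[M, a]| = 4`: every `f ∈ C_z` which commutes with `a` modulo `Q_z` normalises `V`.
-/

set_option autoImplicit false
set_option linter.unusedSectionVars false

namespace Cfsg.Agent.Omega.NO3S.Fit

open Subgroup Cfsg Cfsg.Agent.ZN Cfsg.Agent.MinSimple.Geo Cfsg.Agent.Omega.CaseL
open Cfsg.Agent.Omega.NO3S.Fit.PlaneForm (cm cm_eq_one cm_inv)
open Cfsg.Agent.ZN.Block (conj_mem_of_normalizer conj_mem_of_normalizer' le_normalizer_of_forall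
  mem_normalizer_of)

universe u

variable {G : Type u} [Group G]

/-! ### An involution outside `O₂` inverts an element of odd order -/

/-- two involutions whose product has 2-power order generate a 2-group -/
theorem isPGroup_pair_of {Γ : Type*} [Group Γ] {x y : Γ} (hx : x * x = 1) (hy : y * y = 1) {n : ℕ}
    (hn : (x * y) ^ 2 ^ n = 1) : IsPGroup 2 (closure ({x, y} : Set Γ)) := by
  rintro ⟨d, hd⟩
  obtain ⟨k, e | e⟩ := Involutions.DihedralPair.mem_closure_pair hx hy hd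
  · refine ⟨n, Subtype.ext ?_⟩
    change d ^ 2 ^ n = 1
    rw [e, ← zpow_natCast, ← zpow_mul, mul_comm, zpow_mul, zpow_natCast, hn, one_zpow]
  · refine ⟨1, Subtype.ext ?_⟩
    change d ^ 2 ^ 1 = 1
    rw [pow_one, pow_two, e]
    have h1 := Involutions.DihedralPair.mul_zpow_pair hx hy k
    calc (x * y) ^ k * x * ((x * y) ^ k * x) = (x * y) ^ k * (x * (x * y) ^ k) * x := by group
      _ = (x * y) ^ k * ((x * y) ^ (-k) * x) * x := by rw [h1]
      _ = (x * y) ^ k * (x * y) ^ (-k) * (x * x) := by group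
      _ = 1 := by rw [hx, ← zpow_add]; simp

/-- An involution outside `O₂(Γ)` inverts a nontrivial element of odd order. -/
theorem exists_inverted_of_notMem {Γ : Type*} [Group Γ] [Finite Γ] {x : Γ} (hx : x * x = 1)
    (hxO : x ∉ pCore 2 Γ) : ∃ s : Γ, s ≠ 1 ∧ x * s * x⁻¹ = s⁻¹ ∧ ∃ n : ℕ, Odd n ∧ s ^ n = 1 := by
  have hfact : Fact (Nat.Prime 2) := ⟨Nat.prime_two⟩
  by_contra hcon
  push Not at hcon
  apply hxO
  refine Involutions.BaerSuzuki.mem_pCore_of_conj_pairs x fun g => ?_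
  set y := g * x * g⁻¹ with hy
  have hyy : y * y = 1 := by
    rw [hy]
    calc g * x * g⁻¹ * (g * x * g⁻¹) = g * (x * x) * g⁻¹ := by group
      _ = 1 := by rw [hx]; group
  have hxi : x⁻¹ = x := inv_eq_of_mul_eq_one_left hx
  have hyi : y⁻¹ = y := inv_eq_of_mul_eq_one_left hyy
  obtain ⟨k, m, hm, hkm⟩ := Nat.exists_eq_two_pow_mul_odd (n := orderOf (x * y)) (orderOf_pos _).ne'
  refine isPGroup_pair_of hx hyy (n := k) ?_
  by_contra hne
  refine hcon ((x * y) ^ 2 ^ k) hne ?_ m hm ?_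
  · rw [← conj_pow, ← inv_pow]
    congr 1
    rw [mul_inv_rev, hyi, hxi, ← mul_assoc, hx, one_mul]
  · rw [← pow_mul, ← hkm, pow_orderOf_eq_one]

/-! ### Commutators -/

theorem cm_mul_left (a b c : G) : cm (a * b) c = a * cm b c * a⁻¹ * cm a c := by
  unfold cm
  group

theorem cm_mul_right (a b c : G) : cm a (b * c) = cm a b * (b * cm a c * b⁻¹) := by
  unfold cm
  group

theorem conj_cm' (g x y : G) : g * cm x y * g⁻¹ = cm (g * x * g⁻¹) (g * y * g⁻¹) := by
  unfold cm
  group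

namespace Fam

variable {T V : Subgroup G} {z : G} {cf : G → Subgroup G}

/-- `[W_p, Q_p] ≤ ⟨p⟩` -/
theorem cm_qq (h : Fam T V z cf) {p w k : G} (hp : p ∈ V) (hp1 : p ≠ 1) (hw : w ∈ ww V cf p)
    (hk : k ∈ qq V cf p) : cm w k = 1 ∨ cm w k = p := by
  have e : cm w k = (cm k w)⁻¹ := (cm_inv k w).symm
  rcases h.qq_cases hp hk hw with e1 | e1
  · left
    rw [e, inv_eq_one, cm_eq_one]
    exact comm_of_conj_eq e1
  · right
    have : cm k w = p := by
      unfold cm
      rw [e1, mul_assoc, mul_inv_cancel, mul_one]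
    rw [e, this, h.ln.inv_eq hp]

/-- `[W_p ∩ Q_q, W_q] ≤ ⟨q⟩` -/
theorem cm_qq' (h : Fam T V z cf) {q w g : G} (hq : q ∈ V) (hw : w ∈ qq V cf q)
    (hg : g ∈ ww V cf q) : cm w g = 1 ∨ cm w g = q := by
  rcases h.qq_cases hq hw hg with e1 | e1
  · exact Or.inl (cm_eq_one.mpr (comm_of_conj_eq e1))
  · right
    unfold cm
    rw [e1, mul_assoc, mul_inv_cancel, mul_one]

theorem cm_step (h : Fam T V z cf) {E : Subgroup G} (hVE : V ≤ E) {p q : G} (hp : p ∈ V) (hp1 : p ≠ 1)
    (hq : q ∈ V) (hq1 : q ≠ 1) (hqp : q ≠ p) (H : ∀ a ∈ ww V cf p, ∀ b ∈ ww V cf q, cm a b ∈ E) :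
    ∀ a ∈ ww V cf p, ∀ b ∈ ww V cf (p * q), cm a b ∈ E := by
  intro a ha b hb
  have hpq1 : p * q ≠ 1 := h.mul_ne_one hq (Ne.symm hqp)
  have hpq : p * q ∈ V := mul_mem hp hq
  have hne : p * q ≠ p := fun e => hq1 (by simpa using e)
  obtain ⟨b', hb', k, hk, rfl⟩ := h.ww_mod hp hp1 hpq hpq1 hne hb
  have e : p * (p * q) = q := by rw [← mul_assoc, h.ln.sq p hp, one_mul]
  rw [e] at hb'
  rw [cm_mul_right]
  refine mul_mem (H a ha b' hb') ?_
  rcases h.cm_qq hp hp1 ha hk with e1 | e1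
  · rw [e1]; simp
  · rw [e1, mem_centralizer_iff.mp (h.ww_le_cent hq hq1 hb') p hp |>.symm, mul_inv_cancel_right]
    exact hVE hp

/-- All the commutators `[W_p, W_q]` are the same modulo `V`. -/
theorem cm_all (h : Fam T V z cf) {E : Subgroup G} (hVE : V ≤ E) {p q : G} (hp : p ∈ V) (hp1 : p ≠ 1)
    (hq : q ∈ V) (hq1 : q ≠ 1) (hqp : q ≠ p) (H : ∀ a ∈ ww V cf p, ∀ b ∈ ww V cf q, cm a b ∈ E)
    {p' q' : G} (hp' : p' ∈ V) (hp1' : p' ≠ 1) (hq' : q' ∈ V) (hq1' : q' ≠ 1) (hqp' : q' ≠ p') :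
    ∀ a ∈ ww V cf p', ∀ b ∈ ww V cf q', cm a b ∈ E := by
  have hc : q * p = p * q := h.ln.comm hq hp
  have hsymm : ∀ {p q : G}, (∀ a ∈ ww V cf p, ∀ b ∈ ww V cf q, cm a b ∈ E) →
      ∀ a ∈ ww V cf q, ∀ b ∈ ww V cf p, cm a b ∈ E := by
    intro p q H a ha b hb
    rw [← cm_inv]
    exact inv_mem (H b hb a ha)
  have H2 := h.cm_step hVE hp hp1 hq hq1 hqp H
  have H3 := h.cm_step hVE hq hq1 hp hp1 (Ne.symm hqp) (hsymm H)
  rw [hc] at H3
  rcases h.ln.four hp hq hp1 hq1 (Ne.symm hqp) hp' with e | e | e | e <;>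
    rcases h.ln.four hp hq hp1 hq1 (Ne.symm hqp) hq' with e' | e' | e' | e' <;>
    first
      | exact absurd e hp1'
      | exact absurd e' hq1'
      | exact absurd (e'.trans e.symm) hqp'
      | (rw [e, e']; first
          | exact H
          | exact H2
          | exact H3
          | exact hsymm H
          | exact hsymm H2
          | exact hsymm H3)

/-- `V ∪ e V` -/
def eg (V : Subgroup G) (e : G) (he : e * e = 1) (hc : ∀ v ∈ V, e * v = v * e) : Subgroup G where
  carrier := {u | u ∈ V ∨ e * u ∈ V}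
  one_mem' := Or.inl (one_mem _)
  mul_mem' := by
    rintro u v (h1 | h1) (h2 | h2)
    · exact Or.inl (mul_mem h1 h2)
    · right
      have : e * (u * v) = u * (e * v) := by rw [← mul_assoc, hc u h1, mul_assoc]
      rw [this]
      exact mul_mem h1 h2
    · right
      rw [← mul_assoc]
      exact mul_mem h1 h2
    · left
      have e1 : u * v = (e * u) * (e * v) := by
        have h3 : u = e * (e * u) := by rw [← mul_assoc, he, one_mul]
        calc u * v = e * (e * u) * v := by rw [← h3]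
          _ = (e * u) * e * v := by rw [hc _ h1]
          _ = (e * u) * (e * v) := by rw [mul_assoc]
      rw [e1]
      exact mul_mem h1 h2
  inv_mem' := by
    rintro u (h1 | h1)
    · exact Or.inl (inv_mem h1)
    · right
      have h2 := hc _ (inv_mem h1)
      have e1 : u⁻¹ = (e * u)⁻¹ * e := by group
      rw [e1, ← mul_assoc, h2, mul_assoc, he, mul_one]
      exact inv_mem h1

theorem mem_eg {V : Subgroup G} {e : G} {he : e * e = 1} {hc : ∀ v ∈ V, e * v = v * e} {u : G} :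
    u ∈ eg V e he hc ↔ u ∈ V ∨ e * u ∈ V := Iff.rfl

section

variable (h : Fam T V z cf) (hk : One1 V cf) {y a w0 : G} (hy : y ∈ V) (hy1 : y ≠ 1) (hyz : y ≠ z)
  (ha : a ∈ ww V cf y) (haQ : a ∉ qq V cf z) (hw0 : w0 ∈ ww V cf z) (hw0V : cm w0 a ∉ V)
include h hk hy hy1 hyz ha haQ hw0 hw0V

theorem pl_cases : ∀ w ∈ ww V cf z, cm w a ∈ V ∨ cm w0 a * cm w a ∈ V := by
  have hz := h.ln.z_mem
  have hz1 := h.ln.z_ne
  intro w hw
  have h0 : ∀ w ∈ qq V cf y, cm w a ∈ V := by
    intro w hwQ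
    rcases h.cm_qq' hy hwQ ha with e | e <;> rw [e]
    · exact one_mem _
    · exact hy
  by_cases hwQ : w ∈ qq V cf y
  · exact Or.inl (h0 w hwQ)
  · right
    have hw0Q : w0 ∉ qq V cf y := fun e => hw0V (h0 w0 e)
    have h1 := h0 _ (hk z hz hz1 y hy hy1 hyz w hw w0 hw0 hwQ hw0Q)
    have h2 : cm w0 a ∈ ww V cf z := (h.comm_mem hz hz1 hy hy1 hw0 ha).1
    rw [cm_mul_left, h.ab w hw _ h2, mul_inv_cancel_right] at h1
    exact h1

/-- some element of `W_z` has commutator `y` with `a` -/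
theorem pl_one [Finite G] : ∃ w ∈ ww V cf z, cm w a = y := by
  have hz := h.ln.z_mem
  have hz1 := h.ln.z_ne
  by_contra hcon
  push Not at hcon
  have h0 : ∀ w ∈ ww V cf z, w ∈ qq V cf y → cm w a = 1 := by
    intro w hw hwQ
    rcases h.cm_qq' hy hwQ ha with e | e
    · exact e
    · exact absurd e (hcon w hw)
  have hw0Q : w0 ∉ qq V cf y := fun e => hw0V (by rw [h0 w0 hw0 e]; exact one_mem _)
  have heW : cm w0 a ∈ ww V cf z := (h.comm_mem hz hz1 hy hy1 hw0 ha).1
  have hee := h.sqz _ heW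
  have h1 : ∀ w ∈ ww V cf z, w ∉ qq V cf y → cm w a = cm w0 a := by
    intro w hw hwQ
    have h2 := h0 _ (mul_mem hw hw0) (hk z hz hz1 y hy hy1 hyz w hw w0 hw0 hwQ hw0Q)
    rw [cm_mul_left, h.ab w hw _ heW, mul_inv_cancel_right] at h2
    calc cm w a = cm w0 a * cm w0 a * cm w a := by rw [hee, one_mul]
      _ = cm w0 a := by rw [mul_assoc, h2, mul_one]
  refine hw0V (h.fix (h.comm_mem_jj hz hz1 hy hy1 hyz hw0 ha) fun t ht htV => ?_)
  have htc := h.T_le_cf ht
  have hty := h.ge y hy hy1 ⟨h.ln.T_norm ht, h.cent_le_cs hy htV⟩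
  have hty1 : t * y * t⁻¹ = y := by
    rw [(h.V_comm hy htV).symm]; group
  have hw' : t * w0 * t⁻¹ ∈ ww V cf z := conj_mem_of_normalizer h.cf_norm htc hw0
  have ha' : t * a * t⁻¹ ∈ ww V cf y := conj_mem_of_normalizer h.cf_norm hty ha
  have haQ' : t * a * t⁻¹ ∉ qq V cf z := by
    intro e
    apply haQ
    have := conj_mem_of_normalizer (h.cf_norm_qq hz hz1) (inv_mem htc) e
    have e1 : t⁻¹ * (t * a * t⁻¹) * t⁻¹⁻¹ = a := by group
    rwa [e1] at this
  have hwQ' : t * w0 * t⁻¹ ∉ qq V cf y := by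
    intro e
    apply hw0Q
    have := conj_mem_of_normalizer (h.cf_norm_qq hy hy1) (inv_mem hty) e
    have e1 : t⁻¹ * (t * w0 * t⁻¹) * t⁻¹⁻¹ = w0 := by group
    rwa [e1] at this
  have hq : t * a * t⁻¹ * a ∈ qq V cf z := hk y hy hy1 z hz hz1 (Ne.symm hyz) _ ha' a ha haQ' haQ
  have haa : a * a = 1 := h.sq hy hy1 a ha
  change t * cm w0 a * t⁻¹ = cm w0 a ∨ t * cm w0 a * t⁻¹ = z * cm w0 a
  rw [conj_cm']
  have e2 : t * a * t⁻¹ = (t * a * t⁻¹ * a) * a := by rw [mul_assoc _ a a, haa, mul_one]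
  rw [e2, cm_mul_right, h1 _ hw' hwQ']
  have e3 := h.qq_cases hz hq heW
  have hcz : cm w0 a * z = z * cm w0 a := h.ab _ heW z h.z_mem_ww
  rcases h.cm_qq hz hz1 hw' hq with e1 | e1 <;> rcases e3 with e3 | e3 <;> rw [e1, e3]
  · exact Or.inl (one_mul _)
  · exact Or.inr (one_mul _)
  · exact Or.inr rfl
  · left
    rw [← mul_assoc, h.ln.zz, one_mul]

/-- The plane. -/
theorem exists_pl [Finite G] : ∃ E, PlaneCore.Pl V E (cf z) (qq V cf z) (ww V cf z) (ww V cf y) z y a := by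
  have hz := h.ln.z_mem
  have hz1 := h.ln.z_ne
  have heW : cm w0 a ∈ ww V cf z := (h.comm_mem hz hz1 hy hy1 hw0 ha).1
  have hee := h.sqz _ heW
  have heV : ∀ v ∈ V, cm w0 a * v = v * cm w0 a := fun v hv => h.ab _ heW v (h.V_le hv)
  have hjj : cm w0 a ∈ jj V cf := h.comm_mem_jj hz hz1 hy hy1 hyz hw0 ha
  set E := eg V (cm w0 a) hee heV with hE
  have memE : ∀ u, u ∈ E ↔ u ∈ V ∨ cm w0 a * u ∈ V := fun u => Iff.rfl
  have hVE : V ≤ E := fun v hv => Or.inl hv
  have hdec : ∀ u, u = cm w0 a * (cm w0 a * u) := fun u => by rw [← mul_assoc, hee, one_mul]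
  have hEj : E ≤ jj V cf := by
    rintro u (hu | hu)
    · exact h.V_le_jj hu
    · rw [hdec u]
      exact mul_mem hjj (h.V_le_jj hu)
  have hEW : E ≤ ww V cf z := hEj.trans (jj_le hz hz1)
  have heE : cm w0 a ∈ E := by
    right
    rw [hee]
    exact one_mem _
  have hcase := h.pl_cases hk hy hy1 hyz ha haQ hw0 hw0V
  obtain ⟨w1, hw1, hw1y⟩ := h.pl_one hk hy hy1 hyz ha haQ hw0 hw0V
  have haa : a * a = 1 := h.sq hy hy1 a ha
  have hk1 : ∀ g ∈ ww V cf y, g ∈ qq V cf z ∨ g * a ∈ qq V cf z := by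
    intro g hg
    by_cases hgQ : g ∈ qq V cf z
    · exact Or.inl hgQ
    · exact Or.inr (hk y hy hy1 z hz hz1 (Ne.symm hyz) g hg a ha hgQ haQ)
  have hmul : ∀ w ∈ ww V cf z, ∀ w' ∈ ww V cf z, cm (w * w') a = cm w' a * cm w a := by
    intro w hw w' hw'
    have h2 : cm w' a ∈ ww V cf z := (h.comm_mem hz hz1 hy hy1 hw' ha).1
    rw [cm_mul_left, h.ab w hw _ h2, mul_inv_cancel_right]
  have hcomE : ∀ w ∈ ww V cf z, ∀ g ∈ ww V cf y, cm w g ∈ E := by
    intro w hw g hg
    have haE : cm w a ∈ E := hcase w hw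
    rcases hk1 g hg with h1 | h1
    · rcases h.cm_qq hz hz1 hw h1 with e | e <;> rw [e]
      · exact one_mem _
      · exact hVE hz
    · have e : g = (g * a) * a := by rw [mul_assoc, haa, mul_one]
      rw [e, cm_mul_right]
      refine mul_mem ?_ ?_
      · rcases h.cm_qq hz hz1 hw h1 with e | e <;> rw [e]
        · exact one_mem _
        · exact hVE hz
      · rcases h.qq_cases hz h1 (hEW haE) with e | e <;> rw [e]
        · exact haE
        · exact mul_mem (hVE hz) haE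
  have hNE : normalizer (V : Set G) ≤ normalizer (E : Set G) := by
    refine le_normalizer_of_forall fun g hg u hu => ?_
    rcases hu with hu | hu
    · exact Or.inl (h.conj_pt hg hu)
    · rw [hdec u]
      have e1 : g * (cm w0 a * (cm w0 a * u)) * g⁻¹ =
          (g * cm w0 a * g⁻¹) * (g * (cm w0 a * u) * g⁻¹) := by group
      rw [e1]
      refine mul_mem ?_ (hVE (h.conj_pt hg hu))
      rw [conj_cm']
      have hne : g * y * g⁻¹ ≠ g * z * g⁻¹ := by
        intro e
        apply hyz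
        have := congrArg (fun x => g⁻¹ * x * g) e
        simpa [mul_assoc] using this
      exact h.cm_all hVE hz hz1 hy hy1 hyz hcomE (h.conj_pt hg hz) (conj_ne hz1) (h.conj_pt hg hy)
        (conj_ne hy1) hne _ (h.conj_ww hg hz hz1 hw0) _ (h.conj_ww hg hy hy1 ha)
  have hinQ : ∀ w ∈ ww V cf z, cm w a ∈ V → w ∈ qq V cf y := by
    intro w hw hwV
    by_contra hwQ
    have hw0Q : w0 ∉ qq V cf y := by
      intro e
      rcases h.cm_qq' hy e ha with e | e
      · exact hw0V (by rw [e]; exact one_mem _)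
      · exact hw0V (by rw [e]; exact hy)
    have h1 := hk z hz hz1 y hy hy1 hyz w hw w0 hw0 hwQ hw0Q
    have h2 : cm (w * w0) a ∈ V := by
      rcases h.cm_qq' hy h1 ha with e | e <;> rw [e]
      · exact one_mem _
      · exact hy
    rw [hmul w hw w0 hw0] at h2
    apply hw0V
    have := mul_mem h2 (inv_mem hwV)
    rwa [mul_inv_cancel_right] at this
  refine ⟨E, ?_⟩
  refine
    { memQ := ?_, Cz := fun c hc => h.cf_comm hz hz1 hc
      CW := fun c hc w hw => conj_mem_of_normalizer h.cf_norm hc hw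
      ge := fun g hg hgz => h.ge z hz hz1 ⟨hg, mem_centralizer_singleton_iff.mpr hgz⟩
      ab := h.ab, sqW := h.sqz, zz := h.ln.zz, yy := h.ln.sq y hy, z1 := hz1, y1 := hy1, yz := hyz
      zV := hz, yV := hy
      four := fun v hv => h.ln.four hz hy hz1 hy1 (Ne.symm hyz) hv
      VE := hVE, EW := hEW, sqE := fun u hu => h.sqz u (hEW hu), idx := ?_
      neE := ⟨cm w0 a, heE, hw0V⟩, NE := hNE, tr := h.ln.trans, sw := ?_, trE := ?_, WYdef := ?_
      aW := ha, aa := haa, aQ := haQ, comE := hcomE, k1 := hk1, onto := ?_, inj := ?_, one := ?_ }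
  · intro c
    constructor
    · intro hc
      refine ⟨hc.1, fun w hw => ?_⟩
      rcases h.qq_cases hz hc hw with e | e
      · exact Or.inl (cm_eq_one.mpr (comm_of_conj_eq e))
      · right
        unfold cm
        rw [e, mul_assoc, mul_inv_cancel, mul_one]
    · rintro ⟨hc, hc1⟩
      refine h.mem_qq_of hz hz1 hc fun w hw => ?_
      have e0 : c * w * c⁻¹ = cm c w * w := by unfold cm; group
      rcases hc1 w hw with e | e
      · left; rw [e0, e, one_mul]
      · right; rw [e0, e]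
  · intro u hu v hv huV hvV
    have hu' : cm w0 a * u ∈ V := hu.resolve_left huV
    have hv' : cm w0 a * v ∈ V := hv.resolve_left hvV
    have e1 : u * v = (cm w0 a * u) * (cm w0 a * v) := by
      have huW := hEW hu
      have h4 : cm w0 a * u = u * cm w0 a := h.ab _ heW u huW
      rw [h4, mul_assoc, ← mul_assoc (cm w0 a) (cm w0 a) v, hee, one_mul]
    rw [e1]
    exact mul_mem hu' hv'
  · obtain ⟨k, hk', hk1'⟩ := h.exists_mover hz hz1
    exact ⟨k, hk', h.qq_le_normalizer hz hk', h.move hz hz1 hy hy1 hyz hk' hk1'⟩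
  · intro u hu huV v hv
    have hcc : ∀ w ∈ E, w ∈ V ∨ w * u⁻¹ ∈ V := by
      intro w hw
      by_cases hwV : w ∈ V
      · exact Or.inl hwV
      · right
        have hw' : cm w0 a * w ∈ V := hw.resolve_left hwV
        have hu' : cm w0 a * u ∈ V := hu.resolve_left huV
        have e1 : w * u⁻¹ = (cm w0 a * w) * (cm w0 a * u)⁻¹ := by
          have h4 : cm w0 a * w = w * cm w0 a := h.ab _ heW w (hEW hw)
          have h5 : cm w0 a * u = u * cm w0 a := h.ab _ heW u (hEW hu)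
          rw [h4, h5]
          group
        rw [e1]
        exact mul_mem hw' (inv_mem hu')
    obtain ⟨c, hc, e⟩ := h.four_of hEj hNE hu huV hcc hv
    refine ⟨c, fun x hx => (h.V_comm hx hc).symm, ?_⟩
    rw [e]
    exact h.ab v (h.V_le hv) u (hEW hu)
  · intro g hg hgz
    rw [h.cj_ww hg hz hz1, hgz]
  · intro u hu
    rcases hu with hu | hu
    · rcases h.ln.four hz hy hz1 hy1 (Ne.symm hyz) hu with e | e | e | e
      · exact ⟨1, one_mem _, Or.inl (by rw [e]; unfold cm; group)⟩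
      · refine ⟨1, one_mem _, Or.inr ?_⟩
        rw [e, h.ln.zz]; unfold cm; group
      · exact ⟨w1, hw1, Or.inl (by rw [hw1y, e])⟩
      · refine ⟨w1, hw1, Or.inr ?_⟩
        rw [hw1y, e, h.ln.comm hz hy, mul_assoc, h.ln.zz, mul_one]
    · have hcy : y * cm w0 a = cm w0 a * y := (heV y hy).symm
      rcases h.ln.four hz hy hz1 hy1 (Ne.symm hyz) hu with e | e | e | e
      · refine ⟨w0, hw0, Or.inl ?_⟩
        rw [hdec u, e, mul_one]
      · refine ⟨w0, hw0, Or.inr ?_⟩
        rw [hdec u, e, mul_assoc, h.ln.zz, mul_one]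
      · refine ⟨w1 * w0, mul_mem hw1 hw0, Or.inl ?_⟩
        rw [hmul w1 hw1 w0 hw0, hw1y, hdec u, e]
      · refine ⟨w1 * w0, mul_mem hw1 hw0, Or.inr ?_⟩
        rw [hmul w1 hw1 w0 hw0, hw1y, hdec u, e, h.ln.comm hz hy, mul_assoc, mul_assoc, h.ln.zz, mul_one]
  · intro w hw hwa g hg
    have hwV : cm w a ∈ V := by
      rcases hwa with e | e <;> rw [e]
      · exact one_mem _
      · exact hz
    have hwQ := hinQ w hw hwV
    have hwa1 : cm w a = 1 := by
      rcases h.cm_qq' hy hwQ ha with e | e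
      · exact e
      · exfalso
        rcases hwa with e' | e'
        · exact hy1 (e.symm.trans e')
        · exact hyz (e.symm.trans e')
    apply cm_eq_one.mp
    rcases h.cm_qq' hy hwQ hg with e | e
    · exact e
    · exfalso
      rcases hk1 g hg with h1 | h1
      · rcases h.cm_qq hz hz1 hw h1 with e' | e'
        · exact hy1 (e.symm.trans e')
        · exact hyz (e.symm.trans e')
      · have e2 : cm w (g * a) = y := by rw [cm_mul_right, hwa1, e]; group
        rcases h.cm_qq hz hz1 hw h1 with e' | e'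
        · exact hy1 (e2.symm.trans e')
        · exact hyz (e2.symm.trans e')
  · have h1 : w1 ∈ qq V cf y := hinQ w1 hw1 (by rw [hw1y]; exact hy)
    exact ⟨w1, hw1, fun g hg => h.cm_qq' hy h1 hg, a, ha, hw1y⟩

end

/-- **LEMMA PLANE.** -/
theorem plane [Finite G] {M H : Type u} [AddCommGroup M] [Group H] [DistribMulAction H M]
    (h : Fam T V z cf) (hk : One1 V cf) (R : MRep V cf z M H) {y : G} (hy : y ∈ V) (hy1 : y ≠ 1)
    (hyz : y ≠ z) {a : G} (ha : a ∈ ww V cf y) (haQ : a ∉ qq V cf z)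
    (h4 : ∃ m : M, R.phi a • m - m ≠ 0 ∧ R.phi a • m - m ≠ R.pi y) {f : G} (hf : f ∈ cf z)
    (hfa : R.phi f * R.phi a = R.phi a * R.phi f) : R.phi f • R.pi y = R.pi y := by
  have hz := h.ln.z_mem
  have hz1 := h.ln.z_ne
  have hac : a ∈ cf z := h.ww_le_cf' hy hy1 hz hz1 ha
  have haa : a * a = 1 := h.sq hy hy1 a ha
  -- `w0`
  obtain ⟨m, hm0, hmy⟩ := h4
  obtain ⟨w0, hw0, rfl⟩ := R.pi_surj m
  rw [R.comm_eq h hac hw0] at hm0 hmy
  have hw0V : cm w0 a ∉ V := by
    intro hV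
    rw [← cm_inv, inv_mem_iff] at hV
    change R.pi (cm a w0) ≠ 0 at hm0
    change R.pi (cm a w0) ≠ R.pi y at hmy
    rcases h.ln.four hz hy hz1 hy1 (Ne.symm hyz) hV with e | e | e | e
    · exact hm0 (by rw [e, R.pi_one h])
    · exact hm0 (by rw [e, R.pi_z h])
    · exact hmy (by rw [e])
    · exact hmy (by rw [e, R.pi_mul z h.z_mem_ww y (h.V_le hy), R.pi_z h, zero_add])
  obtain ⟨E, hE⟩ := h.exists_pl hk hy hy1 hyz ha haQ hw0 hw0V
  by_contra hcon
  rw [R.smul_v0_iff h hy hy1 hyz hf] at hcon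
  have hfaQ : f * a * f⁻¹ * a⁻¹ ∈ qq V cf z := by
    rw [← R.phi_mul f hf a hac, ← R.phi_mul a hac f hf, R.phi_eq (mul_mem hf hac) (mul_mem hac hf)] at hfa
    have e : f * a * (a * f)⁻¹ = f * a * f⁻¹ * a⁻¹ := by group
    rwa [e] at hfa
  have hM : PlaneCore.Mov V E (cf z) (qq V cf z) (ww V cf z) (ww V cf y) z y a f :=
    { hE with fC := hf, fa := hfaQ, fV := hcon }
  have hfin : Finite H := Finite.of_surjective R.hom (R.hom_surj (T := T) h)
  -- an inverted element
  have hα : R.phi a * R.phi a = 1 := R.sq_A h hy hy1 ha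
  have hO : R.phi a ∉ pCore 2 H := by
    intro hO
    apply haQ
    have hle : R.pre (pCore 2 H) ≤ qq V cf z := by
      refine h.o2h (R.pre_le _) ?_ ?_
      · refine le_normalizer_of_forall fun c hc n hn => ?_
        obtain ⟨hn1, hn2⟩ := R.mem_pre.mp hn
        refine R.mem_pre.mpr ⟨mul_mem (mul_mem hc hn1) (inv_mem hc), ?_⟩
        rw [R.phi_mul _ (mul_mem hc hn1) _ (inv_mem hc), R.phi_mul c hc n hn1, R.phi_inv hc]
        exact (pCore_normal 2 H).conj_mem _ hn2 _
      · intro n hn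
        obtain ⟨hn1, hn2⟩ := R.mem_pre.mp hn
        have hfact : Fact (Nat.Prime 2) := ⟨Nat.prime_two⟩
        obtain ⟨k, hk⟩ := Lib.HallHigman.pCore_isPGroup (G := H) 2 ⟨_, hn2⟩
        refine ⟨k, ?_⟩
        rw [← R.phi_ker _ (pow_mem hn1 _)]
        have h1 : R.phi (n ^ 2 ^ k) = R.phi n ^ 2 ^ k := map_pow R.hom ⟨n, hn1⟩ _
        rw [h1]
        exact congrArg Subtype.val hk
    exact hle (R.mem_pre.mpr ⟨hac, hO⟩)
  obtain ⟨s, hs1, hsi, n, hn, hsn⟩ := exists_inverted_of_notMem hα hO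
  obtain ⟨s, hs, rfl⟩ := R.phi_surj s
  refine hM.false_of_inverted hs (fun e => hs1 ((R.phi_ker s hs).mpr e)) ?_ hn ?_
  · have h1 : a * s * a⁻¹ * s ∈ cf z := mul_mem (mul_mem (mul_mem hac hs) (inv_mem hac)) hs
    rw [← R.phi_ker _ h1, R.phi_mul _ (mul_mem (mul_mem hac hs) (inv_mem hac)) s hs,
      R.phi_mul _ (mul_mem hac hs) _ (inv_mem hac), R.phi_mul a hac s hs, R.phi_inv hac, hsi,
      inv_mul_cancel]
  · rw [← R.phi_ker _ (pow_mem hs _)]
    have h1 : R.phi (s ^ n) = R.phi s ^ n := map_pow R.hom ⟨s, hs⟩ _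
    rw [h1, hsn]

end Fam

end Cfsg.Agent.Omega.NO3S.Fit

end

section


/-!
# Text #13963, (3.5): the output (T9)

* `blk d b` = `⟨b, d b⟩`;
* `T9` : the output; `T9.*` its consequences on `D = sp H1 v0`;
* `Ctx.t9_of_natural`, `Cyc.t9` : the two sources.
-/

set_option autoImplicit false
set_option linter.unusedSectionVars false

open scoped Pointwise

namespace Cfsg.Agent.Omega.NO3S.Fit.Abs

variable {H M : Type*} [Group H] [AddCommGroup M] [DistribMulAction H M]

/-! ### blocks `⟨b, d b⟩` -/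

theorem mem_zmultiples_two (two : ∀ m : M, m + m = 0) {u m : M} :
    m ∈ AddSubgroup.zmultiples u ↔ m = 0 ∨ m = u := by
  constructor
  · intro h
    obtain ⟨k, rfl⟩ := AddSubgroup.mem_zmultiples_iff.mp h
    rcases Int.even_or_odd k with ⟨j, rfl⟩ | ⟨j, rfl⟩
    · left
      rw [← two_mul, mul_comm, mul_smul, two_zsmul, two, smul_zero]
    · right
      rw [add_smul, one_smul, mul_comm, mul_smul, two_zsmul, two, smul_zero, zero_add]
  · rintro (rfl | rfl)
    · exact zero_mem _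
    · exact AddSubgroup.mem_zmultiples _

/-- `⟨b, d b⟩` -/
def blk (d : H) (b : M) : AddSubgroup M :=
  AddSubgroup.zmultiples b ⊔ AddSubgroup.zmultiples (d • b)

theorem mem_blk (two : ∀ m : M, m + m = 0) {d : H} {b m : M} :
    m ∈ blk d b ↔ m = 0 ∨ m = b ∨ m = d • b ∨ m = b + d • b := by
  rw [blk, AddSubgroup.mem_sup]
  simp only [mem_zmultiples_two two]
  constructor
  · rintro ⟨y, rfl | rfl, z, rfl | rfl, rfl⟩ <;> simp
  · rintro (rfl | rfl | rfl | rfl)
    · exact ⟨0, Or.inl rfl, 0, Or.inl rfl, by simp⟩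
    · exact ⟨m, Or.inr rfl, 0, Or.inl rfl, by simp⟩
    · exact ⟨0, Or.inl rfl, d • b, Or.inr rfl, by simp⟩
    · exact ⟨b, Or.inr rfl, d • b, Or.inr rfl, rfl⟩

theorem self_mem_blk (d : H) (b : M) : b ∈ blk d b :=
  AddSubgroup.mem_sup_left (AddSubgroup.mem_zmultiples b)

theorem smul_mem_blk' (d : H) (b : M) : d • b ∈ blk d b :=
  AddSubgroup.mem_sup_right (AddSubgroup.mem_zmultiples _)

theorem blk_le {d : H} {b : M} {N : AddSubgroup M} (h1 : b ∈ N) (h2 : d • b ∈ N) : blk d b ≤ N :=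
  sup_le (AddSubgroup.zmultiples_le.mpr h1) (AddSubgroup.zmultiples_le.mpr h2)

theorem smul_mem_blk {d : H} {b : M} (hd : d • d • b = b + d • b) {m : M} (hm : m ∈ blk d b) :
    d • m ∈ blk d b := by
  have h : blk d b ≤ (blk d b).comap (DistribSMul.toAddMonoidHom M d) := by
    refine blk_le (smul_mem_blk' d b) ?_
    change d • d • b ∈ blk d b
    rw [hd]
    exact add_mem (self_mem_blk d b) (smul_mem_blk' d b)
  exact h hm

/-- the nonzero elements of a block -/
theorem exists_pow_of_mem_blk (two : ∀ m : M, m + m = 0) {d : H} {b : M}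
    (hd : d • d • b = b + d • b) {m : M} (hm : m ∈ blk d b) (hm0 : m ≠ 0) :
    ∃ i : ℕ, i < 3 ∧ m = d ^ i • b := by
  rcases (mem_blk two).mp hm with h | h | h | h
  · exact absurd h hm0
  · exact ⟨0, by omega, by simpa using h⟩
  · exact ⟨1, by omega, by simpa using h⟩
  · exact ⟨2, by omega, by rw [pow_two, mul_smul, hd, h]⟩

theorem blk_sum (two : ∀ m : M, m + m = 0) {d : H} {b : M} (hd : d • d • b = b + d • b) {m : M}
    (hm : m ∈ blk d b) : d • d • m = m + d • m := by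
  rcases (mem_blk two).mp hm with rfl | rfl | rfl | rfl
  · simp
  · exact hd
  · conv_lhs => rw [hd]
    rw [smul_add]
  · rw [smul_add, smul_add, hd, smul_add, hd]

theorem blk_fixed (two : ∀ m : M, m + m = 0) {d : H} {b : M} (hd : d • d • b = b + d • b) {m : M}
    (hm : m ∈ blk d b) (h : d • m = m) : m = 0 := by
  have := blk_sum two hd hm
  rw [h, h, two] at this
  exact this

/-! ### (T9) -/

/-- the output (T9): `H1 ≥ H_0` and its action on `D = sp H1 v0 = B1 ⊕ B2`, `B_i = ⟨b_i, d_i b_i⟩` -/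
structure T9 (v0 : M) (a : H) (T H1 : Subgroup H) (d1 d2 : H) (b1 b2 : M) : Prop where
  stab_le : ∀ h : H, h • v0 = v0 → h ∈ H1
  d1m : d1 ∈ H1
  d2m : d2 ∈ H1
  comm : d1 * d2 = d2 * d1
  b1m : b1 ∈ br M a
  b2m : b2 ∈ br M a
  b10 : b1 ≠ 0
  b20 : b2 ≠ 0
  sum : b1 + b2 = v0
  d11 : d1 • d1 • b1 = b1 + d1 • b1
  d22 : d2 • d2 • b2 = b2 + d2 • b2
  d12 : d1 • b2 = b2
  d21 : d2 • b1 = b1
  a1 : a • d1 • b1 = d1 • d1 • b1
  a2 : a • d2 • b2 = d2 • d2 • b2
  act : ∀ h ∈ H1, (h • b1 ∈ blk d1 b1 ∧ h • b2 ∈ blk d2 b2) ∨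
    (h • b1 ∈ blk d2 b2 ∧ h • b2 ∈ blk d1 b1)
  swap : ∃ t ∈ T, t • b1 = b2 ∧ t • b2 = b1

/-! ### the natural case -/

namespace Ctx

variable {v0 : M} {a : H} {T : Subgroup H}

/-- the stabiliser of an unordered pair of subgroups -/
def pairStab (B1 B2 : AddSubgroup M) : Subgroup H where
  carrier := {h | (h • B1 = B1 ∧ h • B2 = B2) ∨ (h • B1 = B2 ∧ h • B2 = B1)}
  one_mem' := Or.inl ⟨one_smul _ _, one_smul _ _⟩
  mul_mem' := by
    rintro g h (⟨h1, h2⟩ | ⟨h1, h2⟩) (⟨h3, h4⟩ | ⟨h3, h4⟩)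
    · left; rw [mul_smul, mul_smul, h3, h4]; exact ⟨h1, h2⟩
    · right; rw [mul_smul, mul_smul, h3, h4]; exact ⟨h2, h1⟩
    · right; rw [mul_smul, mul_smul, h3, h4]; exact ⟨h1, h2⟩
    · left; rw [mul_smul, mul_smul, h3, h4]; exact ⟨h2, h1⟩
  inv_mem' := by
    rintro g (⟨h1, h2⟩ | ⟨h1, h2⟩)
    · left; exact ⟨inv_smul_eq_iff.mpr h1.symm, inv_smul_eq_iff.mpr h2.symm⟩
    · right; exact ⟨inv_smul_eq_iff.mpr h2.symm, inv_smul_eq_iff.mpr h1.symm⟩

variable [Finite H] [Finite M] [FaithfulSMul H M]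

/-- a natural element of `F` inverted by `a` gives (T9); moreover `h • v0 ∈ [M,a]` ==> `h • v0 = v0` -/
theorem t9_of_natural (c : Ctx v0 a T) (h4 : Nat.card (br M a) = 4) {p : ℕ} (hp : p.Prime)
    (hp2 : p ≠ 2) {F : Subgroup H} [hFn : F.Normal] (hF : IsPGroup p F) {x : H} (hx : x ∈ F)
    (hn : Nat.card (br M x) = 4) (hi : a * x * a⁻¹ = x⁻¹) :
    (∃ H1 d1 d2 b1 b2, T9 v0 a T H1 d1 d2 b1 b2) ∧
      (∀ h : H, h • v0 ∈ br M a → h • v0 = v0) := by
  classical
  have hodd : ∀ f ∈ F, Odd (orderOf f) := fun f hf => odd_orderOf_of_isPGroup hp hp2 hF hf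
  have hxo := hodd x hx
  have hx1 : x ≠ 1 := nat_ne_one hn
  have hcx2 : Nat.card (cx M a x) = 2 := by
    rcases c.inv_cases hxo hi hx1 with h | h
    · exact h.1
    · omega
  obtain ⟨b, hbc, hb0⟩ := exists_ne_zero_of_card (B := cx M a x) (by omega)
  have hbx : b ∈ br M x := hbc.1
  have hba : b ∈ br M a := c.cx_le hxo hi hbc
  -- the only fixed vectors of `a` in the block are `0`, `b`
  have hfix2 : ∀ u ∈ cx M a x, u = 0 ∨ u = b := by
    intro u hu
    by_contra hcon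
    push Not at hcon
    have h1 : Nat.card (cx M a x) = 4 := by
      have h2 : (({0, b, u} : Finset M) : Set M) ⊆ (cx M a x : Set M) := by
        intro y hy
        simp only [Finset.coe_insert, Finset.coe_singleton, Set.mem_insert_iff,
          Set.mem_singleton_iff] at hy
        rcases hy with rfl | rfl | rfl
        · exact zero_mem _
        · exact hbc
        · exact hu
      have h3 := Set.ncard_le_ncard h2 (Set.toFinite _)
      rw [Set.ncard_coe_finset, Finset.card_insert_of_notMem, Finset.card_insert_of_notMem,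
        Finset.card_singleton] at h3
      · have h4 : Set.ncard (cx M a x : Set M) = 2 := by
          rw [← hcx2]; exact (Nat.card_coe_set_eq _).symm
        omega
      · simpa using hcon.2.symm
      · simp [hb0.symm, hcon.1.symm]
    omega
  -- the blocks of `F` through `b`
  have hsame : ∀ h : H, ∀ u : M, u ≠ 0 → u ∈ br M x → u ∈ br M (h * x * h⁻¹) →
      br M x = br M (h * x * h⁻¹) ∧ (h * x * h⁻¹ = x ∨ h * x * h⁻¹ = x⁻¹) := fun h u hu0 hu hu' =>
    nat_same c.two hp hp2 hF hx (hFn.conj_mem x hx h) hn (nat_conj hn h) hu hu' hu0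
  -- `b ≠ v0`
  have hbv : b ≠ v0 := by
    rintro rfl
    -- `C_M(x)` is `T`-invariant
    have hT : ∀ t ∈ T, ∀ m ∈ fx M x, t • m ∈ fx M x := by
      intro t ht m hm
      have h1 := (hsame t b hb0 hbx (by
        have := smul_mem_br_conj t hbx
        rwa [c.T0 t ht] at this)).2
      have h2 := smul_mem_fx_conj t hm
      rcases h1 with h1 | h1
      · rwa [h1] at h2
      · rwa [h1, fx_inv] at h2
    have hne : fx M x ⊓ br M a ≠ ⊥ := by
      intro hbot
      -- then `[M,a] ≤ [M,x]`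
      have hle : br M a ≤ br M x := by
        rintro _ ⟨m, rfl⟩
        obtain ⟨d, hd, e, he, rfl⟩ := exists_decomp c.two hxo m
        have h1 : a • e - e ∈ fx M x ⊓ br M a :=
          AddSubgroup.mem_inf.mpr ⟨sub_mem (smul_mem_fx_of_inv hi he) he, sub_mem_br a e⟩
        rw [hbot, AddSubgroup.mem_bot] at h1
        have h2 : a • (d + e) - (d + e) = (a • d - d) + (a • e - e) := by rw [smul_add]; abel
        rw [h2, h1, add_zero]
        exact sub_mem (smul_mem_br_of_inv hi hd) hd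
      have h1 : br M a ≤ cx M a x := fun m hm => ⟨hle hm, c.fix_br hm⟩
      have h2 := AddSubgroup.card_le_of_le h1
      omega
    obtain ⟨m, hm, hm0, hmT⟩ := exists_fixed c.two c.T2 (N := fx M x ⊓ br M a)
      (fun t ht m hm => ⟨hT t ht m hm.1, c.smul_br_of_stab (c.T0 t ht) hm.2⟩) hne
    have h1 := c.FIX m hm.2 hm0 hmT
    rw [h1] at hm
    exact hb0 (br_inf_fx c.two hxo hbx hm.1)
  obtain ⟨t, ht, htb⟩ := c.exists_swap h4 hba hb0 hbv
  have htv := c.T0 t ht
  set y := t * x * t⁻¹ with hy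
  have hyF : y ∈ F := hFn.conj_mem x hx t
  have hyn : Nat.card (br M y) = 4 := nat_conj hn t
  have hyo := hodd y hyF
  set b2 := v0 + b with hb2
  have hb2a : b2 ∈ br M a := add_mem c.v0_mem hba
  have hb2y : b2 ∈ br M y := by
    rw [← htb]
    exact smul_mem_br_conj t hbx
  have hb20 : b2 ≠ 0 := by
    intro h
    apply hbv
    have := eq_neg_of_add_eq_zero_left h
    rw [neg_eq c.two] at this
    exact this.symm
  have hb2b : b2 ≠ b := by
    intro h
    exact c.ne (by simpa [hb2] using h)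
  have hne : br M x ≠ br M y := by
    intro e
    have h1 : b2 ∈ cx M a x := ⟨e ▸ hb2y, c.fix_br hb2a⟩
    rcases hfix2 b2 h1 with h | h
    · exact hb20 h
    · exact hb2b h
  have hxy := nat_comm c.two hp hp2 hF hx hyF hn hyn
  have hyfx : br M y ≤ fx M x := nat_indep c.two hp hp2 hF hx hyF hn hyn hne
  have hxfy : br M x ≤ fx M y := nat_indep c.two hp hp2 hF hyF hx hyn hn hne.symm
  have hyi : a * y * a⁻¹ = y⁻¹ := by
    have h1 := c.cen t htv
    have e : a * y * a⁻¹ = t * (a * x * a⁻¹) * t⁻¹ := by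
      have h2 : a * t = t * a := h1.symm
      have h3 : t⁻¹ * a⁻¹ = a⁻¹ * t⁻¹ := by rw [← mul_inv_rev, ← mul_inv_rev, h2]
      calc a * y * a⁻¹ = (a * t) * x * (t⁻¹ * a⁻¹) := by rw [hy]; group
        _ = (t * a) * x * (a⁻¹ * t⁻¹) := by rw [h2, h3]
        _ = t * (a * x * a⁻¹) * t⁻¹ := by group
    rw [e, hi, hy]
    group
  have hsum : b + b2 = v0 := by rw [hb2, add_comm v0, ← add_assoc, c.two, zero_add]
  have hbx' : x • x • b = b + x • b := nat_sq c.two hxo hn hbx
  have hby' : y • y • b2 = b2 + y • b2 := nat_sq c.two hyo hyn hb2y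
  have hblk1 : blk x b = br M x := by
    refine le_antisymm (blk_le hbx (smul_mem_br_self hbx)) fun m hm => ?_
    rw [mem_blk c.two]
    rcases nat_cases c.two hxo hn hbx hb0 hm with h | h | h | h
    · exact Or.inl h
    · exact Or.inr (Or.inl h)
    · exact Or.inr (Or.inr (Or.inl h))
    · right; right; right
      rw [h, pow_two, mul_smul, hbx']
  have hblk2 : blk y b2 = br M y := by
    refine le_antisymm (blk_le hb2y (smul_mem_br_self hb2y)) fun m hm => ?_
    rw [mem_blk c.two]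
    rcases nat_cases c.two hyo hyn hb2y hb20 hm with h | h | h | h
    · exact Or.inl h
    · exact Or.inr (Or.inl h)
    · exact Or.inr (Or.inr (Or.inl h))
    · right; right; right
      rw [h, pow_two, mul_smul, hby']
  have hx3 : x⁻¹ = x * x := by
    have := nat_cube c.two hxo hn
    rw [inv_eq_iff_mul_eq_one, ← mul_assoc, ← pow_two, ← pow_succ]
    exact this
  have hy3 : y⁻¹ = y * y := by
    have := nat_cube c.two hyo hyn
    rw [inv_eq_iff_mul_eq_one, ← mul_assoc, ← pow_two, ← pow_succ]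
    exact this
  have htb2 : t • b2 = b := by
    rw [hb2, smul_add, htv, htb, hb2, ← add_assoc, c.two, zero_add]
  -- stabiliser
  have hst : ∀ h : H, h • v0 = v0 → h ∈ pairStab (br M x) (br M y) := by
    have hbl : ∀ h : H, ∀ z ∈ F, ∀ z' ∈ F, Nat.card (br M z) = 4 → Nat.card (br M z') = 4 →
        ∀ u ∈ br M z, u ≠ 0 → h • u ∈ br M z' → h • br M z = br M z' := by
      intro h z hz z' hz' hzn hzn' u hu hu0 hhu
      rw [smul_br]
      refine (nat_same c.two hp hp2 hF (hFn.conj_mem z hz h) hz' (nat_conj hzn h) hzn'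
        (smul_mem_br_conj h hu) hhu ?_).1
      intro e
      exact hu0 ((smul_eq_zero_iff_eq h).mp e)
    intro h hh
    rcases c.stab_b h4 hba hb0 hbv hh with e | e
    · left
      have e2 : h • b2 = b2 := by rw [hb2, smul_add, hh, e]
      exact ⟨hbl h x hx x hx hn hn b hbx hb0 (by rw [e]; exact hbx),
        hbl h y hyF y hyF hyn hyn b2 hb2y hb20 (by rw [e2]; exact hb2y)⟩
    · right
      have e2 : h • b2 = b := by
        rw [hb2, smul_add, hh, e, ← add_assoc, c.two, zero_add]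
      exact ⟨hbl h x hx y hyF hn hyn b hbx hb0 (by rw [e]; exact hb2y),
        hbl h y hyF x hx hyn hn b2 hb2y hb20 (by rw [e2]; exact hbx)⟩
  have hsm : ∀ g : H, ∀ z : H, g * z = z * g → g • br M z = br M z := by
    intro g z e
    rw [smul_br, e, mul_inv_cancel_right]
  refine ⟨⟨pairStab (br M x) (br M y), x, y, b, b2, hst, ?_, ?_, hxy, hba, hb2a, hb0, hb20, hsum,
    hbx', hby', hyfx hb2y, hxfy hbx, ?_, ?_, ?_, ⟨t, ht, htb, htb2⟩⟩, ?_⟩
  · exact Or.inl ⟨hsm x x rfl, hsm x y hxy⟩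
  · exact Or.inl ⟨hsm y x hxy.symm, hsm y y rfl⟩
  · rw [inv_smul_of_inv hi (c.fix_br hba), hx3, mul_smul]
  · rw [inv_smul_of_inv hyi (c.fix_br hb2a), hy3, mul_smul]
  · rw [hblk1, hblk2]
    rintro h (⟨e1, e2⟩ | ⟨e1, e2⟩)
    · left
      constructor
      · have := AddSubgroup.smul_mem_pointwise_smul b h (br M x) hbx
        rwa [e1] at this
      · have := AddSubgroup.smul_mem_pointwise_smul b2 h (br M y) hb2y
        rwa [e2] at this
    · right
      constructor
      · have := AddSubgroup.smul_mem_pointwise_smul b h (br M x) hbx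
        rwa [e1] at this
      · have := AddSubgroup.smul_mem_pointwise_smul b2 h (br M y) hb2y
        rwa [e2] at this
  · -- `v0` lies in no natural block
    have hno : ∀ z ∈ F, Nat.card (br M z) = 4 → v0 ∉ br M z := by
      intro z hz hzn hv
      have h1 : br M x ≠ br M z := by
        intro e
        rw [← e] at hv
        have h2 : v0 ∈ cx M a x := ⟨hv, c.fix⟩
        rcases hfix2 v0 h2 with h | h
        · exact c.ne h
        · exact hbv h.symm
      have h2 : br M z ≤ fx M x := nat_indep c.two hp hp2 hF hx hz hn hzn h1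
      have h3 : x • v0 = v0 := h2 hv
      rw [← hsum, smul_add, show x • b2 = b2 from hyfx hb2y] at h3
      exact hb0 (br_inf_fx c.two hxo hbx (add_right_cancel h3))
    intro h hh
    have hcase : ∀ z ∈ F, Nat.card (br M z) = 4 → h • v0 ∉ br M z := by
      intro z hz hzn hv
      have h1 := smul_mem_br_conj h⁻¹ hv
      rw [inv_smul_smul] at h1
      exact hno _ (hFn.conj_mem z hz h⁻¹) (nat_conj hzn h⁻¹) h1
    rcases c.br_cases h4 hba hb0 hbv hh with e | e | e | e
    · exact absurd ((smul_eq_zero_iff_eq h).mp e) c.ne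
    · exact e
    · exact absurd (e ▸ hbx) (hcase x hx hn)
    · exact absurd (e ▸ hb2y) (hcase y hyF hyn)

end Ctx

/-! ### the case `[F,a]` of order 3 -/

/-- `h x h⁻¹ = x^{±1}` -/
def pm (x : H) : Subgroup H where
  carrier := {h | h * x * h⁻¹ = x ∨ h * x * h⁻¹ = x⁻¹}
  one_mem' := by left; simp
  mul_mem' := by
    intro g h hg hh
    have e : g * h * x * (g * h)⁻¹ = g * (h * x * h⁻¹) * g⁻¹ := by group
    have e' : g * x⁻¹ * g⁻¹ = (g * x * g⁻¹)⁻¹ := by group
    change g * h * x * (g * h)⁻¹ = x ∨ g * h * x * (g * h)⁻¹ = x⁻¹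
    rw [e]
    rcases hg with hg | hg <;> rcases hh with hh | hh
    · left; rw [hh, hg]
    · right; rw [hh, e', hg]
    · right; rw [hh, hg]
    · left; rw [hh, e', hg, inv_inv]
  inv_mem' := by
    rintro g (hg | hg)
    · left
      rw [inv_inv]
      nth_rewrite 1 [← hg]
      group
    · right
      have : g⁻¹ * x * g⁻¹⁻¹ = (g⁻¹ * x⁻¹ * g)⁻¹ := by group
      have h2 : g⁻¹ * x⁻¹ * g = x := by rw [← hg]; group
      rw [this, h2]

namespace Cyc

variable {v0 : M} {a : H} {T : Subgroup H} {F : Subgroup H} {x : H}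
variable [Finite H] [Finite M] [FaithfulSMul H M]

theorem mem_pm (K : Cyc M a F x) (h3 : orderOf x = 3) {h : H}
    (hh : h * x * h⁻¹ ∈ Subgroup.zpowers x) : h ∈ pm x := by
  classical
  rw [mem_zpowers_iff_mem_range_orderOf] at hh
  obtain ⟨n, hn, h2⟩ := Finset.mem_image.mp hh
  rw [h3, Finset.mem_range] at hn
  have hx3 : x ^ 3 = 1 := by rw [← h3, pow_orderOf_eq_one]
  interval_cases n
  · exfalso
    apply K.ne_one
    have : x = h⁻¹ * (h * x * h⁻¹) * h := by group
    rw [this, ← h2]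
    group
  · exact Or.inl (by rw [← h2, pow_one])
  · right
    rw [← h2, eq_inv_iff_mul_eq_one, ← pow_succ]
    exact hx3

/-- **(T3)** is a case of (T9) -/
theorem t9 (K : Cyc M a F x) [hFn : F.Normal] (c : Ctx v0 a T) (h4 : Nat.card (br M a) = 4)
    (hodd : ∀ f ∈ F, Odd (orderOf f)) (h3 : orderOf x = 3) :
    ∃ H1 d1 d2 b1 b2, T9 v0 a T H1 d1 d2 b1 b2 := by
  classical
  have hx3 : x * (x * x) = 1 := by
    have := pow_orderOf_eq_one x
    rwa [h3, pow_succ', pow_two] at this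
  have hxinv : x⁻¹ = x * x := inv_eq_of_mul_eq_one_right hx3
  have hxsm : ∀ m : M, x⁻¹ • m = x • x • m := fun m => by rw [hxinv, mul_smul]
  have hxx : ∀ m ∈ br M x, x • x • m = m + x • m := by
    intro m hm
    have := K.sum3 c h3 hm
    have h1 := eq_neg_of_add_eq_zero_left this
    rw [neg_eq c.two] at h1
    exact h1.symm
  obtain ⟨b, hba, hb0, hbv⟩ := c.exists_b h4
  obtain ⟨t, ht, htb⟩ := c.exists_swap h4 hba hb0 hbv
  have htv := c.T0 t ht
  obtain ⟨b2, hb2⟩ : ∃ b2, b2 = v0 + b := ⟨_, rfl⟩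
  rw [← hb2] at htb
  have hb2a : b2 ∈ br M a := hb2 ▸ add_mem c.v0_mem hba
  have hb20 : b2 ≠ 0 := by
    intro h
    apply hbv
    rw [hb2] at h
    have := eq_neg_of_add_eq_zero_left h
    rw [neg_eq c.two] at this
    exact this.symm
  have hb2v : b2 ≠ v0 := by
    intro h
    exact hb0 (by simpa [hb2] using h)
  have hb2b : b2 ≠ b := by
    intro h
    exact c.ne (by simpa [hb2] using h)
  have hsum : b + b2 = v0 := by rw [hb2, add_comm v0, ← add_assoc, c.two, zero_add]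
  have htb2 : t • b2 = b := by
    rw [hb2, smul_add, htv, htb, hb2, ← add_assoc, c.two, zero_add]
  have hbx : b ∈ br M x := K.br_le hba
  have hb2x : b2 ∈ br M x := K.br_le hb2a
  have hvx : v0 ∈ br M x := K.br_le c.v0_mem
  have hb' := hxx b hbx
  have hb2' := hxx b2 hb2x
  -- `a`-fixed vectors in a block
  have hfix : ∀ w ∈ br M x, a • w = w → ∀ u ∈ blk x w, a • u = u → u = 0 ∨ u = w := by
    intro w hw haw u hu hau
    have hw' := hxx w hw
    have hxw : x • x • w = x • w → w = 0 := fun h =>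
      br_inf_fx c.two K.odd hw (smul_left_cancel x h)
    rcases (mem_blk c.two).mp hu with e | e | e | e
    · exact Or.inl e
    · exact Or.inr e
    · left
      rw [e, inv_smul_of_inv K.inv haw, hxsm] at hau
      rw [e, hxw hau, smul_zero]
    · left
      rw [← hw'] at e
      rw [e, inv_smul_of_inv' K.inv, inv_smul_of_inv K.inv haw, ← mul_smul, ← mul_inv_rev,
        ← hxinv, inv_inv] at hau
      rw [e, hxw hau.symm, smul_zero, smul_zero]
  -- no element of the orbit in `B1`, `B2`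
  have hnm : ∀ h : H, ∀ w ∈ br M a, w ≠ v0 → h • v0 ∉ blk x w := by
    intro h w hw hwv hmem
    have hw' := hxx w (K.br_le hw)
    have h0 : h • v0 ≠ 0 := fun e => c.ne ((smul_eq_zero_iff_eq h).mp e)
    obtain ⟨i, -, hi⟩ := exists_pow_of_mem_blk c.two hw' hmem h0
    have h1 : ((x ^ i)⁻¹ * h) • v0 = w := by rw [mul_smul, hi, inv_smul_smul]
    have h2 := K.no_move c h4 hodd (h := (x ^ i)⁻¹ * h) (by rw [h1]; exact hw)
    exact hwv (h1.symm.trans h2)
  set B1 := blk x b with hB1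
  set B2 := blk x b2 with hB2
  have hB1x : B1 ≤ br M x := blk_le hbx (smul_mem_br_self hbx)
  have hB2x : B2 ≤ br M x := blk_le hb2x (smul_mem_br_self hb2x)
  -- independence
  have hind : ∀ p ∈ B1, p ∈ B2 → p = 0 := by
    intro p hp1 hp2
    by_contra hp0
    obtain ⟨i, -, hi⟩ := exists_pow_of_mem_blk c.two hb' hp1 hp0
    have h1 : b ∈ B2 := by
      have h2 : b = (x ^ i)⁻¹ • p := by rw [hi, inv_smul_smul]
      rw [h2]
      have h3 : ∀ j : ℕ, ∀ m ∈ B2, x⁻¹ ^ j • m ∈ B2 := by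
        intro j
        induction j with
        | zero => intro m hm; simpa using hm
        | succ j ih =>
          intro m hm
          rw [pow_succ, mul_smul, hxsm]
          exact ih _ (smul_mem_blk hb2' (smul_mem_blk hb2' hm))
      rw [← inv_pow]
      exact h3 i p hp2
    rcases hfix b2 hb2x (c.fix_br hb2a) b h1 (c.fix_br hba) with h | h
    · exact hb0 h
    · exact hb2b h.symm
  -- `D = B1 + B2`
  have hD : ∀ m ∈ br M x, ∃ p ∈ B1, ∃ q ∈ B2, p + q = m := by
    have h1 : br M a ≤ B1 ⊔ B2 := by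
      intro m hm
      rcases c.br_cases h4 hba hb0 hbv hm with rfl | rfl | rfl | rfl
      · exact zero_mem _
      · rw [← hsum]
        exact AddSubgroup.add_mem_sup (self_mem_blk x b) (self_mem_blk x b2)
      · exact AddSubgroup.mem_sup_left (self_mem_blk x m)
      · rw [← hb2]
        exact AddSubgroup.mem_sup_right (self_mem_blk x b2)
    intro m hm
    obtain ⟨u, hu, w, hw, rfl⟩ := exists_cx_add c.two c.sq K.odd K.inv hm
    rw [K.cxe] at hu hw
    obtain ⟨p, hp, q, hq, rfl⟩ := AddSubgroup.mem_sup.mp (h1 hu)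
    obtain ⟨p', hp', q', hq', rfl⟩ := AddSubgroup.mem_sup.mp (h1 hw)
    refine ⟨p + x • p', add_mem hp (smul_mem_blk hb' hp'), q + x • q',
      add_mem hq (smul_mem_blk hb2' hq'), ?_⟩
    rw [smul_add]
    abel
  have huniq : ∀ p ∈ B1, ∀ q ∈ B2, ∀ p' ∈ B1, ∀ q' ∈ B2, p + q = p' + q' → p = p' ∧ q = q' := by
    intro p hp q hq p' hp' q' hq' e
    have h1 : p - p' = q' - q := by
      have : p - p' = (p + q) - q - p' := by abel
      rw [this, e]
      abel
    have h2 : p - p' = 0 := hind _ (sub_mem hp hp') (by rw [h1]; exact sub_mem hq' hq)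
    refine ⟨sub_eq_zero.mp h2, ?_⟩
    rw [h2] at h1
    exact (sub_eq_zero.mp h1.symm).symm
  -- `H1`
  have hst : ∀ h : H, h • v0 = v0 → h ∈ pm x := fun h hh => K.mem_pm h3 (K.nor c hh)
  have hxpm : x ∈ pm x := Or.inl (by group)
  have hapm : a ∈ pm x := Or.inr K.inv
  have hpmD : ∀ h ∈ pm x, ∀ m ∈ br M x, h • m ∈ br M x := by
    rintro h (hh | hh) m hm
    · have := smul_mem_br_conj h hm
      rwa [hh] at this
    · exact smul_mem_br_of_inv hh hm
  have hinvD : ∀ h ∉ pm x, x • h • v0 = h • v0 := by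
    intro h hh
    by_contra hcon
    apply hh
    rw [← inv_inv h]
    apply inv_mem
    apply K.mem_pm h3
    have h1 : (h⁻¹ * x * h⁻¹⁻¹) • v0 - v0 ≠ 0 := by
      rw [sub_ne_zero]
      intro e
      apply hcon
      rw [inv_inv, mul_smul, mul_smul, inv_smul_eq_iff] at e
      exact e
    have hF' : h⁻¹ * x * h⁻¹⁻¹ ∈ F := hFn.conj_mem x K.mem h⁻¹
    refine K.conj_mem c h4 hodd h1 ?_ (sub_mem_br _ _)
    refine sub_mem ?_ hvx
    exact smul_mem_br_of_comm (K.cen _ hF') hvx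
  have hspan : ∀ d ∈ br M x, d ∈ sp (pm x) v0 := by
    have hsx : sp (pm x) v0 ≤ br M x := sp_le fun h hh => hpmD h hh v0 hvx
    have htop : sp (pm x) v0 ⊔ fx M x = ⊤ := by
      rw [eq_top_iff, ← c.span, AddSubgroup.closure_le]
      rintro _ ⟨h, rfl⟩
      change h • v0 ∈ sp (pm x) v0 ⊔ fx M x
      by_cases hh : h ∈ pm x
      · exact AddSubgroup.mem_sup_left (mem_sp hh)
      · exact AddSubgroup.mem_sup_right (hinvD h hh)
    intro d hd
    have h1 : d ∈ sp (pm x) v0 ⊔ fx M x := by rw [htop]; trivial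
    obtain ⟨s, hs, e, he, rfl⟩ := AddSubgroup.mem_sup.mp h1
    have h2 : e ∈ br M x := by
      have := sub_mem hd (hsx hs)
      rwa [add_sub_cancel_left] at this
    rw [br_inf_fx c.two K.odd h2 he, add_zero]
    exact hs
  -- vectors `x^i b + x^j b2`
  have hxz : ∀ n : ℤ, ∀ m : M, x ^ n • m = x ^ (n % 3) • m := by
    intro n m
    have := zpow_mod_orderOf x n
    rw [h3] at this
    rw [← this]
    norm_num
  have hpq : ∀ i j : ℕ, x ^ i • b + x ^ j • b2 = x ^ (j : ℤ) • (x ^ ((i : ℤ) - j) • b + b2) := by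
    intro i j
    rw [smul_add, ← mul_smul, ← zpow_add, add_sub_cancel, zpow_natCast, zpow_natCast]
  have htype : ∀ i j : ℕ, ∃ k : ℤ, x ^ i • b + x ^ j • b2 = x ^ k • v0 ∨
      x ^ i • b + x ^ j • b2 = x ^ k • (x • x • b + b2) ∨
      x ^ i • b + x ^ j • b2 = x ^ k • a • (x • x • b + b2) := by
    intro i j
    refine ⟨j, ?_⟩
    rw [hpq i j, hxz ((i : ℤ) - j) b]
    have h1 : 0 ≤ ((i : ℤ) - j) % 3 := Int.emod_nonneg _ (by norm_num)
    have h2 : ((i : ℤ) - j) % 3 < 3 := Int.emod_lt_of_pos _ (by norm_num)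
    have hab : a • (x • x • b + b2) = x • b + b2 := by
      rw [smul_add, inv_smul_of_inv' K.inv, inv_smul_of_inv K.inv (c.fix_br hba), ← mul_smul,
        ← mul_inv_rev, ← hxinv, inv_inv, c.fix_br hb2a]
    generalize ((i : ℤ) - j) % 3 = n at h1 h2
    interval_cases n
    · left; rw [zpow_zero, one_smul, hsum]
    · right; right; rw [zpow_one, hab]
    · right; left
      have : x ^ (2 : ℤ) = x * x := by rw [zpow_ofNat, pow_two]
      rw [this, mul_smul]
  -- elements with `g v0 = x² b + b2`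
  obtain ⟨g, hg, hgv⟩ : ∃ g ∈ pm x, g • v0 = x • x • b + b2 := by
    by_contra hcon
    push Not at hcon
    have h1 : sp (pm x) v0 ≤ blk x v0 := by
      have hv' := hxx v0 hvx
      have hzp : ∀ k : ℤ, x ^ k • v0 ∈ blk x v0 := by
        intro k
        rw [hxz]
        have h1 : 0 ≤ k % 3 := Int.emod_nonneg _ (by norm_num)
        have h2 : k % 3 < 3 := Int.emod_lt_of_pos _ (by norm_num)
        generalize k % 3 = n at h1 h2
        interval_cases n
        · rw [zpow_zero, one_smul]; exact self_mem_blk x v0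
        · rw [zpow_one]; exact smul_mem_blk' x v0
        · have : x ^ (2 : ℤ) = x * x := by rw [zpow_ofNat, pow_two]
          rw [this, mul_smul]
          exact smul_mem_blk hv' (smul_mem_blk' x v0)
      refine sp_le fun h hh => ?_
      obtain ⟨p, hp, q, hq, hpq'⟩ := hD _ (hpmD h hh v0 hvx)
      have hp0 : p ≠ 0 := by
        rintro rfl
        rw [zero_add] at hpq'
        exact hnm h b2 hb2a hb2v (hpq' ▸ hq)
      have hq0 : q ≠ 0 := by
        rintro rfl
        rw [add_zero] at hpq'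
        exact hnm h b hba hbv (hpq' ▸ hp)
      obtain ⟨i, -, rfl⟩ := exists_pow_of_mem_blk c.two hb' hp hp0
      obtain ⟨j, -, rfl⟩ := exists_pow_of_mem_blk c.two hb2' hq hq0
      rcases htype i j with ⟨k, e | e | e⟩
      · rw [← hpq', e]
        exact hzp k
      · exfalso
        refine hcon ((x ^ k)⁻¹ * h) (mul_mem (inv_mem (zpow_mem hxpm k)) hh) ?_
        rw [mul_smul, ← hpq', e, inv_smul_smul]
      · exfalso
        refine hcon (a * (x ^ k)⁻¹ * h)
          (mul_mem (mul_mem hapm (inv_mem (zpow_mem hxpm k))) hh) ?_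
        rw [mul_smul, ← hpq', e, mul_smul, inv_smul_smul, ← mul_smul, c.sq, one_smul]
    have h2 : b ∈ blk x v0 := h1 (hspan b hbx)
    rcases hfix v0 hvx c.fix b h2 (c.fix_br hba) with h | h
    · exact hb0 h
    · exact hbv h
  -- every `x^i b + x^j b2` is in the orbit
  have horb : ∀ i j : ℕ, ∃ k ∈ pm x, x ^ i • b + x ^ j • b2 = k • v0 := by
    intro i j
    rcases htype i j with ⟨k, e | e | e⟩
    · exact ⟨x ^ k, zpow_mem hxpm k, e⟩
    · exact ⟨x ^ k * g, mul_mem (zpow_mem hxpm k) hg, by rw [e, mul_smul, hgv]⟩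
    · exact ⟨x ^ k * a * g, mul_mem (mul_mem (zpow_mem hxpm k) hapm) hg, by
        rw [e, mul_smul, mul_smul, hgv]⟩
  have hone : ∀ h ∈ pm x, ∀ w ∈ br M a, w ≠ v0 → h • w ∈ B1 ∨ h • w ∈ B2 := by
    intro h hh w hw hwv
    obtain ⟨p, hp, q, hq, hpq'⟩ := hD _ (hpmD h hh w (K.br_le hw))
    by_cases hp0 : p = 0
    · right
      rw [hp0, zero_add] at hpq'
      rw [← hpq']
      exact hq
    by_cases hq0 : q = 0
    · left
      rw [hq0, add_zero] at hpq'
      rw [← hpq']
      exact hp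
    exfalso
    obtain ⟨i, -, rfl⟩ := exists_pow_of_mem_blk c.two hb' hp hp0
    obtain ⟨j, -, rfl⟩ := exists_pow_of_mem_blk c.two hb2' hq hq0
    obtain ⟨k, -, e⟩ := horb i j
    rw [e] at hpq'
    have h1 : (h⁻¹ * k) • v0 = w := by rw [mul_smul, hpq', inv_smul_smul]
    have h2 := K.no_move c h4 hodd (h := h⁻¹ * k) (by rw [h1]; exact hw)
    exact hwv (h1.symm.trans h2)
  have hact : ∀ h ∈ pm x, (h • b ∈ B1 ∧ h • b2 ∈ B2) ∨ (h • b ∈ B2 ∧ h • b2 ∈ B1) := by
    intro h hh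
    have hv : h • v0 = h • b + h • b2 := by rw [← smul_add, hsum]
    rcases hone h hh b hba hbv with h1 | h1 <;> rcases hone h hh b2 hb2a hb2v with h2 | h2
    · exfalso
      exact hnm h b hba hbv (by rw [hv]; exact add_mem h1 h2)
    · exact Or.inl ⟨h1, h2⟩
    · exact Or.inr ⟨h1, h2⟩
    · exfalso
      exact hnm h b2 hb2a hb2v (by rw [hv]; exact add_mem h1 h2)
  have htpm : t ∈ pm x := hst t htv
  -- an element with `g b = x² b`, `g b2 = b2`
  obtain ⟨g1, hg1, hg1b, hg1b2⟩ : ∃ g1 ∈ pm x, g1 • b = x • x • b ∧ g1 • b2 = b2 := by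
    have hv : g • b + g • b2 = x • x • b + b2 := by rw [← smul_add, hsum, hgv]
    rcases hact g hg with ⟨h1, h2⟩ | ⟨h1, h2⟩
    · obtain ⟨e1, e2⟩ := huniq _ h1 _ h2 _ (smul_mem_blk hb' (smul_mem_blk' x b)) _
        (self_mem_blk x b2) hv
      exact ⟨g, hg, e1, e2⟩
    · rw [add_comm] at hv
      obtain ⟨e1, e2⟩ := huniq _ h2 _ h1 _ (smul_mem_blk hb' (smul_mem_blk' x b)) _
        (self_mem_blk x b2) hv
      exact ⟨g * t, mul_mem hg htpm, by rw [mul_smul, htb, e1], by rw [mul_smul, htb2, e2]⟩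
  obtain ⟨d, hd, hdx, hdb, hdb2⟩ : ∃ d ∈ pm x, d * x = x * d ∧ d • b = x • x • b ∧ d • b2 = b2 := by
    rcases hg1 with h | h
    · exact ⟨g1, Or.inl h, mul_inv_eq_iff_eq_mul.mp h, hg1b, hg1b2⟩
    · refine ⟨g1 * a, mul_mem (Or.inr h) hapm, ?_, ?_, ?_⟩
      · have e1 : g1 * a * x = g1 * (a * x * a⁻¹) * a := by group
        rw [e1, K.inv]
        have e2 : g1 * x⁻¹ * a = (g1 * x * g1⁻¹)⁻¹ * (g1 * a) := by group
        rw [e2, h, inv_inv]
      · rw [mul_smul, c.fix_br hba, hg1b]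
      · rw [mul_smul, c.fix_br hb2a, hg1b2]
  have hdx' : Commute d x := hdx
  have hdm : ∀ m : M, d • x • m = x • d • m := fun m => by rw [← mul_smul, hdx, mul_smul]
  have hdim : ∀ m : M, d⁻¹ • x • m = x • d⁻¹ • m := fun m => by
    rw [← mul_smul, hdx'.inv_left.eq, mul_smul]
  have hdib : d⁻¹ • b = x • b := by
    rw [inv_smul_eq_iff, hdm, hdb, ← mul_smul, ← mul_smul, mul_assoc, hx3, one_smul]
  have hdib2 : d⁻¹ • b2 = b2 := by rw [inv_smul_eq_iff, hdb2]
  -- `d2 = x x d⁻¹`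
  have hx3m : ∀ m : M, x • x • x • m = m := fun m => by
    rw [← mul_smul, ← mul_smul, mul_assoc, hx3, one_smul]
  have hd2b2 : (x * x * d⁻¹) • b2 = x • x • b2 := by rw [mul_smul, hdib2, mul_smul]
  have hd2b : (x * x * d⁻¹) • b = b := by rw [mul_smul, hdib, mul_smul, hx3m]
  have hb1e : blk d b = B1 := by
    refine le_antisymm (blk_le (self_mem_blk x b) ?_) (blk_le (self_mem_blk d b) ?_)
    · rw [hdb]
      exact smul_mem_blk hb' (smul_mem_blk' x b)
    · rw [mem_blk c.two]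
      right; right; right
      rw [hdb, hb', ← add_assoc, c.two, zero_add]
  have hb2e : blk (x * x * d⁻¹) b2 = B2 := by
    refine le_antisymm (blk_le (self_mem_blk x b2) ?_) (blk_le (self_mem_blk _ b2) ?_)
    · rw [hd2b2]
      exact smul_mem_blk hb2' (smul_mem_blk' x b2)
    · rw [mem_blk c.two]
      right; right; right
      rw [hd2b2, hb2', ← add_assoc, c.two, zero_add]
  refine ⟨pm x, d, x * x * d⁻¹, b, b2, hst, hd,
    mul_mem (mul_mem hxpm hxpm) (inv_mem hd), ?_, hba, hb2a, hb0, hb20, hsum, ?_, ?_, hdb2, hd2b,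
    ?_, ?_, ?_, ⟨t, ht, htb, htb2⟩⟩
  · have h1 : Commute d (x * x * d⁻¹) :=
      ((hdx'.mul_right hdx').mul_right (Commute.refl d).inv_right)
    exact h1.eq
  · rw [hdb, hdm, hdm, hdb, hx3m, hb', ← add_assoc, c.two, zero_add]
  · rw [hd2b2, mul_smul, mul_smul, hdim, hdim, hdib2, hx3m, hb2', ← add_assoc, c.two, zero_add]
  · rw [hdb, hdm, hdm, hdb, inv_smul_of_inv' K.inv, inv_smul_of_inv K.inv (c.fix_br hba), hxsm,
      hxsm]
  · rw [hd2b2, mul_smul, mul_smul, hdim, hdim, hdib2, inv_smul_of_inv' K.inv,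
      inv_smul_of_inv K.inv (c.fix_br hb2a), hxsm, hxsm]
  · rw [hb1e, hb2e]
    exact hact

end Cyc

end Cfsg.Agent.Omega.NO3S.Fit.Abs

end
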