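import Cfsg.Agent.Mrg.Omega.CaseL.Base

section


/-!
# NO-3S, `q = 2`, `n = 1` (helper311's text #13963): `cf p` has characteristic 2; the bridge from `TwoOne.One`-type data

* `Fam.o2_le`, `Fam.char2` : `C_{cf p}(O₂(cf p)) ≤ O₂(cf p)`;
* `Fam.full` : `cf p = C_G(p)` is a family.
-/

set_option autoImplicit false
set_option linter.unusedSectionVars false

namespace Cfsg.Agent.Omega.NO3S.Fit

open Subgroup Cfsg Cfsg.Agent.ZN Cfsg.Agent.MinSimple.Geo Cfsg.Agent.Omega.CaseL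
open Cfsg.Agent.ZN.Block (conj_mem_of_normalizer conj_mem_of_normalizer' le_normalizer_of_forall
  mem_normalizer_of)

universe u

variable {G : Type u} [Group G]

namespace Fam

variable {T V : Subgroup G} {z : G} {cf : G → Subgroup G}

theorem o2_le_z [Finite G] (h : Fam T V z cf) : o2 (centralizer ({z} : Set G)) ≤ o2 (cf z) := by
  have h1 : o2 (centralizer ({z} : Set G)) ≤ T := h.ln.o2_le_T
  refine le_o2 (h1.trans h.T_le_cf) (isPGroup_o2 _) ?_
  exact (h.le z h.ln.z_mem h.ln.z_ne).trans (le_normalizer_o2 _)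

theorem char2_z [Finite G] (h : Fam T V z cf) :
    cf z ⊓ centralizer ((o2 (cf z) : Subgroup G) : Set G) ≤ o2 (cf z) := by
  have hloc : IsTwoLocal (centralizer ({z} : Set G)) := by
    refine ⟨zpowers z, isPGroup_zpowers h.ln.zz, ?_, ?_⟩
    · rw [Ne, zpowers_eq_bot]; exact h.ln.z_ne
    · ext g
      rw [mem_centralizer_singleton_iff]
      constructor
      · intro hg
        refine centralizer_le_normalizer _ (mem_centralizer_iff.mpr fun x hx => ?_)
        obtain ⟨m, rfl⟩ := mem_zpowers_iff.mp hx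
        exact ((show Commute g z from hg).zpow_right m).eq.symm
      · intro hg
        have h1 : g * z * g⁻¹ ∈ zpowers z := (mem_normalizer_iff.mp hg z).mp (mem_zpowers z)
        rcases (mem_zpowers_iff_of_mul_self h.ln.zz).mp h1 with e | e
        · exact absurd e (conj_ne h.ln.z_ne)
        · exact comm_of_conj_eq e
  intro c hc
  refine h.o2_le_z (inf_centralizer_o2_le h.ln.charTwo hloc ⟨h.le z h.ln.z_mem h.ln.z_ne hc.1, ?_⟩)
  exact centralizer_le h.o2_le_z hc.2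

theorem char2 [Finite G] (h : Fam T V z cf) {p : G} (hp : p ∈ V) (hp1 : p ≠ 1) :
    cf p ⊓ centralizer ((o2 (cf p) : Subgroup G) : Set G) ≤ o2 (cf p) := by
  obtain ⟨g, -, -, hg⟩ := h.point hp hp1
  exact hg.char2_z

/-- the full family -/
theorem full {T V : Subgroup G} {z : G} (hln : Ln T V z)
    (ab : ∀ a ∈ wf V (centralizer {z}), ∀ b ∈ wf V (centralizer {z}), a * b = b * a)
    (nc : ∃ y ∈ V, y ≠ 1 ∧ y ≠ z ∧ ∃ a ∈ wf V (centralizer {z}), ∃ b ∈ wf V (centralizer {y}), a * b ≠ b * a)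
    (f1 : ∃ q ∈ T, q ∈ qf V (centralizer {z}) z ∧ q ∉ centralizer (V : Set G)) :
    Fam T V z (fun p => centralizer ({p} : Set G)) where
  ln := hln
  le := fun _ _ _ => le_rfl
  ge := fun _ _ _ => inf_le_right
  cj_cf := fun g _ p _ _ => cj_centralizer_singleton g p
  ab := ab
  nc := nc
  f1 := f1

end Fam

end Cfsg.Agent.Omega.NO3S.Fit

end

section


/-!
# NO-3S, `q = 2`, `n = 1` (helper311's text #13963): subfamilies

* `subf V z C` : the family with `C` at `z`; `Fam.sub` : it is a family if `N_G(V) ∩ C_G(z) ≤ C ≤ cf z` and the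
  groups `W'_z`, `W'_y` do not commute; `Fam.sub_of` : the same for `k = 1` from conditions on `W'_z` only;
* `MRep.mem_wf_pre` : `wf V (pre K)` is the preimage in `W_z` of the span of the `K`-orbit of `v0`;
* `MRep.br_cases` : for `k = 1` there is `u0` with `a m - m ∈ {0, v0, u0, u0 + v0}` for all `m`, `a = phi w`, `w ∈ W_y`.
-/

set_option autoImplicit false
set_option linter.unusedSectionVars false

namespace Cfsg.Agent.Omega.NO3S.Fit

open Subgroup Cfsg Cfsg.Agent.ZN Cfsg.Agent.MinSimple.Geo Cfsg.Agent.Omega.CaseL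
open Cfsg.Agent.ZN.Block (conj_mem_of_normalizer conj_mem_of_normalizer' le_normalizer_of_forall
  mem_normalizer_of)

universe u

variable {G : Type u} [Group G]

/-- the family with `C` at `z` -/
def subf (V : Subgroup G) (z : G) (C : Subgroup G) : G → Subgroup G := fun p =>
  ⨆ g : {g : G // g ∈ normalizer (V : Set G) ∧ g * z * g⁻¹ = p}, cj (g : G) C

theorem subf_eq {V : Subgroup G} {z : G} {C : Subgroup G}
    (hC : normalizer (V : Set G) ⊓ centralizer ({z} : Set G) ≤ C) {g : G} (hg : g ∈ normalizer (V : Set G)) :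
    subf V z C (g * z * g⁻¹) = cj g C := by
  refine le_antisymm (iSup_le ?_) (le_iSup (fun g' : {g' : G // g' ∈ normalizer (V : Set G) ∧
    g' * z * g'⁻¹ = g * z * g⁻¹} => cj (g' : G) C) ⟨g, hg, rfl⟩)
  rintro ⟨g', hg', e⟩
  have h1 : g⁻¹ * g' ∈ C := by
    refine hC (mem_inf.mpr ⟨mul_mem (inv_mem hg) hg', ?_⟩)
    rw [mem_centralizer_singleton_iff]
    calc g⁻¹ * g' * z = g⁻¹ * (g' * z * g'⁻¹) * g' := by group
      _ = z * (g⁻¹ * g') := by rw [e]; group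
  have h2 : cj (g⁻¹ * g') C = C := cj_eq_of_mem_normalizer (le_normalizer h1)
  have h3 : cj g' C = cj g (cj (g⁻¹ * g') C) := by rw [cj_cj, mul_inv_cancel_left]
  change cj g' C ≤ _
  rw [h3, h2]

theorem subf_z {V : Subgroup G} {z : G} {C : Subgroup G}
    (hC : normalizer (V : Set G) ⊓ centralizer ({z} : Set G) ≤ C) : subf V z C z = C := by
  have := subf_eq hC (one_mem (normalizer (V : Set G)))
  have e : (1 : G) * z * 1⁻¹ = z := by group
  rwa [e, cj_one] at this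

namespace Fam

variable {T V : Subgroup G} {z : G} {cf : G → Subgroup G}

/-- **the subfamily with `C` at `z`** -/
theorem sub (h : Fam T V z cf) {C : Subgroup G} (hC : normalizer (V : Set G) ⊓ centralizer ({z} : Set G) ≤ C)
    (hC' : C ≤ cf z) (hnc : ∃ y ∈ V, y ≠ 1 ∧ y ≠ z ∧ ∃ a ∈ wf V C, ∃ b ∈ ww V (subf V z C) y, a * b ≠ b * a) :
    Fam T V z (subf V z C) where
  ln := h.ln
  le := by
    intro p hp hp1
    obtain ⟨g, hg, rfl⟩ := h.ln.trans p hp hp1
    rw [subf_eq hC hg]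
    refine (cj_mono hC').trans ?_
    rw [h.cj_cf g hg z h.ln.z_mem h.ln.z_ne]
    exact h.le _ hp hp1
  ge := by
    intro p hp hp1 x hx
    obtain ⟨g, hg, rfl⟩ := h.ln.trans p hp hp1
    rw [subf_eq hC hg, mem_cj]
    refine hC (mem_inf.mpr ⟨mul_mem (mul_mem (inv_mem hg) (mem_inf.mp hx).1) hg, ?_⟩)
    have := mem_centralizer_singleton_iff.mp (mem_inf.mp hx).2
    rw [mem_centralizer_singleton_iff]
    calc g⁻¹ * x * g * z = g⁻¹ * (x * (g * z * g⁻¹)) * g := by group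
      _ = g⁻¹ * ((g * z * g⁻¹) * x) * g := by rw [this]
      _ = z * (g⁻¹ * x * g) := by group
  cj_cf := by
    intro k hk p hp hp1
    obtain ⟨g, hg, rfl⟩ := h.ln.trans p hp hp1
    have e : k * (g * z * g⁻¹) * k⁻¹ = (k * g) * z * (k * g)⁻¹ := by group
    rw [subf_eq hC hg, e, subf_eq hC (mul_mem hk hg), cj_cj]
  ab := by
    intro a ha b hb
    rw [ww, subf_z hC] at ha hb
    exact h.ab a (wf_mono hC' ha) b (wf_mono hC' hb)
  nc := by
    obtain ⟨y, hy, hy1, hyz, a, ha, b, hb, hab⟩ := hnc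
    refine ⟨y, hy, hy1, hyz, a, ?_, b, hb, hab⟩
    rw [ww, subf_z hC]; exact ha
  f1 := by
    obtain ⟨q, hq, hq1, hq2⟩ := h.f1
    refine ⟨q, hq, ?_, hq2⟩
    rw [qq, subf_z hC]
    refine ⟨hC ⟨h.ln.T_norm hq, h.ln.T_le hq⟩, hq1.2.1, fun w hw => hq1.2.2 w (wf_mono hC' hw)⟩

/-- the subfamily for `k = 1`, from conditions on `W'_z` only -/
theorem sub_of [Finite G] (h : Fam T V z cf) (hk : One1 V cf) {C : Subgroup G}
    (hC : normalizer (V : Set G) ⊓ centralizer ({z} : Set G) ≤ C) (hC' : C ≤ cf z) {y : G} (hy : y ∈ V)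
    (hy1 : y ≠ 1) (hyz : y ≠ z) (h1 : ∃ d ∈ wf V C, d ∉ qq V cf y)
    (h2 : ∃ d ∈ wf V C, ∃ w ∈ ww V cf y, d * w * d⁻¹ * w⁻¹ ≠ 1 ∧ d * w * d⁻¹ * w⁻¹ ≠ z) :
    Fam T V z (subf V z C) := by
  have hz := h.ln.z_mem
  have hz1 := h.ln.z_ne
  refine h.sub hC hC' ?_
  obtain ⟨d, hd, hdy⟩ := h1
  obtain ⟨e, he, w, hw, hne1, hnez⟩ := h2
  obtain ⟨g, hg, e1, e2⟩ := h.trans2 hz hz1 hy hy1 hyz hy hy1 hz hz1 (Ne.symm hyz)
  have hb : g * d * g⁻¹ ∈ ww V (subf V z C) y := by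
    rw [ww, ← e1, subf_eq hC hg]
    have := conj_mem_cj (g := g) hd
    rwa [cj_wf, cj_eq_of_mem_normalizer hg] at this
  set b := g * d * g⁻¹ with hbd
  have hbz : b ∉ qq V cf z := by
    intro hb'
    apply hdy
    have := h.conj_qq (inv_mem hg) hz hz1 hb'
    have e3 : g⁻¹ * z * g⁻¹⁻¹ = y := by rw [← e2]; group
    have e4 : g⁻¹ * b * g⁻¹⁻¹ = d := by rw [hbd]; group
    rwa [e3, e4] at this
  have hby : b ∈ ww V cf y := by
    have h3 := h.conj_ww hg hz hz1 (wf_mono hC' hd)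
    rwa [e1] at h3
  have heW : e ∈ ww V cf z := wf_mono hC' he
  have hcomm : ∀ k ∈ qq V cf z, e * k * e⁻¹ * k⁻¹ = 1 ∨ e * k * e⁻¹ * k⁻¹ = z := by
    intro k hk'
    have e5 : e * k * e⁻¹ * k⁻¹ = (k * e * k⁻¹ * e⁻¹)⁻¹ := by group
    rcases h.qq_cases hz hk' heW with e6 | e6
    · left; rw [e5, e6]; group
    · right; rw [e5, e6, mul_assoc, mul_inv_cancel, mul_one, h.ln.inv_eq hz]
  have hwz : w ∉ qq V cf z := by
    intro hw'
    rcases hcomm w hw' with e6 | e6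
    · exact hne1 e6
    · exact hnez e6
  have hwb := hk y hy hy1 z hz hz1 (Ne.symm hyz) w hw b hby hwz hbz
  refine ⟨y, hy, hy1, hyz, e, he, b, hb, fun hcom => ?_⟩
  have e7 : e * w * e⁻¹ * w⁻¹ = e * (w * b) * e⁻¹ * (w * b)⁻¹ := by
    have e8 : b * e⁻¹ = e⁻¹ * b := (inv_comm_of hcom).symm
    calc e * w * e⁻¹ * w⁻¹ = e * w * e⁻¹ * b * b⁻¹ * w⁻¹ := by group
      _ = e * w * (e⁻¹ * b) * (b⁻¹ * w⁻¹) := by group
      _ = e * w * (b * e⁻¹) * (b⁻¹ * w⁻¹) := by rw [e8]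
      _ = e * (w * b) * e⁻¹ * (w * b)⁻¹ := by group
  rcases hcomm _ hwb with e6 | e6
  · exact hne1 (e7.trans e6)
  · exact hnez (e7.trans e6)

theorem ww_subf {C : Subgroup G} (hC : normalizer (V : Set G) ⊓ centralizer ({z} : Set G) ≤ C) :
    ww V (subf V z C) z = wf V C := by
  rw [ww, subf_z hC]

end Fam

namespace MRep

variable {T V : Subgroup G} {z : G} {cf : G → Subgroup G} {M H : Type u} [AddCommGroup M] [Group H]
  [DistribMulAction H M]

/-- `wf V (pre K)` is the preimage in `W_z` of the span of the `K`-orbit of `v0` -/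
theorem mem_wf_pre (R : MRep V cf z M H) (h : Fam T V z cf) {y : G} (hy : y ∈ V) (hy1 : y ≠ 1) (hyz : y ≠ z)
    (K : Subgroup H) {w : G} : w ∈ wf V (R.pre K) ↔
      w ∈ ww V cf z ∧ R.pi w ∈ AddSubgroup.closure (Set.range fun x : K => (x : H) • R.pi y) := by
  have hz := h.ln.z_mem
  have hz1 := h.ln.z_ne
  set D := AddSubgroup.closure (Set.range fun x : K => (x : H) • R.pi y) with hD
  have hyW : y ∈ ww V cf z := h.V_le hy
  have hsub : wf V (R.pre K) ≤ ww V cf z := wf_mono (R.pre_le K)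
  let B : Subgroup G :=
    { carrier := {w | w ∈ ww V cf z ∧ R.pi w ∈ D}
      mul_mem' := by
        rintro a b ⟨ha, ha1⟩ ⟨hb, hb1⟩
        refine ⟨mul_mem ha hb, ?_⟩
        rw [R.pi_mul a ha b hb]
        exact add_mem ha1 hb1
      one_mem' := ⟨one_mem _, by rw [R.pi_one h]; exact zero_mem _⟩
      inv_mem' := by
        rintro a ⟨ha, ha1⟩
        refine ⟨inv_mem ha, ?_⟩
        rw [R.pi_inv h ha]
        exact neg_mem ha1 }
  have h1 : wf V (R.pre K) ≤ B := by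
    refine wf_le fun c hc x hx => ?_
    obtain ⟨hc1, hc2⟩ := R.mem_pre.mp hc
    refine ⟨cj_le_wf hc1 hx, ?_⟩
    rw [mem_cj] at hx
    have hxw : c⁻¹ * x * c ∈ ww V cf z := h.V_le hx
    have e : x = c * (c⁻¹ * x * c) * c⁻¹ := by group
    rw [e, ← R.act c hc1 _ hxw]
    have hy0 : R.phi c • R.pi y ∈ D := AddSubgroup.subset_closure ⟨⟨_, hc2⟩, rfl⟩
    rcases h.ln.four hz hy hz1 hy1 (Ne.symm hyz) hx with e1 | e1 | e1 | e1
    · rw [e1, R.pi_one h, smul_zero]; exact zero_mem _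
    · rw [e1, R.pi_z h, smul_zero]; exact zero_mem _
    · rw [e1]; exact hy0
    · rw [e1, R.pi_mul z h.z_mem_ww y hyW, R.pi_z h, zero_add]; exact hy0
  refine ⟨fun hw => h1 hw, fun ⟨hw, hwD⟩ => ?_⟩
  -- every element of `D` is `pi` of an element of `wf V (pre K)`
  have h2 : ∀ m ∈ D, ∃ u ∈ wf V (R.pre K), R.pi u = m := by
    intro m hm
    induction hm using AddSubgroup.closure_induction with
    | mem m hm =>
      obtain ⟨x, rfl⟩ := hm
      obtain ⟨c, hc, hcx⟩ := R.phi_surj (x : H)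
      have hcp : c ∈ R.pre K := R.mem_pre.mpr ⟨hc, by rw [hcx]; exact x.2⟩
      refine ⟨c * y * c⁻¹, cj_le_wf hcp (conj_mem_cj hy), ?_⟩
      rw [← R.act c hc y hyW, hcx]
    | zero => exact ⟨1, one_mem _, R.pi_one h⟩
    | add a b _ _ ha hb =>
      obtain ⟨u, hu, rfl⟩ := ha
      obtain ⟨v, hv, rfl⟩ := hb
      exact ⟨u * v, mul_mem hu hv, R.pi_mul u (hsub hu) v (hsub hv)⟩
    | neg a _ ha =>
      obtain ⟨u, hu, rfl⟩ := ha
      exact ⟨u⁻¹, inv_mem hu, R.pi_inv h (hsub hu)⟩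
  obtain ⟨u, hu, e⟩ := h2 _ hwD
  have hzw : z ∈ wf V (R.pre K) := V_le_wf V _ hz
  rcases (R.pi_eq h (hsub hu) hw).mp e with e1 | e1
  · rw [← e1]; exact hu
  · have : w = z * u := by rw [e1, ← mul_assoc, h.ln.zz, one_mul]
    rw [this]
    exact mul_mem hzw hu

/-- the stabilizer of `v0` lies in `K` iff `N_G(V) ∩ C_G(z) ≤ pre K` -/
theorem le_pre [Finite G] (R : MRep V cf z M H) (h : Fam T V z cf) {y : G} (hy : y ∈ V) (hy1 : y ≠ 1) (hyz : y ≠ z)
    {K : Subgroup H} (hK : ∀ x : H, x • R.pi y = R.pi y → x ∈ K) :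
    normalizer (V : Set G) ⊓ centralizer ({z} : Set G) ≤ R.pre K := by
  intro c hc
  have hc1 := h.ge z h.ln.z_mem h.ln.z_ne hc
  exact R.mem_pre.mpr ⟨hc1, hK _ ((R.smul_v0_iff h hy hy1 hyz hc1).mpr hc.1)⟩

/-- for `w ∈ W_z ∩ Q_y` and `a ∈ W_y`: `a w - w ∈ {0, v0}` -/
theorem br_one (R : MRep V cf z M H) (h : Fam T V z cf) {y : G} (hy : y ∈ V) (hy1 : y ≠ 1)
    {a w : G} (ha : a ∈ ww V cf y) (hw : w ∈ ww V cf z) (hw1 : w ∈ qq V cf y) :
    R.phi a • R.pi w - R.pi w = 0 ∨ R.phi a • R.pi w - R.pi w = R.pi y := by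
  have hz := h.ln.z_mem
  have hz1 := h.ln.z_ne
  rw [R.comm_eq h (h.ww_le_cf' hy hy1 hz hz1 ha) hw]
  have e5 : a * w * a⁻¹ * w⁻¹ = (w * a * w⁻¹ * a⁻¹)⁻¹ := by group
  rcases h.qq_cases hy hw1 ha with e6 | e6
  · left; rw [e5, e6]
    have : (a * a⁻¹)⁻¹ = 1 := by group
    rw [this, R.pi_one h]
  · right; rw [e5, e6, mul_assoc, mul_inv_cancel, mul_one, h.ln.inv_eq hy]

/-- `k = 1`: `a m - m ∈ {0, v0, u0, u0 + v0}` -/
theorem br_cases [Finite G] (R : MRep V cf z M H) (h : Fam T V z cf) (hk : Fam.One1 V cf) {y : G} (hy : y ∈ V)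
    (hy1 : y ≠ 1) (hyz : y ≠ z) {a : G} (ha : a ∈ ww V cf y) :
    ∃ u0 : M, ∀ m : M, R.phi a • m - m = 0 ∨ R.phi a • m - m = R.pi y ∨ R.phi a • m - m = u0 ∨
      R.phi a • m - m = u0 + R.pi y := by
  have hz := h.ln.z_mem
  have hz1 := h.ln.z_ne
  obtain ⟨w0, hw0, hw0y⟩ := h.exists_not_qq hz hz1 hy hy1 hyz
  refine ⟨R.phi a • R.pi w0 - R.pi w0, fun m => ?_⟩
  obtain ⟨w, hw, rfl⟩ := R.pi_surj m
  by_cases hwy : w ∈ qq V cf y
  · rcases R.br_one h hy hy1 ha hw hwy with e | e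
    · exact Or.inl e
    · exact Or.inr (Or.inl e)
  · have h1 := hk z hz hz1 y hy hy1 hyz w hw w0 hw0 hwy hw0y
    have h2 := R.br_one h hy hy1 ha (mul_mem hw hw0) h1
    have e0 : R.pi w0 + R.pi w0 = 0 := R.two h _
    have e1 : R.pi w = R.pi (w * w0) + R.pi w0 := by
      rw [R.pi_mul w hw w0 hw0, add_assoc, e0, add_zero]
    have e2 : R.phi a • R.pi w - R.pi w =
        (R.phi a • R.pi w0 - R.pi w0) + (R.phi a • R.pi (w * w0) - R.pi (w * w0)) := by
      rw [e1, smul_add]; abel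
    right; right
    rcases h2 with e | e
    · left; rw [e2, e, add_zero]
    · right; rw [e2, e]

/-- the image of a non-member of `Q_z` is nontrivial, an involution -/
theorem phi_ne_one (R : MRep V cf z M H) {a : G} (ha : a ∈ cf z) (ha1 : a ∉ qq V cf z) : R.phi a ≠ 1 :=
  fun e => ha1 ((R.phi_ker a ha).mp e)

/-- `k = 1`: `a` is central in the stabilizer of `v0` -/
theorem cen_A [Finite G] (R : MRep V cf z M H) (h : Fam T V z cf) (hk : Fam.One1 V cf) {y : G} (hy : y ∈ V)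
    (hy1 : y ≠ 1) (hyz : y ≠ z) {a : G} (ha : a ∈ ww V cf y) {x : H} (hx : x • R.pi y = R.pi y) :
    x * R.phi a = R.phi a * x := by
  have hz := h.ln.z_mem
  have hz1 := h.ln.z_ne
  have hac := h.ww_le_cf' hy hy1 hz hz1 ha
  by_cases haz : a ∈ qq V cf z
  · rw [(R.phi_ker a hac).mpr haz, mul_one, one_mul]
  obtain ⟨a', ha', e, d, hd, hdx, hda⟩ := R.norm_A h hy hy1 hy hy1 hyz hx ha
  have hac' := h.ww_le_cf' hy hy1 hz hz1 ha'
  have ha'z : a' ∉ qq V cf z := by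
    intro h1
    apply haz
    rw [← R.phi_ker a hac]
    rw [(R.phi_ker a' hac').mpr h1] at e
    exact conj_eq_one_iff.mp e
  have h2 := hk y hy hy1 z hz hz1 (Ne.symm hyz) a' ha' a ha ha'z haz
  have h3 : R.phi a' = R.phi a := by
    rw [R.phi_eq hac' hac, h.inv_ww hy hy1 ha]
    exact h2
  rw [h3] at e
  exact mul_inv_eq_iff_eq_mul.mp e

end MRep

end Cfsg.Agent.Omega.NO3S.Fit

end
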