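import Cfsg.Agent.Mrg.Omega.NO3S.Fit.PlaneAct
import Cfsg.Agent.Mrg.Omega.NO3S.Fit.AbsNat
import Cfsg.Agent.Mrg.Omega.NO3S.Fit.Char

section


/-!
# Text #13963, section 3, `A = ⟨a⟩`: the main theorem and the consequences of its outputs

* `Ctx.main` : (M12), (T5) or (T9), and (3.6);
* `T9.*`, `T5.*`, `M12.*` : the action of `H1` on `D`.
-/

set_option autoImplicit false
set_option linter.unusedSectionVars false

open scoped Pointwise

namespace Cfsg.Agent.Omega.NO3S.Fit.Abs

variable {H M : Type*} [Group H] [AddCommGroup M] [DistribMulAction H M]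
variable {v0 : M} {a : H} {T : Subgroup H}

/-- **THE MAIN THEOREM of section 3, `A = ⟨a⟩`**, with the structure of `F` in case (T5). -/
theorem Ctx.main' [Finite H] [Finite M] [FaithfulSMul H M] (c : Ctx v0 a T) {p : ℕ}
    (hp : p.Prime) (hp2 : p ≠ 2) {F : Subgroup H} [hFn : F.Normal] (hF : IsPGroup p F)
    (hFa : ∃ f ∈ F, f * a ≠ a * f) :
    (Nat.card (br M a) = 2 ∧ ∃ d ∈ F, Ctx.M12 v0 a d) ∨
      (Nat.card (br M a) = 4 ∧ (∀ h : H, h • v0 ∈ br M a → h • v0 = v0) ∧
        ((∃ d, Cyc M a F d ∧ T5 v0 a d) ∨ ∃ H1 d1 d2 b1 b2, T9 v0 a T H1 d1 d2 b1 b2)) := by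
  have hodd : ∀ f ∈ F, Odd (orderOf f) := fun f hf => odd_orderOf_of_isPGroup hp hp2 hF hf
  rcases c.card_cases with h2 | h4
  · exact Or.inl ⟨h2, c.m12 hp hp2 hF hFa h2⟩
  · right
    rcases c.exists_struct h4 hp hp2 hF hFa with ⟨x, hx, hn, hi⟩ | ⟨x, K⟩
    · obtain ⟨h1, h2⟩ := c.t9_of_natural h4 hp hp2 hF hx hn hi
      exact ⟨h4, h2, Or.inr h1⟩
    · refine ⟨h4, fun h hh => K.no_move c h4 hodd hh, ?_⟩
      rcases K.ord with h | h
      · exact Or.inr (K.t9 c h4 hodd h)
      · exact Or.inl ⟨x, K, K.t5 c h4 h⟩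

/-- **THE MAIN THEOREM of section 3, `A = ⟨a⟩`.** -/
theorem Ctx.main [Finite H] [Finite M] [FaithfulSMul H M] (c : Ctx v0 a T) {p : ℕ}
    (hp : p.Prime) (hp2 : p ≠ 2) {F : Subgroup H} [hFn : F.Normal] (hF : IsPGroup p F)
    (hFa : ∃ f ∈ F, f * a ≠ a * f) :
    (Nat.card (br M a) = 2 ∧ ∃ d ∈ F, Ctx.M12 v0 a d) ∨
      (Nat.card (br M a) = 4 ∧ (∀ h : H, h • v0 ∈ br M a → h • v0 = v0) ∧
        ((∃ d ∈ F, T5 v0 a d) ∨ ∃ H1 d1 d2 b1 b2, T9 v0 a T H1 d1 d2 b1 b2)) := by
  rcases c.main' hp hp2 hF hFa with h | ⟨h4, hm, ⟨d, K, h5⟩ | h9⟩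
  · exact Or.inl h
  · exact Or.inr ⟨h4, hm, Or.inl ⟨d, K.mem, h5⟩⟩
  · exact Or.inr ⟨h4, hm, Or.inr h9⟩

/-- (3.6) -/
theorem Ctx.no_move_of_smul [Finite H] [Finite M] [FaithfulSMul H M] (c : Ctx v0 a T)
    (hm : ∀ h : H, h • v0 ∈ br M a → h • v0 = v0) {h : H}
    (hh : ∀ m ∈ br M a, h • m ∈ br M a) : h • v0 = v0 := hm h (hh v0 c.v0_mem)

/-! ### a group `⟨d⟩ H_0` -/

/-- `⟨d⟩ H_0`, `H_0 = Stab(v0)` -/
def cyc (v0 : M) (d : H) (hd : ∀ h : H, h • v0 = v0 → h * d * h⁻¹ ∈ Subgroup.zpowers d) :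
    Subgroup H where
  carrier := {h | ∃ i : ℤ, ∃ h0 : H, h0 • v0 = v0 ∧ h = d ^ i * h0}
  one_mem' := ⟨0, 1, one_smul _ _, by simp⟩
  mul_mem' := by
    rintro _ _ ⟨i, g, hg, rfl⟩ ⟨j, h, hh, rfl⟩
    obtain ⟨k, hk⟩ := (Subgroup.zpowers d).zpow_mem (hd g hg) j
    refine ⟨i + k, g * h, by rw [mul_smul, hh, hg], ?_⟩
    have hk' : d ^ k = g * d ^ j * g⁻¹ := by rw [← conj_zpow]; exact hk
    rw [zpow_add, hk']
    group
  inv_mem' := by
    rintro _ ⟨i, g, hg, rfl⟩
    have hg' : g⁻¹ • v0 = v0 := by rw [inv_smul_eq_iff, hg]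
    obtain ⟨k, hk⟩ := (Subgroup.zpowers d).zpow_mem (hd g⁻¹ hg') (-i)
    refine ⟨k, g⁻¹, hg', ?_⟩
    have hk' : d ^ k = g⁻¹ * d ^ (-i) * g⁻¹⁻¹ := by rw [← conj_zpow]; exact hk
    rw [hk']
    group

theorem mem_cyc {v0 : M} {d : H} {hd : ∀ h : H, h • v0 = v0 → h * d * h⁻¹ ∈ Subgroup.zpowers d}
    {h : H} : h ∈ cyc v0 d hd ↔ ∃ i : ℤ, ∃ h0 : H, h0 • v0 = v0 ∧ h = d ^ i * h0 := Iff.rfl

theorem stab_le_cyc {v0 : M} {d : H}
    (hd : ∀ h : H, h • v0 = v0 → h * d * h⁻¹ ∈ Subgroup.zpowers d) {h : H} (hh : h • v0 = v0) :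
    h ∈ cyc v0 d hd := ⟨0, h, hh, by simp⟩

theorem self_mem_cyc {v0 : M} {d : H}
    (hd : ∀ h : H, h • v0 = v0 → h * d * h⁻¹ ∈ Subgroup.zpowers d) : d ∈ cyc v0 d hd :=
  ⟨1, 1, one_smul _ _, by simp⟩

theorem sp_cyc {v0 : M} {d : H}
    (hd : ∀ h : H, h • v0 = v0 → h * d * h⁻¹ ∈ Subgroup.zpowers d) :
    sp (cyc v0 d hd) v0 = sp (Subgroup.zpowers d) v0 := by
  refine le_antisymm (sp_le ?_) (sp_le ?_)
  · rintro _ ⟨i, h0, hh, rfl⟩
    rw [mul_smul, hh]
    exact mem_sp (Subgroup.zpow_mem_zpowers d i)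
  · rintro _ ⟨i, rfl⟩
    exact mem_sp ((cyc v0 d hd).zpow_mem (self_mem_cyc hd) i)

/-! ### (M12) -/

namespace Ctx.M12

variable {d : H}

theorem nor' (K : Ctx.M12 v0 a d) (h : H) (hh : h • v0 = v0) : h * d * h⁻¹ ∈ Subgroup.zpowers d := by
  rcases K.nor h hh with e | e
  · rw [e]; exact Subgroup.mem_zpowers d
  · rw [e]; exact inv_mem (Subgroup.mem_zpowers d)

theorem sp_eq (K : Ctx.M12 v0 a d) (two : ∀ m : M, m + m = 0) :
    sp (Subgroup.zpowers d) v0 = br M d := by
  have hv := K.mem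
  have ho : Odd (orderOf d) := Odd.of_dvd_nat (by decide : Odd 3) (orderOf_dvd_of_pow_eq_one K.cube)
  have h0 : v0 ≠ 0 := by
    intro h
    apply K.ne
    rw [h, smul_zero]
  refine le_antisymm (sp_le fun k hk => smul_mem_of_into (br_le_of_mem_zpowers hk) hv) ?_
  intro m hm
  rcases nat_cases two ho K.card hv h0 hm with rfl | rfl | rfl | rfl
  · exact zero_mem _
  · have := mem_sp (v := m) (one_mem (Subgroup.zpowers d))
    rwa [one_smul] at this
  · exact mem_sp (Subgroup.mem_zpowers d)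
  · exact mem_sp (Subgroup.npow_mem_zpowers d 2)

end Ctx.M12

/-! ### (T5) -/

namespace T5

variable {d : H}

theorem sp_eq (K : T5 v0 a d) : sp (cyc v0 d K.nor) v0 = br M d := by
  rw [sp_cyc, K.spe]

theorem odd (K : T5 v0 a d) : Odd (orderOf d) :=
  Odd.of_dvd_nat (by decide : Odd 5) (orderOf_dvd_of_pow_eq_one K.five)

/-- elements of `cyc v0 d` fixing `v0` and commuting with `d` are trivial on `D` -/
theorem triv (K : T5 v0 a d) {g : H} (hg : g • v0 = v0) (hgd : g * d = d * g) {m : M}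
    (hm : m ∈ br M d) : g • m = m := by
  have h1 : sp (Subgroup.zpowers d) v0 ≤ fx M g := by
    refine sp_le fun k hk => ?_
    rw [mem_fx, ← mul_smul, comm_of_mem_zpowers hk hgd, mul_smul, hg]
  rw [K.spe] at h1
  exact h1 hm

/-- `C_D(a) = [M,a]` -/
theorem fixed (K : T5 v0 a d) {m : M} (hm : m ∈ br M d) (h : a • m = m) : m ∈ br M a := by
  rw [← K.cxe]
  exact ⟨hm, h⟩

end T5

/-! ### (T9) -/

namespace T9

variable {H1 : Subgroup H} {d1 d2 : H} {b1 b2 : M}

/-- exchange the indices -/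
theorem symm (K : T9 v0 a T H1 d1 d2 b1 b2) : T9 v0 a T H1 d2 d1 b2 b1 where
  stab_le := K.stab_le
  d1m := K.d2m
  d2m := K.d1m
  comm := K.comm.symm
  b1m := K.b2m
  b2m := K.b1m
  b10 := K.b20
  b20 := K.b10
  sum := by rw [add_comm]; exact K.sum
  d11 := K.d22
  d22 := K.d11
  d12 := K.d21
  d21 := K.d12
  a1 := K.a2
  a2 := K.a1
  act := fun h hh => (K.act h hh).imp And.symm And.symm
  swap := by
    obtain ⟨t, ht, h1, h2⟩ := K.swap
    exact ⟨t, ht, h2, h1⟩

theorem smul_comm' (K : T9 v0 a T H1 d1 d2 b1 b2) (m : M) : d1 • d2 • m = d2 • d1 • m := by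
  rw [← mul_smul, K.comm, mul_smul]

/-- `d1` is trivial on `B2` -/
theorem triv2 (K : T9 v0 a T H1 d1 d2 b1 b2) {m : M} (hm : m ∈ blk d2 b2) : d1 • m = m := by
  have h : blk d2 b2 ≤ fx M d1 := by
    refine blk_le K.d12 ?_
    rw [mem_fx, K.smul_comm', K.d12]
  exact h hm

theorem triv1 (K : T9 v0 a T H1 d1 d2 b1 b2) {m : M} (hm : m ∈ blk d1 b1) : d2 • m = m :=
  K.symm.triv2 hm

theorem indep (K : T9 v0 a T H1 d1 d2 b1 b2) (two : ∀ m : M, m + m = 0) {m : M}
    (h1 : m ∈ blk d1 b1) (h2 : m ∈ blk d2 b2) : m = 0 := blk_fixed two K.d11 h1 (K.triv2 h2)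

theorem uniq (K : T9 v0 a T H1 d1 d2 b1 b2) (two : ∀ m : M, m + m = 0) {p q p' q' : M}
    (hp : p ∈ blk d1 b1) (hq : q ∈ blk d2 b2) (hp' : p' ∈ blk d1 b1) (hq' : q' ∈ blk d2 b2)
    (e : p + q = p' + q') : p = p' ∧ q = q' := by
  have h1 : p - p' = q' - q := by
    have : p - p' = (p + q) - q - p' := by abel
    rw [this, e]
    abel
  have h2 : p - p' = 0 := K.indep two (sub_mem hp hp') (by rw [h1]; exact sub_mem hq' hq)
  refine ⟨sub_eq_zero.mp h2, ?_⟩
  rw [h2] at h1
  exact (sub_eq_zero.mp h1.symm).symm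

/-- `d1³ = 1` on `B1` -/
theorem cube1 (K : T9 v0 a T H1 d1 d2 b1 b2) (two : ∀ m : M, m + m = 0) {m : M}
    (hm : m ∈ blk d1 b1) : d1 • d1 • d1 • m = m := by
  have h1 := blk_sum two K.d11 hm
  rw [h1, smul_add, h1, add_comm m, ← add_assoc, two, zero_add]

/-- `D = B1 + B2` -/
theorem sp_eq (K : T9 v0 a T H1 d1 d2 b1 b2) (two : ∀ m : M, m + m = 0) :
    sp H1 v0 = blk d1 b1 ⊔ blk d2 b2 := by
  refine le_antisymm (sp_le fun h hh => ?_) ?_
  · rw [← K.sum, smul_add]
    rcases K.act h hh with ⟨e1, e2⟩ | ⟨e1, e2⟩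
    · exact AddSubgroup.add_mem_sup e1 e2
    · rw [add_comm]
      exact AddSubgroup.add_mem_sup e2 e1
  · have key : ∀ {e1 e2 : H} {c1 c2 : M}, T9 v0 a T H1 e1 e2 c1 c2 → blk e1 c1 ≤ sp H1 v0 := by
      intro e1 e2 c1 c2 K
      have hv : v0 ∈ sp H1 v0 := by
        have := mem_sp (v := v0) (one_mem H1)
        rwa [one_smul] at this
      have h1 : e1 • e1 • c1 ∈ sp H1 v0 := by
        have h2 : e1 • v0 + v0 ∈ sp H1 v0 := add_mem (mem_sp K.d1m) hv
        have h3 : e1 • v0 + v0 = e1 • e1 • c1 := by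
          rw [← K.sum, smul_add, K.d12, K.d11]
          have : e1 • c1 + c2 + (c1 + c2) = (c1 + e1 • c1) + (c2 + c2) := by abel
          rw [this, two, add_zero]
        rwa [h3] at h2
      have h4 : c1 ∈ sp H1 v0 := by
        have := smul_mem_sp K.d1m h1
        rwa [K.cube1 two (self_mem_blk e1 c1)] at this
      exact blk_le h4 (smul_mem_sp K.d1m h4)
    exact sup_le (key K) (key K.symm)

theorem card_blk {d : H} {b : M} (two : ∀ m : M, m + m = 0) (hd : d • d • b = b + d • b)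
    (hb : b ≠ 0) : Nat.card (blk d b) = 4 := by
  classical
  have h1 : (blk d b : Set M) = (({0, b, d • b, b + d • b} : Finset M) : Set M) := by
    ext m
    simp only [SetLike.mem_coe, mem_blk two, Finset.coe_insert, Finset.coe_singleton,
      Set.mem_insert_iff, Set.mem_singleton_iff]
  have h2 : d • b ≠ b := fun h => hb (blk_fixed two hd (self_mem_blk d b) h)
  have h3 : d • b ≠ 0 := fun h => hb ((smul_eq_zero_iff_eq d).mp h)
  have h4 : b + d • b ≠ 0 := by
    intro h
    apply h2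
    have := eq_neg_of_add_eq_zero_left h
    rw [neg_eq two] at this
    exact this.symm
  have h5 : Nat.card (blk d b) = Set.ncard (blk d b : Set M) := Nat.card_coe_set_eq _
  rw [h5, h1, Set.ncard_coe_finset, Finset.card_insert_of_notMem, Finset.card_insert_of_notMem,
    Finset.card_insert_of_notMem, Finset.card_singleton]
  · simpa using hb
  · simp [h2.symm, h3]
  · simp [hb.symm, h3.symm, h4.symm]

/-- `|D| = 16` -/
theorem card_sp (K : T9 v0 a T H1 d1 d2 b1 b2) (two : ∀ m : M, m + m = 0) :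
    Nat.card (sp H1 v0) = 16 := by
  rw [K.sp_eq two]
  have h1 := card_blk two K.d11 K.b10
  have h2 := card_blk two K.d22 K.b20
  let f : blk d1 b1 × blk d2 b2 → (blk d1 b1 ⊔ blk d2 b2 : AddSubgroup M) := fun p =>
    ⟨p.1 + p.2, AddSubgroup.add_mem_sup p.1.2 p.2.2⟩
  have hf : Function.Bijective f := by
    constructor
    · rintro ⟨⟨p, hp⟩, ⟨q, hq⟩⟩ ⟨⟨p', hp'⟩, ⟨q', hq'⟩⟩ e
      have e' : p + q = p' + q' := congrArg Subtype.val e
      obtain ⟨e1, e2⟩ := K.uniq two hp hq hp' hq' e'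
      subst e1
      subst e2
      rfl
    · rintro ⟨m, hm⟩
      obtain ⟨p, hp, q, hq, rfl⟩ := AddSubgroup.mem_sup.mp hm
      exact ⟨(⟨p, hp⟩, ⟨q, hq⟩), rfl⟩
  rw [← Nat.card_congr (Equiv.ofBijective f hf), Nat.card_prod, h1, h2]

/-- every element of `H1` is `d1^i d2^j h0` -/
theorem exists_eq (K : T9 v0 a T H1 d1 d2 b1 b2) (two : ∀ m : M, m + m = 0) {h : H}
    (hh : h ∈ H1) : ∃ i j : ℕ, ∃ h0 : H, h0 • v0 = v0 ∧ h = d1 ^ i * d2 ^ j * h0 := by
  have key : ∃ i j : ℕ, h • v0 = d1 ^ i • b1 + d2 ^ j • b2 := by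
    have hv : h • v0 = h • b1 + h • b2 := by rw [← smul_add, K.sum]
    have h1 : h • b1 ≠ 0 := fun e => K.b10 ((smul_eq_zero_iff_eq h).mp e)
    have h2 : h • b2 ≠ 0 := fun e => K.b20 ((smul_eq_zero_iff_eq h).mp e)
    rcases K.act h hh with ⟨e1, e2⟩ | ⟨e1, e2⟩
    · obtain ⟨i, -, hi⟩ := exists_pow_of_mem_blk two K.d11 e1 h1
      obtain ⟨j, -, hj⟩ := exists_pow_of_mem_blk two K.d22 e2 h2
      exact ⟨i, j, by rw [hv, hi, hj]⟩
    · obtain ⟨i, -, hi⟩ := exists_pow_of_mem_blk two K.d11 e2 h2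
      obtain ⟨j, -, hj⟩ := exists_pow_of_mem_blk two K.d22 e1 h1
      exact ⟨i, j, by rw [hv, hi, hj, add_comm]⟩
  obtain ⟨i, j, hij⟩ := key
  have hfix1 : ∀ n : ℕ, d1 ^ n • b2 = b2 := by
    intro n
    induction n with
    | zero => simp
    | succ n ih => rw [pow_succ, mul_smul, K.d12, ih]
  have hfix2 : ∀ n : ℕ, d2 ^ n • b1 = b1 := by
    intro n
    induction n with
    | zero => simp
    | succ n ih => rw [pow_succ, mul_smul, K.d21, ih]
  have hc : Commute d1 d2 := K.comm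
  have h1 : (d1 ^ i * d2 ^ j) • v0 = h • v0 := by
    rw [hij, ← K.sum, smul_add, mul_smul, hfix2, (hc.pow_pow i j).eq, mul_smul, hfix1]
  refine ⟨i, j, (d1 ^ i * d2 ^ j)⁻¹ * h, ?_, by group⟩
  rw [mul_smul, ← h1, inv_smul_smul]

/-- `H_0` fixes or exchanges `b1`, `b2` -/
theorem stab_cases (K : T9 v0 a T H1 d1 d2 b1 b2) (two : ∀ m : M, m + m = 0) {h : H}
    (hh : h • v0 = v0) : (h • b1 = b1 ∧ h • b2 = b2) ∨ (h • b1 = b2 ∧ h • b2 = b1) := by
  have hv : h • b1 + h • b2 = b1 + b2 := by rw [← smul_add, K.sum, hh]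
  rcases K.act h (K.stab_le h hh) with ⟨e1, e2⟩ | ⟨e1, e2⟩
  · exact Or.inl (K.uniq two e1 e2 (self_mem_blk _ _) (self_mem_blk _ _) hv)
  · rw [add_comm] at hv
    obtain ⟨h1, h2⟩ := K.uniq two e2 e1 (self_mem_blk _ _) (self_mem_blk _ _) hv
    exact Or.inr ⟨h2, h1⟩

/-- an element of `H1` with `h b1 ∈ B1` maps `B1` to `B1` -/
theorem map1 (K : T9 v0 a T H1 d1 d2 b1 b2) (two : ∀ m : M, m + m = 0) {h : H} (hh : h ∈ H1)
    (h1 : h • b1 ∈ blk d1 b1) {m : M} (hm : m ∈ blk d1 b1) : h • m ∈ blk d1 b1 := by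
  have key : h • d1 • b1 ∈ blk d1 b1 := by
    rcases K.act (h * d1) (mul_mem hh K.d1m) with ⟨e1, -⟩ | ⟨-, e2⟩
    · rwa [mul_smul] at e1
    · exfalso
      rw [mul_smul, K.d12] at e2
      have h2 : h • b2 ∈ blk d2 b2 := by
        rcases K.act h hh with ⟨-, e⟩ | ⟨e, -⟩
        · exact e
        · have h3 : h • b1 = 0 := K.indep two h1 e
          exact absurd ((smul_eq_zero_iff_eq h).mp h3) K.b10
      have h3 : h • b2 = 0 := K.indep two e2 h2
      exact K.b20 ((smul_eq_zero_iff_eq h).mp h3)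
  have hle : blk d1 b1 ≤ (blk d1 b1).comap (DistribSMul.toAddMonoidHom M h) := blk_le h1 key
  exact hle hm

/-- an element of `H1` with `h b1 ∈ B2` maps `B1` to `B2` -/
theorem map12 (K : T9 v0 a T H1 d1 d2 b1 b2) (two : ∀ m : M, m + m = 0) {h : H} (hh : h ∈ H1)
    (h1 : h • b1 ∈ blk d2 b2) {m : M} (hm : m ∈ blk d1 b1) : h • m ∈ blk d2 b2 := by
  have key : h • d1 • b1 ∈ blk d2 b2 := by
    rcases K.act (h * d1) (mul_mem hh K.d1m) with ⟨-, e2⟩ | ⟨e1, -⟩
    · exfalso
      rw [mul_smul, K.d12] at e2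
      have h2 : h • b2 ∈ blk d1 b1 := by
        rcases K.act h hh with ⟨e, -⟩ | ⟨-, e⟩
        · have h3 : h • b1 = 0 := K.indep two e h1
          exact absurd ((smul_eq_zero_iff_eq h).mp h3) K.b10
        · exact e
      have h3 : h • b2 = 0 := K.indep two h2 e2
      exact K.b20 ((smul_eq_zero_iff_eq h).mp h3)
    · rwa [mul_smul] at e1
  have hle : blk d1 b1 ≤ (blk d2 b2).comap (DistribSMul.toAddMonoidHom M h) := blk_le h1 key
  exact hle hm

theorem blk_eq [Finite M] {d : H} {b b' : M} (two : ∀ m : M, m + m = 0)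
    (hd : d • d • b = b + d • b) (hb : b ≠ 0) (hb' : b' ∈ blk d b) (hb0' : b' ≠ 0) :
    blk d b' = blk d b := by
  refine AddSubgroup.eq_of_le_of_card_ge (blk_le hb' (smul_mem_blk hd hb')) ?_
  rw [card_blk two hd hb, card_blk two (blk_sum two hd hb') hb0']

/-- `h d1 = d1 h` or `d1² h` on `D` for `h ∈ H1` with `h b1 ∈ B1` -/
theorem nor1 [Finite M] (K : T9 v0 a T H1 d1 d2 b1 b2) (two : ∀ m : M, m + m = 0) {h : H} (hh : h ∈ H1)
    (h1 : h • b1 ∈ blk d1 b1) : (∀ m ∈ sp H1 v0, h • d1 • m = d1 • h • m) ∨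
      (∀ m ∈ sp H1 v0, h • d1 • m = d1 • d1 • h • m) := by
  have hh0 : h • b1 ≠ 0 := fun e => K.b10 ((smul_eq_zero_iff_eq h).mp e)
  have h2 : h • b2 ∈ blk d2 b2 := by
    rcases K.act h hh with ⟨-, e⟩ | ⟨e, -⟩
    · exact e
    · exact absurd (K.indep two h1 e) hh0
  have hm1 : h • d1 • b1 ∈ blk d1 b1 := K.map1 two hh h1 (smul_mem_blk' d1 b1)
  have hne : h • d1 • b1 ≠ h • b1 := by
    intro e
    exact K.b10 (blk_fixed two K.d11 (self_mem_blk d1 b1) (smul_left_cancel h e))
  have hs := blk_sum two K.d11 h1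
  -- extension from `b1`
  have ext : ∀ e : H, (∀ m ∈ blk d2 b2, e • m = m) → (e • d1 = d1 • e) →
      h • d1 • b1 = e • h • b1 → ∀ m ∈ sp H1 v0, h • d1 • m = e • h • m := by
    intro e he hed heb m hm
    rw [K.sp_eq two] at hm
    obtain ⟨p, hp, q, hq, rfl⟩ := AddSubgroup.mem_sup.mp hm
    have hq' : h • q ∈ blk d2 b2 := K.symm.map1 two hh h2 hq
    have hp' : h • d1 • p = e • h • p := by
      have hedm : ∀ n : M, e • d1 • n = d1 • e • n := by
        intro n
        have : e * d1 = d1 * e := hed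
        rw [← mul_smul, this, mul_smul]
      have hd1b : h • d1 • d1 • b1 = e • h • d1 • b1 := by
        rw [K.d11, smul_add, heb]
        have h5 : e • e • h • b1 = h • b1 + e • h • b1 := by
          rcases (exists_pow_of_mem_blk two K.d11 h1 hh0) with ⟨i, -, hi⟩
          rcases (exists_pow_of_mem_blk two K.d11 hm1 (fun z => K.b10
            ((smul_eq_zero_iff_eq d1).mp ((smul_eq_zero_iff_eq h).mp z)))) with ⟨j, -, hj⟩
          -- `h • b1`, `e • h • b1` are different nonzero elements of `B1`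
          have h6 : e • h • b1 = d1 • h • b1 ∨ e • h • b1 = d1 • d1 • h • b1 := by
            rw [← heb]
            have h7 : h • d1 • b1 ∈ blk d1 (h • b1) := by
              rw [blk_eq two K.d11 K.b10 h1 hh0]
              exact hm1
            rcases (mem_blk two).mp h7 with z | z | z | z
            · exact absurd ((smul_eq_zero_iff_eq d1).mp ((smul_eq_zero_iff_eq h).mp z)) K.b10
            · exact absurd z hne
            · exact Or.inl z
            · right; rw [z, hs]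
          rcases h6 with h6 | h6
          · rw [h6, hedm, h6, hs]
          · rw [h6, hedm, hedm, h6, K.cube1 two (smul_mem_blk K.d11 h1), hs, ← add_assoc, two,
              zero_add]
        rw [h5]
      rcases (mem_blk two).mp hp with rfl | rfl | rfl | rfl
      · simp
      · exact heb
      · exact hd1b
      · rw [smul_add d1, smul_add h, smul_add h, smul_add e, hd1b, heb]
    rw [smul_add, smul_add, smul_add, smul_add, hp', K.triv2 hq, he _ hq']
  have h7 : h • d1 • b1 ∈ blk d1 (h • b1) := by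
    rw [blk_eq two K.d11 K.b10 h1 hh0]
    exact hm1
  rcases (mem_blk two).mp h7 with z | z | z | z
  · exact absurd ((smul_eq_zero_iff_eq d1).mp ((smul_eq_zero_iff_eq h).mp z)) K.b10
  · exact absurd z hne
  · left
    exact ext d1 (fun m hm => K.triv2 hm) rfl z
  · right
    rw [← hs] at z
    intro m hm
    have h9 := ext (d1 * d1) (fun m hm => by rw [mul_smul, K.triv2 hm, K.triv2 hm])
      (show d1 * d1 * d1 = d1 * (d1 * d1) from mul_assoc _ _ _) (by rw [mul_smul]; exact z) m hm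
    rwa [mul_smul] at h9

/-- `a` inverts `d1` on `D` -/
theorem inv1 (K : T9 v0 a T H1 d1 d2 b1 b2) (c : Ctx v0 a T) {m : M} (hm : m ∈ sp H1 v0) :
    a • d1 • m = d1 • d1 • a • m := by
  have ha1 : a • b1 = b1 := c.fix_br K.b1m
  have ha2 : a • b2 = b2 := c.fix_br K.b2m
  have hm' := hm
  rw [K.sp_eq c.two] at hm'
  obtain ⟨p, hp, q, hq, rfl⟩ := AddSubgroup.mem_sup.mp hm'
  have hapq : a • q ∈ blk d2 b2 := by
    have hle : blk d2 b2 ≤ (blk d2 b2).comap (DistribSMul.toAddMonoidHom M a) := by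
      refine blk_le ?_ ?_
      · show a • b2 ∈ blk d2 b2
        rw [ha2]
        exact self_mem_blk d2 b2
      · show a • d2 • b2 ∈ blk d2 b2
        rw [K.a2]
        exact smul_mem_blk K.d22 (smul_mem_blk' d2 b2)
    exact hle hq
  have hp' : a • d1 • p = d1 • d1 • a • p := by
    have hd : a • d1 • d1 • b1 = d1 • b1 := by
      rw [← K.a1, ← mul_smul, c.sq, one_smul]
    rcases (mem_blk c.two).mp hp with rfl | rfl | rfl | rfl
    · simp
    · rw [ha1, K.a1]
    · rw [hd, K.a1, K.cube1 c.two (smul_mem_blk' d1 b1)]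
    · simp only [smul_add]
      rw [ha1, K.a1, hd, K.cube1 c.two (smul_mem_blk' d1 b1)]
  rw [smul_add, smul_add, smul_add, smul_add, smul_add, hp', K.triv2 hq, K.triv2 hapq,
    K.triv2 hapq]

/-- `C_D(a) = [M,a]` -/
theorem fixed (K : T9 v0 a T H1 d1 d2 b1 b2) (c : Ctx v0 a T) {m : M} (hm : m ∈ sp H1 v0)
    (h : a • m = m) : m ∈ br M a := by
  rw [K.sp_eq c.two] at hm
  obtain ⟨p, hp, q, hq, rfl⟩ := AddSubgroup.mem_sup.mp hm
  have key : ∀ {e1 e2 : H} {c1 c2 : M}, T9 v0 a T H1 e1 e2 c1 c2 → ∀ r ∈ blk e1 c1,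
      a • r ∈ blk e1 c1 ∧ (a • r = r → r = 0 ∨ r = c1) := by
    intro e1 e2 c1 c2 K r hr
    have ha1 : a • c1 = c1 := c.fix_br K.b1m
    have hd : a • e1 • e1 • c1 = e1 • c1 := by
      rw [← K.a1, ← mul_smul, c.sq, one_smul]
    have hne : e1 • c1 = e1 • e1 • c1 → c1 = 0 := by
      intro e
      exact blk_fixed c.two K.d11 (self_mem_blk e1 c1) (smul_left_cancel e1 e).symm
    rcases (mem_blk c.two).mp hr with rfl | rfl | rfl | rfl
    · exact ⟨by simp [zero_mem], fun _ => Or.inl rfl⟩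
    · exact ⟨by rw [ha1]; exact self_mem_blk e1 r, fun _ => Or.inr rfl⟩
    · refine ⟨by rw [K.a1]; exact smul_mem_blk K.d11 (smul_mem_blk' e1 c1), fun e => ?_⟩
      rw [K.a1] at e
      exact absurd (hne e.symm) K.b10
    · rw [← K.d11]
      refine ⟨by rw [hd]; exact smul_mem_blk' e1 c1, fun e => ?_⟩
      rw [hd] at e
      exact absurd (hne e) K.b10
  obtain ⟨h1, h2⟩ := key K p hp
  obtain ⟨h3, h4⟩ := key K.symm q hq
  rw [smul_add] at h
  obtain ⟨e1, e2⟩ := K.uniq c.two h1 h3 hp hq h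
  refine add_mem ?_ ?_
  · rcases h2 e1 with e | e
    · rw [e]; exact zero_mem _
    · rw [e]; exact K.b1m
  · rcases h4 e2 with e | e
    · rw [e]; exact zero_mem _
    · rw [e]; exact K.b2m

end T9

end Cfsg.Agent.Omega.NO3S.Fit.Abs

end

section


/-!
# Text #13963 (helper311), section 6, module part: the type `5 : 4` in the full family

* `fpf_five` : an element `d ≠ 1` of order 5 on `M` of order 16 is fixed point free; `cent_semireg` : so the elements of
  `C_H(d)` are semiregular;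
* `top_of_card_le` : `|M| ≤ 32`, `F` a normal `p`-group normalizing `⟨d⟩`, `d ∈ F`, `|[M,d]| = 16`, then `[M,d] = M` and
  `F = ⟨d⟩` is normal;
* `card_eq_twenty` : `|H| = 20`.
-/

set_option autoImplicit false
set_option linter.unusedSectionVars false

open scoped Pointwise

namespace Cfsg.Agent.Omega.NO3S.Fit.Abs

open Subgroup

variable {H M : Type*} [Group H] [AddCommGroup M] [DistribMulAction H M]

/-- orbits of a group of order 5 generated by `d` on an invariant set without fixed points -/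
theorem five_dvd_of_free [Finite M] {d : H} (hd : d ^ 5 = 1) {N : Set M} (hN : ∀ m ∈ N, d • m ∈ N)
    (hf : ∀ m ∈ N, d • m ≠ m) : 5 ∣ N.ncard := by
  classical
  have hfact : Fact (Nat.Prime 5) := ⟨by norm_num⟩
  have hpow : ∀ (k : ℕ) (m : M), m ∈ N → d ^ k • m ∈ N := by
    intro k
    induction k with
    | zero => intro m hm; simpa using hm
    | succ k ih =>
      intro m hm
      rw [pow_succ, mul_smul]
      exact ih _ (hN m hm)
  have hz : ∀ x ∈ zpowers d, ∃ k : ℕ, x = d ^ k := by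
    intro x hx
    have hfin : IsOfFinOrder d := isOfFinOrder_iff_pow_eq_one.mpr ⟨5, by norm_num, hd⟩
    obtain ⟨k, hk⟩ := (hfin.mem_powers_iff_mem_zpowers.mpr hx : x ∈ Submonoid.powers d)
    exact ⟨k, hk.symm⟩
  let _ : MulAction (zpowers d) N :=
    { smul := fun x m => ⟨(x : H) • (m : M), by
        obtain ⟨k, hk⟩ := hz x x.2
        rw [hk]; exact hpow k m m.2⟩
      one_smul := fun m => Subtype.ext (one_smul H (m : M))
      mul_smul := fun s t m => Subtype.ext (mul_smul (s : H) (t : H) (m : M)) }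
  have hP : IsPGroup 5 (zpowers d) := by
    rintro ⟨x, hx⟩
    obtain ⟨k, rfl⟩ := hz x hx
    refine ⟨1, Subtype.ext ?_⟩
    change (d ^ k) ^ 5 ^ 1 = 1
    rw [pow_one, ← pow_mul, mul_comm, pow_mul, hd, one_pow]
  have h1 := hP.card_modEq_card_fixedPoints N
  have h2 : IsEmpty (MulAction.fixedPoints (zpowers d) N) := by
    refine ⟨fun ⟨m, hm⟩ => hf m m.2 ?_⟩
    have := hm ⟨d, mem_zpowers d⟩
    exact congrArg Subtype.val this
  have h0 : Nat.card (MulAction.fixedPoints (zpowers d) N) = 0 := Nat.card_of_isEmpty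
  rw [h0] at h1
  have h3 : Nat.card N = N.ncard := rfl
  rw [h3] at h1
  exact (Nat.modEq_zero_iff_dvd).mp h1

theorem fx_card_cases [Finite M] (two : ∀ m : M, m + m = 0) {d : H} (hd : d ^ 5 = 1)
    (hM : Nat.card M = 16) (N : AddSubgroup M) (hN : ∀ m ∈ N, d • m ∈ N)
    (hf : ∀ m ∈ N, m ≠ 0 → d • m ≠ m) (h0 : ∃ m ∈ N, m ≠ 0) : N = ⊤ := by
  have hset : 5 ∣ ((N : Set M) \ {0}).ncard := by
    refine five_dvd_of_free hd ?_ ?_
    · rintro m ⟨hm, hm0⟩
      refine ⟨hN m hm, fun e => hm0 ?_⟩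
      have : d • m = d • (0 : M) := by rw [smul_zero]; exact e
      exact smul_left_cancel d this
    · rintro m ⟨hm, hm0⟩
      exact hf m hm hm0
  have h1 : ((N : Set M) \ {0}).ncard = Nat.card N - 1 := by
    rw [Set.ncard_sdiff_singleton_of_mem (zero_mem N)]
    rfl
  obtain ⟨k, hk⟩ := exists_card_two_pow two N
  have hdvd : Nat.card N ∣ 16 := by rw [← hM]; exact AddSubgroup.card_addSubgroup_dvd_card N
  rw [h1] at hset
  have hle := Nat.le_of_dvd (by norm_num) hdvd
  have hk4 : k ≤ 4 := by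
    rw [hk] at hle
    by_contra hcon
    push Not at hcon
    have : 2 ^ 5 ≤ 2 ^ k := Nat.pow_le_pow_right (by decide) hcon
    omega
  have hk0 : k ≠ 0 := by
    intro e
    obtain ⟨m, hm, hm0⟩ := h0
    rw [e, pow_zero] at hk
    have := AddSubgroup.card_eq_one.mp hk
    rw [this] at hm
    exact hm0 (by simpa using hm)
  have hk' : Nat.card N = 16 := by
    interval_cases k
    · exact absurd rfl hk0
    · rw [hk] at hset; omega
    · rw [hk] at hset; omega
    · rw [hk] at hset; omega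
    · rw [hk]; norm_num
  exact AddSubgroup.eq_top_of_card_eq N (by rw [hk', hM])

/-- an element `d ≠ 1` with `d ^ 5 = 1` is fixed point free on `M` of order 16 -/
theorem fpf_five [Finite M] [FaithfulSMul H M] (two : ∀ m : M, m + m = 0) {d : H} (hd : d ^ 5 = 1)
    (hd1 : d ≠ 1) (hM : Nat.card M = 16) {m : M} (hm : d • m = m) : m = 0 := by
  by_contra hm0
  have hodd : Odd (orderOf d) := by
    have h1 : orderOf d ∣ 5 := orderOf_dvd_of_pow_eq_one hd
    exact Odd.of_dvd_nat (by decide) h1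
  have hbr : br M d = ⊤ := by
    refine fx_card_cases two hd hM (br M d) (fun m hm => smul_mem_br_self hm) ?_ ?_
    · intro m hm hm0 e
      exact hm0 (br_inf_fx two hodd hm e)
    · by_contra hcon
      push Not at hcon
      apply ne_zero_of_br (M := M) hd1
      rw [eq_bot_iff]
      intro m hm
      exact hcon m hm
  exact hm0 (br_inf_fx two hodd (by rw [hbr]; trivial) hm)

/-- elements of `C_H(d)` are semiregular -/
theorem cent_semireg [Finite M] [FaithfulSMul H M] (two : ∀ m : M, m + m = 0) {d : H} (hd : d ^ 5 = 1)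
    (hd1 : d ≠ 1) (hM : Nat.card M = 16) {c : H} (hc : c * d = d * c) {m : M} (hm : c • m = m)
    (hm0 : m ≠ 0) : c = 1 := by
  have htop : fx M c = ⊤ := by
    refine fx_card_cases two hd hM (fx M c) ?_ (fun m _ hm0 e => hm0 (fpf_five two hd hd1 hM e)) ⟨m, hm, hm0⟩
    intro m hm
    change c • d • m = d • m
    rw [← mul_smul, hc, mul_smul, show c • m = m from hm]
  refine FaithfulSMul.eq_of_smul_eq_smul (α := M) fun m => ?_
  rw [one_smul]
  have : m ∈ fx M c := by rw [htop]; trivial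
  exact this

/-- the number of elements of a semiregular subgroup divides 15 -/
theorem card_dvd_fifteen [Finite M] [Finite H] (hM : Nat.card M = 16) {C : Subgroup H}
    (hs : ∀ c ∈ C, ∀ m : M, c • m = m → m ≠ 0 → c = 1) : Nat.card C ∣ 15 := by
  classical
  let N : Type _ := {m : M // m ≠ 0}
  let _ : MulAction C N :=
    { smul := fun x m => ⟨(x : H) • (m : M), fun e => m.2 (by
        have : (x : H) • (m : M) = (x : H) • (0 : M) := by rw [smul_zero]; exact e
        exact smul_left_cancel _ this)⟩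
      one_smul := fun m => Subtype.ext (one_smul H (m : M))
      mul_smul := fun s t m => Subtype.ext (mul_smul (s : H) (t : H) (m : M)) }
  have hN : Nat.card N = 15 := by
    have h1 : Nat.card N = ({0}ᶜ : Set M).ncard := rfl
    rw [h1, Set.ncard_compl, Set.ncard_singleton, hM]
  rw [← hN]
  have hfree : ∀ m : N, MulAction.stabilizer C m = ⊥ := by
    intro m
    rw [eq_bot_iff]
    intro c hc
    rw [mem_bot]
    exact Subtype.ext (hs c c.2 m (congrArg Subtype.val hc) m.2)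
  have e := MulAction.selfEquivSigmaOrbitsQuotientStabilizer C N
  have h2 : Nat.card N = Nat.card (Σ ω : MulAction.orbitRel.Quotient C N, C ⧸ MulAction.stabilizer C ω.out) :=
    Nat.card_congr e
  have hfinN : Finite N := inferInstance
  have hfinO : Finite (MulAction.orbitRel.Quotient C N) := inferInstance
  have hfO : Fintype (MulAction.orbitRel.Quotient C N) := Fintype.ofFinite _
  rw [h2, Nat.card_sigma]
  refine Finset.dvd_sum fun ω _ => ?_
  rw [hfree]
  have : Nat.card (C ⧸ (⊥ : Subgroup C)) = Nat.card C :=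
    Nat.card_congr (QuotientGroup.quotientBot (G := C)).toEquiv
  rw [this]

/-- **the type `5 : 4`** -/
theorem card_eq_twenty [Finite M] [Finite H] [FaithfulSMul H M] (two : ∀ m : M, m + m = 0)
    (hM : Nat.card M = 16) {a d : H} (ha : a * a = 1) (hd : d ^ 5 = 1) (hd1 : d ≠ 1)
    (hfa : 4 ≤ Nat.card (fx M a)) {v0 : M} (hv0 : v0 ≠ 0) (pl : ∀ f : H, f * a = a * f → f • v0 = v0)
    (hn : ∀ x : H, x * d * x⁻¹ ∈ zpowers d) (h2 : ∃ x : H, x * d * x⁻¹ = d ^ 2) : Nat.card H = 20 := by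
  classical
  set C := centralizer ({d} : Set H) with hC
  have hCm : ∀ {c : H}, c ∈ C ↔ c * d = d * c := fun {c} => mem_centralizer_singleton_iff
  have hsemi : ∀ c ∈ C, ∀ m : M, c • m = m → m ≠ 0 → c = 1 := fun c hc m hm hm0 =>
    cent_semireg two hd hd1 hM (hCm.mp hc) hm hm0
  have h15 := card_dvd_fifteen hM hsemi
  have hod : orderOf d = 5 := by
    have h1 : orderOf d ∣ 5 := orderOf_dvd_of_pow_eq_one hd
    rcases (Nat.dvd_prime (by norm_num)).mp h1 with e | e
    · exact absurd (orderOf_eq_one_iff.mp e) hd1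
    · exact e
  have hdC : d ∈ C := hCm.mpr rfl
  have h5 : 5 ∣ Nat.card C := by
    have h1 : Nat.card (zpowers d) ∣ Nat.card C := card_dvd_of_le (by rw [zpowers_le]; exact hdC)
    rwa [Nat.card_zpowers, hod] at h1
  -- `C` is abelian
  have hCab : ∀ x ∈ C, ∀ y ∈ C, x * y = y * x := by
    set D : Subgroup C := (zpowers d).subgroupOf C with hD
    have hDcent : D ≤ center C := by
      intro x hx
      rw [mem_center_iff]
      intro y
      obtain ⟨n, hn⟩ := mem_zpowers_iff.mp (mem_subgroupOf.mp hx)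
      apply Subtype.ext
      change (y : H) * x = x * y
      rw [← hn]
      exact ((show Commute (y : H) d from hCm.mp y.2).zpow_right n).eq
    have hDn : D.Normal := ⟨fun x hx g => by
      have := mem_center_iff.mp (hDcent hx) g
      rw [this, mul_inv_cancel_right]
      exact hx⟩
    have hcardD : Nat.card D = 5 := by
      have h1 : Nat.card D = Nat.card (zpowers d) :=
        Nat.card_congr (subgroupOfEquivOfLe (by rw [zpowers_le]; exact hdC)).toEquiv
      rw [h1, Nat.card_zpowers, hod]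
    have hq : Nat.card (C ⧸ D) ∣ 3 := by
      have h1 := Subgroup.card_eq_card_quotient_mul_card_subgroup D
      rw [hcardD] at h1
      rw [h1] at h15
      obtain ⟨k, hk⟩ := h15
      exact ⟨k, by
        have : (3 : ℕ) * 5 = (Nat.card (C ⧸ D) * k) * 5 := by rw [show (3 : ℕ) * 5 = 15 by norm_num, hk]; ring
        exact Nat.eq_of_mul_eq_mul_right (by norm_num) this⟩
    have hcyc : IsCyclic (C ⧸ D) := by
      rcases (Nat.dvd_prime (by norm_num)).mp hq with e | e
      · have : Subsingleton (C ⧸ D) := (Nat.card_eq_one_iff_unique.mp e).1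
        infer_instance
      · have hp3 : Fact (Nat.Prime 3) := ⟨by norm_num⟩
        exact isCyclic_of_prime_card (p := 3) e
    intro x hx y hy
    have := commutative_of_cyclic_center_quotient (QuotientGroup.mk' D)
      (by rw [QuotientGroup.ker_mk']; exact hDcent) ⟨x, hx⟩ ⟨y, hy⟩
    exact congrArg Subtype.val this
  -- `|C| = 5`
  have hC5 : Nat.card C = 5 := by
    obtain ⟨k, hk⟩ := h5
    have hk3 : k ∣ 3 := by
      rw [hk] at h15
      exact Nat.dvd_of_mul_dvd_mul_left (by norm_num : 0 < 5) (by simpa using h15)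
    rcases (Nat.dvd_prime (by norm_num)).mp hk3 with e | e
    · rw [hk, e]
    · exfalso
      have hc15 : Nat.card C = 15 := by rw [hk, e]
      have haC : ∀ c ∈ C, a * c * a ∈ C := by
        intro c hc
        have hai : a⁻¹ = a := inv_eq_of_mul_eq_one_left ha
        rw [hCm]
        obtain ⟨n, hn'⟩ := mem_zpowers_iff.mp (hn a)
        have hcc : c * d ^ n = d ^ n * c := ((show Commute c d from hCm.mp hc).zpow_right n).eq
        rw [hn'] at hcc
        rw [hai] at hcc
        calc a * c * a * d = a * (c * (a * d * a)) * a := by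
              have : a * (c * (a * d * a)) * a = a * c * a * d * (a * a) := by group
              rw [this, ha, mul_one]
          _ = a * ((a * d * a) * c) * a := by rw [hcc]
          _ = (a * a) * d * (a * c * a) := by group
          _ = d * (a * c * a) := by rw [ha, one_mul]
      have hinv : ∀ c ∈ C, c * (a * c * a) = 1 := by
        intro c hc
        have h1 : a * (c * (a * c * a)) = (c * (a * c * a)) * a := by
          have h3 := hCab c hc _ (haC c hc)
          calc a * (c * (a * c * a)) = (a * c * a) * c * a := by group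
            _ = (c * (a * c * a)) * a := by rw [h3]
        have h2 := pl _ h1.symm
        exact hsemi _ (mul_mem hc (haC c hc)) v0 h2 hv0
      -- `C` is transitive on the nonzero vectors; `a` fixes only one of them
      have hcard : Nat.card (fx M a) ≤ 2 := by
        -- pick a nonzero fixed vector `m`
        obtain ⟨m, hm, hm0⟩ : ∃ m ∈ fx M a, m ≠ 0 := by
          by_contra hcon
          push Not at hcon
          have : fx M a = ⊥ := by rw [eq_bot_iff]; exact fun m hm => hcon m hm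
          rw [this, AddSubgroup.card_bot] at hfa
          omega
        -- every nonzero vector is `c • m`
        have htrans : ∀ n : M, n ≠ 0 → ∃ c ∈ C, c • m = n := by
          have h1 : Set.ncard ((fun c : H => c • m) '' (C : Set H)) = 15 := by
            rw [Set.ncard_image_of_injOn]
            · rw [← hc15]; rfl
            · intro x hx y hy e
              have h4 : (y⁻¹ * x) • m = m := by
                rw [mul_smul]
                change y⁻¹ • (x • m) = m
                have e' : x • m = y • m := e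
                rw [e', inv_smul_smul]
              have := hsemi _ (mul_mem (inv_mem hy) hx) m h4 hm0
              exact (inv_mul_eq_one.mp this).symm
          have h3 : ({0}ᶜ : Set M).ncard = 15 := by
            rw [Set.ncard_compl, Set.ncard_singleton, hM]
          have h5 : (fun c : H => c • m) '' (C : Set H) = ({0}ᶜ : Set M) := by
            refine Set.eq_of_subset_of_ncard_le ?_ (by rw [h1, h3]) (Set.toFinite _)
            rintro _ ⟨c, -, rfl⟩
            intro e
            apply hm0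
            have : c • m = c • (0 : M) := by rw [smul_zero]; exact e
            exact smul_left_cancel c this
          intro n hn0
          have : n ∈ (fun c : H => c • m) '' (C : Set H) := by rw [h5]; exact hn0
          exact this
        have hle : (fx M a : Set M) ⊆ {0, m} := by
          intro n hn'
          by_cases hn0 : n = 0
          · exact Or.inl hn0
          right
          obtain ⟨c, hc, rfl⟩ := htrans n hn0
          have hac : a * c * a = c⁻¹ := (inv_eq_of_mul_eq_one_right (hinv c hc)).symm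
          have h6 : a • c • m = c⁻¹ • m := by
            have h7 : a • m = m := hm
            calc a • c • m = a • c • a • m := by rw [h7]
              _ = (a * c * a) • m := by rw [mul_smul, mul_smul]
              _ = c⁻¹ • m := by rw [hac]
          have h8 : a • c • m = c • m := hn'
          have h9 : (c * c) • m = m := by
            rw [mul_smul, ← h8, h6, smul_inv_smul]
          have h10 := hsemi _ (mul_mem hc hc) m h9 hm0
          have h11 : c = 1 := by
            have h12 : orderOf c ∣ 2 := orderOf_dvd_of_pow_eq_one (by rw [pow_two]; exact h10)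
            have h13 : orderOf c ∣ 15 := by
              rw [← hc15]
              have := orderOf_dvd_natCard (⟨c, hc⟩ : C)
              rwa [Subgroup.orderOf_mk] at this
            have h14 : orderOf c ∣ 1 := by
              have : Nat.gcd 2 15 = 1 := by norm_num
              rw [← this]
              exact Nat.dvd_gcd h12 h13
            exact orderOf_eq_one_iff.mp (Nat.dvd_one.mp h14)
          rw [h11, one_smul]
          rfl
        have : (fx M a : Set M).ncard ≤ 2 := by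
          refine (Set.ncard_le_ncard hle (Set.toFinite _)).trans ?_
          refine (Set.ncard_insert_le _ _).trans ?_
          rw [Set.ncard_singleton]
        exact this
      omega
  -- the index of `C` is 4: the class of `d` is `{d, d², d³, d⁴}`
  obtain ⟨x, hx⟩ := h2
  have hxk : ∀ k : ℕ, x * d ^ k * x⁻¹ = d ^ (2 * k) := by
    intro k
    rw [← conj_pow, hx, ← pow_mul]
  let f : H → H := fun g => g * d * g⁻¹
  have hrange : Set.range f = {y | y ∈ zpowers d ∧ y ≠ 1} := by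
    ext y
    constructor
    · rintro ⟨g, rfl⟩
      exact ⟨hn g, fun e => hd1 (conj_eq_one_iff.mp e)⟩
    · rintro ⟨hy, hy1⟩
      have hfin : IsOfFinOrder d := isOfFinOrder_iff_pow_eq_one.mpr ⟨5, by norm_num, hd⟩
      obtain ⟨k, hk⟩ := (mem_zpowers_iff_mem_range_orderOf).mp hy |> Finset.mem_image.mp
      obtain ⟨hk5, hk⟩ := hk
      rw [hod, Finset.mem_range] at hk5
      have e1 : x * d * x⁻¹ = d ^ 2 := hx
      have e2 : x * x * d * (x * x)⁻¹ = d ^ 4 := by
        calc x * x * d * (x * x)⁻¹ = x * (x * d * x⁻¹) * x⁻¹ := by group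
          _ = d ^ 4 := by rw [hx, hxk 2]
      have e3 : x * x * x * d * (x * x * x)⁻¹ = d ^ 3 := by
        calc x * x * x * d * (x * x * x)⁻¹ = x * (x * x * d * (x * x)⁻¹) * x⁻¹ := by group
          _ = d ^ 8 := by rw [e2, hxk 4]
          _ = d ^ 5 * d ^ 3 := by rw [← pow_add]
          _ = d ^ 3 := by rw [hd, one_mul]
      interval_cases k
      · exact absurd (by rw [← hk]; simp) hy1
      · exact ⟨1, by rw [← hk]; simp [f]⟩
      · exact ⟨x, by rw [← hk]; exact e1⟩
      · exact ⟨x * x * x, by rw [← hk]; exact e3⟩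
      · exact ⟨x * x, by rw [← hk]; exact e2⟩
  have hcard4 : Set.ncard (Set.range f) = 4 := by
    rw [hrange]
    have h6 : {y | y ∈ zpowers d ∧ y ≠ 1} = (zpowers d : Set H) \ {1} := rfl
    have h7 : (zpowers d : Set H).ncard = 5 := by
      have : (zpowers d : Set H).ncard = Nat.card (zpowers d) := rfl
      rw [this, Nat.card_zpowers, hod]
    rw [h6, Set.ncard_sdiff_singleton_of_mem (one_mem (zpowers d)), h7]
  have hidx : C.index = 4 := by
    rw [← hcard4]
    -- `H ⧸ C ≃ range f`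
    let F : H ⧸ C → Set.range f := Quotient.lift (fun g => (⟨f g, g, rfl⟩ : Set.range f)) (by
      intro g g' hg
      apply Subtype.ext
      have h8 : g⁻¹ * g' ∈ C := QuotientGroup.leftRel_apply.mp hg
      have h9 := hCm.mp h8
      change g * d * g⁻¹ = g' * d * g'⁻¹
      calc g * d * g⁻¹ = g * (d * (g⁻¹ * g')) * g'⁻¹ := by group
        _ = g * ((g⁻¹ * g') * d) * g'⁻¹ := by rw [h9]
        _ = g' * d * g'⁻¹ := by group)
    have hF : Function.Bijective F := by
      constructor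
      · intro u v
        induction u using Quotient.inductionOn with
        | h g =>
          induction v using Quotient.inductionOn with
          | h g' =>
            intro e
            have e1 : g * d * g⁻¹ = g' * d * g'⁻¹ := congrArg Subtype.val e
            apply Quotient.sound
            apply QuotientGroup.leftRel_apply.mpr
            rw [hCm]
            calc g⁻¹ * g' * d = g⁻¹ * (g' * d * g'⁻¹) * g' := by group
              _ = g⁻¹ * (g * d * g⁻¹) * g' := by rw [e1]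
              _ = d * (g⁻¹ * g') := by group
      · rintro ⟨_, g, rfl⟩
        exact ⟨QuotientGroup.mk g, rfl⟩
    have h10 : Nat.card (H ⧸ C) = Nat.card (Set.range f) := Nat.card_congr (Equiv.ofBijective F hF)
    exact h10
  have hfinal := C.card_mul_index
  rw [hC5, hidx] at hfinal
  omega

/-- `|M| ≤ 32`: `M = [M,d]` and `F = ⟨d⟩` is normal -/
theorem top_of_card_le [Finite M] [Finite H] [FaithfulSMul H M] (two : ∀ m : M, m + m = 0)
    (hM : Nat.card M ≤ 32) {F : Subgroup H} {d : H} (hd : d ^ 5 = 1) (hd1 : d ≠ 1)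
    (hbr : Nat.card (br M d) = 16) (hdF : d ∈ F) (hF : IsPGroup 5 F) (hFn : F.Normal)
    (hFd : ∀ f ∈ F, f * d * f⁻¹ ∈ zpowers d) {v0 : M} (hv0 : v0 ∈ br M d)
    (span : AddSubgroup.closure (Set.range fun x : H => x • v0) = ⊤) :
    br M d = ⊤ ∧ F = zpowers d := by
  classical
  have hfact : Fact (Nat.Prime 5) := ⟨by norm_num⟩
  have hodd : Odd (orderOf d) := by
    have h1 : orderOf d ∣ 5 := orderOf_dvd_of_pow_eq_one hd
    exact Odd.of_dvd_nat (by decide) h1
  have hod : orderOf d = 5 := by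
    have h1 : orderOf d ∣ 5 := orderOf_dvd_of_pow_eq_one hd
    rcases (Nat.dvd_prime (by norm_num)).mp h1 with e | e
    · exact absurd (orderOf_eq_one_iff.mp e) hd1
    · exact e
  have hFodd : ∀ f ∈ F, Odd (orderOf f) := fun f hf =>
    odd_orderOf_of_isPGroup (by norm_num : Nat.Prime 5) (by norm_num) hF hf
  -- `|C_M(d)| ≤ 2`
  have hfx : Nat.card (fx M d) ≤ 2 := by
    have h1 : Nat.card (br M d) * Nat.card (fx M d) ≤ Nat.card M := by
      rw [← Nat.card_prod]
      refine Nat.card_le_card_of_injective (fun p : br M d × fx M d => (p.1 : M) + p.2) ?_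
      rintro ⟨⟨p, hp⟩, ⟨q, hq⟩⟩ ⟨⟨p', hp'⟩, ⟨q', hq'⟩⟩ e
      have e' : p + q = p' + q' := e
      have h2 : p - p' = q' - q := by
        rw [sub_eq_sub_iff_add_eq_add, e', add_comm]
      have h3 : p - p' = 0 := br_inf_fx two hodd (sub_mem hp hp') (by
        rw [h2]
        exact sub_mem hq' hq)
      have h4 : p = p' := sub_eq_zero.mp h3
      have h5 : q = q' := by rw [h4] at e'; exact add_left_cancel e'
      subst h4; subst h5; rfl
    rw [hbr] at h1
    omega
  -- `F` normalizes `⟨d⟩`, acts on `C_M(d)`, trivially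
  have hz : ∀ f ∈ F, ∀ m ∈ fx M d, f • m ∈ fx M d := by
    intro f hf m hm
    obtain ⟨n, hn⟩ := mem_zpowers_iff.mp (hFd f⁻¹ (inv_mem hf))
    rw [inv_inv] at hn
    have h1 : (d ^ n) • m = m := by
      have h3 : d ∈ MulAction.stabilizer H m := hm
      exact (MulAction.stabilizer H m).zpow_mem h3 n
    change d • f • m = f • m
    calc d • f • m = f • (f⁻¹ * d * f) • m := by rw [← mul_smul, ← mul_smul]; congr 1; group
      _ = f • m := by rw [← hn, h1]
  have htriv : ∀ f ∈ F, ∀ m ∈ fx M d, f • m = m := by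
    intro f hf m hm
    by_cases hm0 : m = 0
    · rw [hm0, smul_zero]
    have h1 : (fx M d : Set M) = {0, m} := by
      refine (Set.eq_of_subset_of_ncard_le ?_ ?_ (Set.toFinite _)).symm
      · rintro x (rfl | rfl)
        · exact zero_mem _
        · exact hm
      · rw [Set.ncard_pair (Ne.symm hm0)]
        exact hfx
    have h2 : f • m ∈ (fx M d : Set M) := hz f hf m hm
    rw [h1] at h2
    rcases h2 with e | e
    · exfalso
      apply hm0
      have : f • m = f • (0 : M) := by rw [smul_zero]; exact e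
      exact smul_left_cancel f this
    · exact e
  have hinto : ∀ f ∈ F, br M f ≤ br M d := by
    intro f hf
    rintro _ ⟨m, rfl⟩
    obtain ⟨u, hu, c, hc, rfl⟩ := exists_decomp two hodd m
    rw [smul_add, htriv f hf c hc, add_sub_add_right_eq_sub]
    refine sub_mem ?_ hu
    have h3 := smul_mem_br_conj f hu
    obtain ⟨n, hn⟩ := mem_zpowers_iff.mp (hFd f hf)
    rw [← hn] at h3
    exact br_zpow_le d n h3
  have hFcard : Nat.card F ∣ 20160 :=
    (card_dvd_addAut two hinto hFodd).trans (card_addAut_dvd two (by rw [hbr]))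
  have hFz : F = zpowers d := by
    obtain ⟨n, hn⟩ := IsPGroup.iff_card.mp hF
    have hn1 : n ≤ 1 := by
      by_contra hcon
      push Not at hcon
      have h1 : 5 ^ 2 ∣ 5 ^ n := pow_dvd_pow 5 hcon
      have h2 : 5 ^ 2 ∣ 20160 := h1.trans (hn ▸ hFcard)
      norm_num at h2
    have hle : zpowers d ≤ F := by rw [zpowers_le]; exact hdF
    refine (eq_of_le_of_card_ge hle ?_).symm
    rw [Nat.card_zpowers, hod, hn]
    calc 5 ^ n ≤ 5 ^ 1 := Nat.pow_le_pow_right (by norm_num) hn1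
      _ = 5 := by norm_num
  refine ⟨?_, hFz⟩
  rw [eq_top_iff, ← span, AddSubgroup.closure_le]
  rintro _ ⟨x, rfl⟩
  have h1 : x * d * x⁻¹ ∈ zpowers d := by
    rw [← hFz]
    exact hFn.conj_mem d hdF x
  have h2 := smul_mem_br_conj x hv0
  obtain ⟨n, hn⟩ := mem_zpowers_iff.mp h1
  rw [← hn] at h2
  exact br_zpow_le d n h2

end Cfsg.Agent.Omega.NO3S.Fit.Abs

end

section


/-!
# NO-3S, `q = 2`, `n = 1` (helper311's text #13963), section 6: `|K_z| ≤ 64` for the type `T5`

From `K_z ∩ K_y = E` of order 8 (section 4) and the structure of the type `T5` on `M` of order 16: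
* an element of `H` which fixes `C_M(a)` pointwise is `1` or `a`; so `|K_y : K_y ∩ Q_z| ≤ 2`;
* `(K_y ∩ Q_z)/E` embeds into `Hom(W_z/E, ⟨z⟩)` of order 4.
-/

set_option autoImplicit false
set_option linter.unusedSectionVars false

namespace Cfsg.Agent.Omega.NO3S.Fit

open Subgroup Cfsg Cfsg.Agent.ZN Cfsg.Agent.MinSimple.Geo Cfsg.Agent.Omega.CaseL
open Cfsg.Agent.ZN.Block (conj_mem_of_normalizer conj_mem_of_normalizer' le_normalizer_of_forall
  mem_normalizer_of)

universe u

namespace Abs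

variable {H M : Type*} [Group H] [AddCommGroup M] [DistribMulAction H M]

/-- `C_M(a) = [M,a]` has order 4 -/
theorem fix_four [Finite M] [FaithfulSMul H M] (two : ∀ m : M, m + m = 0) (hM : Nat.card M = 16)
    {a d : H} (ha : a * a = 1) (hd : d ^ 5 = 1) (hd1 : d ≠ 1) (hi : a * d * a⁻¹ = d⁻¹) :
    Nat.card (fx M a) = 4 ∧ ∀ m ∈ fx M a, ∃ n : M, a • n - n = m := by
  have hodd : Odd (orderOf d) := by
    have h1 : orderOf d ∣ 5 := orderOf_dvd_of_pow_eq_one hd
    exact Odd.of_dvd_nat (by decide) h1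
  have hfx : fx M d = ⊥ := by
    rw [eq_bot_iff]
    intro m hm
    exact fpf_five two hd hd1 hM hm
  have hbr : br M d = ⊤ := by
    have := sup_br_fx two hodd (M := M)
    rwa [hfx, sup_bot_eq] at this
  obtain ⟨h1, h2⟩ := card_br_eq (M := M) two ha hodd hi
  have h3 : cx M a d = fx M a := by rw [cx, hbr, top_inf_eq]
  rw [h3, hbr] at h1
  have h4 : Nat.card (⊤ : AddSubgroup M) = 16 := by
    rw [AddSubgroup.card_top]; exact hM
  rw [h4] at h1
  refine ⟨?_, fun m hm => ?_⟩
  · nlinarith [h1]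
  · have hm' : m ∈ cx M a d := by rw [h3]; exact hm
    obtain ⟨n, -, hn⟩ := cx_le_br two ha hodd hi hm'
    exact ⟨n, hn⟩

/-- an element which fixes `C_M(a)` pointwise, commutes with `a` and normalizes `⟨d⟩` is `1` or `a` -/
theorem eq_of_fix [Finite M] [FaithfulSMul H M] (two : ∀ m : M, m + m = 0) (hM : Nat.card M = 16)
    {a d : H} (ha : a * a = 1) (hd : d ^ 5 = 1) (hd1 : d ≠ 1) (hi : a * d * a⁻¹ = d⁻¹)
    {s : H} (hs : ∀ m ∈ fx M a, s • m = m) (hsa : s * a = a * s) {i : ℕ} (hsd : s * d * s⁻¹ = d ^ i)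
    {v0 : M} (hv0 : v0 ≠ 0) (hav : a • v0 = v0) : s = 1 ∨ s = a := by
  obtain ⟨-, -⟩ := fix_four (M := M) two hM ha hd hd1 hi
  have hsq : s * s = 1 := by
    refine FaithfulSMul.eq_of_smul_eq_smul (α := M) fun m => ?_
    rw [one_smul, mul_smul]
    -- `a m - m` is fixed by `s`
    have h1 : a • m - m ∈ fx M a := by
      change a • (a • m - m) = a • m - m
      rw [smul_sub, ← mul_smul, ha, one_smul, sub_eq two, sub_eq two, add_comm]
    have h2 := hs _ h1
    have h3 : s • m - m ∈ fx M a := by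
      change a • (s • m - m) = s • m - m
      rw [smul_sub, ← mul_smul, ← hsa, mul_smul]
      rw [smul_sub] at h2
      -- `s a m - s m = a m - m`
      have : s • a • m - a • m = s • m - m := by
        rw [sub_eq_sub_iff_add_eq_add] at h2 ⊢
        calc s • a • m + m = a • m + s • m := h2
          _ = s • m + a • m := add_comm _ _
      exact this
    have h4 := hs _ h3
    rw [smul_sub] at h4
    have h5 : s • s • m = (s • s • m - s • m) + (s • m - m) + m := by abel
    rw [h5, h4, two, zero_add]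
  have hpow : ∀ k : ℕ, s * d ^ k * s⁻¹ = d ^ (i * k) := by
    intro k
    rw [← conj_pow, hsd, ← pow_mul]
  have hii : d ^ (i * i) = d := by
    rw [← hpow i, ← hsd]
    calc s * (s * d * s⁻¹) * s⁻¹ = (s * s) * d * (s * s)⁻¹ := by group
      _ = d := by rw [hsq]; group
  have hod : orderOf d = 5 := by
    have h1 : orderOf d ∣ 5 := orderOf_dvd_of_pow_eq_one hd
    rcases (Nat.dvd_prime (by norm_num)).mp h1 with e | e
    · exact absurd (orderOf_eq_one_iff.mp e) hd1
    · exact e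
  have hmod : i * i ≡ 1 [MOD 5] := by
    have : d ^ (i * i) = d ^ 1 := by rw [hii, pow_one]
    rw [pow_eq_pow_iff_modEq, hod] at this
    exact this
  have hi5 : i % 5 = 1 ∨ i % 5 = 4 := by
    have h1 : (i % 5) * (i % 5) % 5 = 1 := by
      have := hmod
      unfold Nat.ModEq at this
      rw [Nat.mul_mod] at this
      simpa using this
    have h2 : i % 5 < 5 := Nat.mod_lt _ (by norm_num)
    interval_cases h : i % 5 <;> simp_all
  have hred : d ^ i = d ^ (i % 5) := by
    rw [← hod, pow_mod_orderOf]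
  rw [hred] at hsd
  have hsv : s • v0 = v0 := hs _ hav
  rcases hi5 with e | e
  · left
    rw [e, pow_one] at hsd
    exact cent_semireg two hd hd1 hM (mul_inv_eq_iff_eq_mul.mp hsd) hsv hv0
  · right
    rw [e] at hsd
    have hd4 : d ^ 4 = d⁻¹ := by
      rw [eq_inv_iff_mul_eq_one, ← pow_succ]; exact hd
    rw [hd4] at hsd
    have h1 : (s * a) * d = d * (s * a) := by
      have h2 : s * a * d * (s * a)⁻¹ = d := by
        calc s * a * d * (s * a)⁻¹ = s * (a * d * a⁻¹) * s⁻¹ := by group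
          _ = (s * d * s⁻¹)⁻¹ := by rw [hi]; group
          _ = d := by rw [hsd, inv_inv]
      exact mul_inv_eq_iff_eq_mul.mp h2
    have h3 : (s * a) • v0 = v0 := by rw [mul_smul, hav, hsv]
    have h4 := cent_semireg two hd hd1 hM h1 h3 hv0
    calc s = s * a * a := by rw [mul_assoc, ha, mul_one]
      _ = a := by rw [h4, one_mul]

end Abs

theorem card_le_two_mul {G : Type*} [Group G] [Finite G] {K L : Subgroup G}
    (hx : ∀ k ∈ L, k ∉ K → ∀ k' ∈ L, k' ∉ K → k * k'⁻¹ ∈ K) : Nat.card L ≤ 2 * Nat.card K := by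
  by_cases hKL : L ≤ K
  · have : Nat.card L ≤ Nat.card K := Subgroup.card_le_of_le hKL
    omega
  obtain ⟨k0, hk0, hk0'⟩ := Set.not_subset.mp hKL
  have h1 : (L : Set G) ⊆ (K : Set G) ∪ (fun x => x * k0) '' (K : Set G) := by
    intro k hk
    by_cases hkK : k ∈ K
    · exact Or.inl hkK
    · exact Or.inr ⟨k * k0⁻¹, hx k hk hkK k0 hk0 hk0', by group⟩
  have h2 : (L : Set G).ncard ≤ ((K : Set G) ∪ (fun x => x * k0) '' (K : Set G)).ncard :=
    Set.ncard_le_ncard h1 (Set.toFinite _)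
  have h3 := Set.ncard_union_le (K : Set G) ((fun x => x * k0) '' (K : Set G))
  have h4 : ((fun x => x * k0) '' (K : Set G)).ncard ≤ (K : Set G).ncard := Set.ncard_image_le (Set.toFinite _)
  have h5 : (L : Set G).ncard = Nat.card L := rfl
  have h6 : (K : Set G).ncard = Nat.card K := rfl
  omega

variable {G : Type u} [Group G] {T V : Subgroup G} {z : G} {cf : G → Subgroup G}
variable {M H : Type u} [AddCommGroup M] [Group H] [DistribMulAction H M]

namespace MRep

/-- `|W_z| = 2 |M|` -/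
theorem card_ww [Finite G] (R : MRep V cf z M H) (h : Fam T V z cf) :
    Nat.card (ww V cf z) = 2 * Nat.card M := by
  let f : ww V cf z →* Multiplicative M :=
    { toFun := fun w => Multiplicative.ofAdd (R.pi w)
      map_one' := by
        change Multiplicative.ofAdd (R.pi 1) = 1
        rw [R.pi_one h]; rfl
      map_mul' := fun a b => by
        change Multiplicative.ofAdd (R.pi (a * b)) = _
        rw [R.pi_mul a a.2 b b.2]; rfl }
  have hf : Function.Surjective f := by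
    intro m
    obtain ⟨w, hw, e⟩ := R.pi_surj (Multiplicative.toAdd m)
    exact ⟨⟨w, hw⟩, congrArg Multiplicative.ofAdd e⟩
  have h1 := f.ker.card_mul_index
  rw [index_ker, MonoidHom.range_eq_top.mpr hf] at h1
  have h2 : Nat.card (⊤ : Subgroup (Multiplicative M)) = Nat.card M := by
    rw [Subgroup.card_top]; rfl
  have h3 : Nat.card f.ker = 2 := by
    have h4 : ((f.ker : Subgroup (ww V cf z)) : Set (ww V cf z)) = {1, ⟨z, h.z_mem_ww⟩} := by
      ext w
      rw [SetLike.mem_coe, MonoidHom.mem_ker]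
      constructor
      · intro e
        rcases (R.pi_ker w w.2).mp (Multiplicative.ofAdd.injective e) with e | e
        · exact Or.inl (Subtype.ext e)
        · exact Or.inr (Subtype.ext e)
      · rintro (rfl | rfl)
        · exact map_one f
        · change Multiplicative.ofAdd (R.pi z) = 1
          rw [R.pi_z h]; rfl
    have h5 : Nat.card f.ker = ((f.ker : Subgroup (ww V cf z)) : Set (ww V cf z)).ncard := rfl
    rw [h5, h4, Set.ncard_pair]
    intro e
    exact h.ln.z_ne (congrArg Subtype.val e).symm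
  rw [h3, h2] at h1
  exact h1.symm

/-- **`|K_z| ≤ 64`** -/
theorem card_kk_le [Finite G] [Finite M] [Finite H] [FaithfulSMul H M] (R : MRep V cf z M H)
    (h : Fam T V z cf) (hk : Fam.One1 V cf) {y : G} (hy : y ∈ V) (hy1 : y ≠ 1) (hyz : y ≠ z)
    (card : Nat.card M = 16) {d : H} (d5 : d ^ 5 = 1) (fd : ∀ m : M, d • m = m → m = 0)
    (inv : ∀ a ∈ ww V cf y, a ∉ qq V cf z → R.phi a * d * (R.phi a)⁻¹ = d⁻¹)
    (nd : ∀ h0 : H, h0 • R.pi y = R.pi y → ∃ i : ℕ, h0 * d * h0⁻¹ = d ^ i)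
    (hE : Nat.card (jj V cf) = 8) (hKK : kk V cf z ⊓ kk V cf y ≤ jj V cf) :
    Nat.card (kk V cf z) ≤ 64 := by
  have hz := h.ln.z_mem
  have hz1 := h.ln.z_ne
  have two : ∀ m : M, m + m = 0 := R.two h
  have hv0 : R.pi y ≠ 0 := R.v0_ne h hy hy1 hyz
  have hd1 : d ≠ 1 := by
    rintro rfl
    exact hv0 (fd _ (one_smul _ _))
  obtain ⟨w, hw, hwz⟩ := h.exists_not_qq hy hy1 hz hz1 (Ne.symm hyz)
  have hwc := h.ww_le_cf' hy hy1 hz hz1 hw
  set a := R.phi w with ha
  have ha2 : a * a = 1 := R.sq_A h hy hy1 hw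
  have hi := inv w hw hwz
  have hav : a • R.pi y = R.pi y := R.A_v0 h hy hy1 hy hw
  obtain ⟨hfx4, -⟩ := Abs.fix_four (M := M) two card ha2 d5 hd1 hi
  -- `π(E) = C_M(a)`
  have hEfx : ∀ m ∈ Abs.fx M a, ∃ e ∈ jj V cf, R.pi e = m := by
    have h1 : R.pi '' ((jj V cf : Subgroup G) : Set G) ⊆ ((Abs.fx M a : AddSubgroup M) : Set M) := by
      rintro _ ⟨e, he, rfl⟩
      change a • R.pi e = R.pi e
      rw [ha, R.act w hwc e (Fam.jj_le hz hz1 he)]
      congr 1
      exact conj_eq_of_comm (h.comm hy hy1 w hw e (Fam.jj_le hy hy1 he))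
    have h2 : 8 ≤ 2 * (R.pi '' ((jj V cf : Subgroup G) : Set G)).ncard := by
      have h3 : ((jj V cf : Subgroup G) : Set G).ncard = 8 := hE
      rw [← h3]
      -- fibers of size at most 2
      classical
      have hfin : ((jj V cf : Subgroup G) : Set G).Finite := Set.toFinite _
      rw [Set.ncard_eq_toFinset_card _ hfin]
      have h4 : (R.pi '' ((jj V cf : Subgroup G) : Set G)).ncard = (hfin.toFinset.image R.pi).card := by
        rw [← Set.ncard_coe_finset]
        congr 1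
        ext m
        simp
      rw [h4]
      refine Finset.card_le_mul_card_image _ _ ?_
      intro m hm
      obtain ⟨e, he, rfl⟩ := Finset.mem_image.mp hm
      have he' : e ∈ jj V cf := by simpa using he
      have h5 : (hfin.toFinset.filter fun x => R.pi x = R.pi e) ⊆ {e, z * e} := by
        intro x hx
        rw [Finset.mem_filter] at hx
        have hx1 : x ∈ jj V cf := by simpa using hx.1
        rw [Finset.mem_insert, Finset.mem_singleton]
        exact (R.pi_eq h (Fam.jj_le hz hz1 hx1) (Fam.jj_le hz hz1 he')).mp hx.2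
      exact (Finset.card_le_card h5).trans Finset.card_le_two
    have h3 : (R.pi '' ((jj V cf : Subgroup G) : Set G)) = ((Abs.fx M a : AddSubgroup M) : Set M) := by
      refine Set.eq_of_subset_of_ncard_le h1 ?_ (Set.toFinite _)
      have h4 : ((Abs.fx M a : AddSubgroup M) : Set M).ncard = 4 := hfx4
      omega
    intro m hm
    have : m ∈ R.pi '' ((jj V cf : Subgroup G) : Set G) := by rw [h3]; exact hm
    obtain ⟨e, he, rfl⟩ := this
    exact ⟨e, he, rfl⟩
  -- elements of `K_y`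
  have hK : ∀ k ∈ kk V cf y, k ∈ cf z ∧ (R.phi k = 1 ∨ R.phi k = a) := by
    intro k hkk
    have hkV := h.kk_le_cent hkk
    have hkc := h.cent_le_cf hz hz1 hkV
    refine ⟨hkc, ?_⟩
    have hkv : R.phi k • R.pi y = R.pi y := R.cent_v0 h hy hkV
    obtain ⟨i, hsd⟩ := nd _ hkv
    refine Abs.eq_of_fix (M := M) two card ha2 d5 hd1 hi (s := R.phi k) ?_ ?_ hsd hv0 hav
    · intro m hm
      obtain ⟨e, he, rfl⟩ := hEfx m hm
      rw [R.act k hkc e (Fam.jj_le hz hz1 he)]
      congr 1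
      exact conj_eq_of_comm (mem_centralizer_iff.mp hkk e (Fam.jj_le hy hy1 he)).symm
    · exact R.cen_A h hk hy hy1 hyz hw hkv
  have c1 : Nat.card (kk V cf y) ≤ 2 * Nat.card (kk V cf y ⊓ qq V cf z : Subgroup G) := by
    refine card_le_two_mul fun k hkk hk1 k' hkk' hk1' => ?_
    obtain ⟨hkc, e⟩ := hK k hkk
    obtain ⟨hkc', e'⟩ := hK k' hkk'
    have f : R.phi k = a := by
      rcases e with e | e
      · exact absurd (mem_inf.mpr ⟨hkk, (R.phi_ker k hkc).mp e⟩) hk1
      · exact e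
    have f' : R.phi k' = a := by
      rcases e' with e | e
      · exact absurd (mem_inf.mpr ⟨hkk', (R.phi_ker k' hkc').mp e⟩) hk1'
      · exact e
    exact mem_inf.mpr ⟨mul_mem hkk (inv_mem hkk'), (R.phi_eq hkc hkc').mp (f.trans f'.symm)⟩
  -- two more elements
  have cW : Nat.card (ww V cf z) = 32 := by rw [R.card_ww h, card]
  have cstep : ∀ (X : Subgroup G) (w1 : G), X ≤ qq V cf z → w1 ∈ ww V cf z →
      Nat.card X ≤ 2 * Nat.card (X ⊓ centralizer {w1} : Subgroup G) := by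
    intro X w1 hX hw1
    refine card_le_two_mul fun k hkk hk1 k' hkk' hk1' => ?_
    have key : ∀ k ∈ X, k ∉ X ⊓ centralizer {w1} → k * w1 * k⁻¹ = z * w1 := by
      intro k hkX hk1
      rcases h.qq_cases hz (hX hkX) hw1 with e | e
      · exfalso
        apply hk1
        refine mem_inf.mpr ⟨hkX, ?_⟩
        rw [mem_centralizer_singleton_iff]
        exact comm_of_conj_eq e
      · exact e
    have e1 := key k hkk hk1
    have e2 := key k' hkk' hk1'
    refine mem_inf.mpr ⟨mul_mem hkk (inv_mem hkk'), ?_⟩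
    rw [mem_centralizer_singleton_iff]
    refine comm_of_conj_eq ?_
    have hkz : k * z = z * k := h.cf_comm hz hz1 (h.qq_le_cf (hX hkk))
    have hkz' : k' * z = z * k' := h.cf_comm hz hz1 (h.qq_le_cf (hX hkk'))
    have hzz : z * z = 1 := h.ln.zz
    have e3 : k'⁻¹ * w1 * k' = z * w1 := by
      have h1 : w1 = k'⁻¹ * (z * w1) * k' := by rw [← e2]; group
      have h2 : k'⁻¹ * (z * w1) * k' = z * (k'⁻¹ * w1 * k') := by
        have : k'⁻¹ * z = z * k'⁻¹ := by
          rw [inv_mul_eq_iff_eq_mul, ← mul_assoc, hkz', mul_inv_cancel_right]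
        calc k'⁻¹ * (z * w1) * k' = (k'⁻¹ * z) * w1 * k' := by group
          _ = z * (k'⁻¹ * w1 * k') := by rw [this]; group
      rw [h2] at h1
      calc k'⁻¹ * w1 * k' = (z * z) * (k'⁻¹ * w1 * k') := by rw [hzz, one_mul]
        _ = z * (z * (k'⁻¹ * w1 * k')) := by group
        _ = z * w1 := by rw [← h1]
    calc k * k'⁻¹ * w1 * (k * k'⁻¹)⁻¹ = k * (k'⁻¹ * w1 * k') * k⁻¹ := by group
      _ = (k * z) * w1 * k⁻¹ := by rw [e3]; group
      _ = z * (k * w1 * k⁻¹) := by rw [hkz]; group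
      _ = (z * z) * w1 := by rw [e1]; group
      _ = w1 := by rw [hzz, one_mul]
  -- `W_z` is generated by `E`, `w1`, `w2`
  have hEW : jj V cf ≤ ww V cf z := Fam.jj_le hz hz1
  obtain ⟨w1, w2, hw1, hw2, hgen⟩ : ∃ w1 w2, w1 ∈ ww V cf z ∧ w2 ∈ ww V cf z ∧
      ∀ B : Subgroup G, jj V cf ≤ B → w1 ∈ B → w2 ∈ B → ww V cf z ≤ B := by
    have hnot : ∀ X : Subgroup G, Nat.card X < 32 → ∃ w ∈ ww V cf z, w ∉ X := by
      intro X hX
      by_contra hcon
      push Not at hcon
      have : Nat.card (ww V cf z) ≤ Nat.card X := Subgroup.card_le_of_le hcon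
      omega
    obtain ⟨w1, hw1, hw1'⟩ := hnot (jj V cf) (by omega)
    set E1 := jj V cf ⊔ zpowers w1 with hE1
    have hE1W : E1 ≤ ww V cf z := sup_le hEW (by rwa [zpowers_le])
    by_cases hlt : Nat.card E1 < 32
    · obtain ⟨w2, hw2, hw2'⟩ := hnot E1 hlt
      refine ⟨w1, w2, hw1, hw2, fun B hB1 hB2 hB3 => ?_⟩
      have h1 : E1 ≤ B ⊓ ww V cf z := le_inf (sup_le hB1 (by rwa [zpowers_le])) hE1W
      have h2 : jj V cf < E1 := by
        refine lt_of_le_of_ne le_sup_left fun e => hw1' ?_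
        rw [e]
        exact (le_sup_right : zpowers w1 ≤ _) (mem_zpowers w1)
      have h3 : E1 < B ⊓ ww V cf z := by
        refine lt_of_le_of_ne h1 fun e => hw2' ?_
        rw [e]
        exact mem_inf.mpr ⟨hB3, hw2⟩
      have h4 : B ⊓ ww V cf z ≤ ww V cf z := inf_le_right
      have d1 : Nat.card (jj V cf) ∣ Nat.card E1 := card_dvd_of_le h2.le
      have d2 : Nat.card E1 ∣ Nat.card (B ⊓ ww V cf z : Subgroup G) := card_dvd_of_le h3.le
      have d3 : Nat.card (B ⊓ ww V cf z : Subgroup G) ∣ Nat.card (ww V cf z) := card_dvd_of_le h4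
      have l1 : Nat.card (jj V cf) < Nat.card E1 := by
        refine lt_of_le_of_ne (Subgroup.card_le_of_le h2.le) fun e => h2.ne ?_
        exact Subgroup.eq_of_le_of_card_ge h2.le e.symm.le
      have l2 : Nat.card E1 < Nat.card (B ⊓ ww V cf z : Subgroup G) := by
        refine lt_of_le_of_ne (Subgroup.card_le_of_le h3.le) fun e => h3.ne ?_
        exact Subgroup.eq_of_le_of_card_ge h3.le e.symm.le
      have h5 : Nat.card (B ⊓ ww V cf z : Subgroup G) = Nat.card (ww V cf z) := by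
        rw [hE] at d1 l1
        rw [cW] at d3 ⊢
        obtain ⟨i, -, hi⟩ := (Nat.dvd_prime_pow Nat.prime_two (m := 5)).mp d3
        have hi' : Nat.card E1 ∣ 2 ^ 5 := d2.trans d3
        obtain ⟨j, -, hj⟩ := (Nat.dvd_prime_pow Nat.prime_two (m := 5)).mp hi'
        have hj4 : 3 < j := by
          by_contra hcon
          have : 2 ^ j ≤ 2 ^ 3 := Nat.pow_le_pow_right (by norm_num) (by omega)
          omega
        have hij : j < i := by
          by_contra hcon
          have : 2 ^ i ≤ 2 ^ j := Nat.pow_le_pow_right (by norm_num) (by omega)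
          omega
        have : 2 ^ 5 ≤ 2 ^ i := Nat.pow_le_pow_right (by norm_num) (by omega)
        have h6 : Nat.card (B ⊓ ww V cf z : Subgroup G) ≤ 32 := Nat.le_of_dvd (by norm_num) d3
        omega
      have h6 : B ⊓ ww V cf z = ww V cf z := Subgroup.eq_of_le_of_card_ge h4 h5.symm.le
      rw [← h6]
      exact inf_le_left
    · refine ⟨w1, w1, hw1, hw1, fun B hB1 hB2 _ => ?_⟩
      have h1 : E1 ≤ B := sup_le hB1 (by rwa [zpowers_le])
      have h2 : E1 = ww V cf z := Subgroup.eq_of_le_of_card_ge hE1W (by omega)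
      rw [← h2]; exact h1
  set X0 := kk V cf y ⊓ qq V cf z with hX0
  have hX0q : X0 ≤ qq V cf z := inf_le_right
  have c2 := cstep X0 w1 hX0q hw1
  have c3 := cstep (X0 ⊓ centralizer {w1}) w2 (inf_le_left.trans hX0q) hw2
  have c4 : Nat.card (X0 ⊓ centralizer {w1} ⊓ centralizer {w2} : Subgroup G) ≤ 8 := by
    rw [← hE]
    refine Subgroup.card_le_of_le fun k hkx => hKK ?_
    obtain ⟨h12, h3⟩ := mem_inf.mp hkx
    obtain ⟨h1, h2⟩ := mem_inf.mp h12
    have hky : k ∈ kk V cf y := (mem_inf.mp h1).1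
    refine mem_inf.mpr ⟨?_, hky⟩
    have h4 : ww V cf z ≤ centralizer ({k} : Set G) := by
      refine hgen _ ?_ ?_ ?_
      · intro e he
        rw [mem_centralizer_singleton_iff]
        exact mem_centralizer_iff.mp hky e (Fam.jj_le hy hy1 he)
      · rw [mem_centralizer_singleton_iff] at h2 ⊢
        exact h2.symm
      · rw [mem_centralizer_singleton_iff] at h3 ⊢
        exact h3.symm
    rw [mem_centralizer_iff]
    intro w hw
    exact mem_centralizer_singleton_iff.mp (h4 hw)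
  have c5 : Nat.card (kk V cf y) ≤ 64 := by omega
  -- conjugate
  obtain ⟨g, hg, rfl, -⟩ := h.point hy hy1
  have c6 : cj g (kk V cf z) ≤ kk V cf (g * z * g⁻¹) := by
    intro x hx
    have := h.conj_kk hg hz hz1 (mem_cj.mp hx)
    have e : g * (g⁻¹ * x * g) * g⁻¹ = x := by group
    rwa [e] at this
  have c7 := Subgroup.card_le_of_le c6
  rw [card_cj] at c7
  omega

end MRep

end Cfsg.Agent.Omega.NO3S.Fit

end

section


/-!
# Text #13963, section 3: the passage to the subfamily, module level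

`Down H1 D H' M'` : `M'` is `D` as a module for the image `H'` of `H1`. `T9.nineA`, `T5.fiveA`, `M12.card_down`: the outputs
of section 3 for the faithful pair `(H', M')`, in the form used in section 4.
-/

set_option autoImplicit false
set_option linter.unusedSectionVars false

open scoped Pointwise

namespace Cfsg.Agent.Omega.NO3S.Fit.Abs

variable {H M : Type*} [Group H] [AddCommGroup M] [DistribMulAction H M]
variable {H' M' : Type*} [Group H'] [AddCommGroup M'] [DistribMulAction H' M']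

/-- `M'` is `D` as a module for the image `H'` of `H1` -/
structure Down (H1 : Subgroup H) (D : AddSubgroup M) (H' M' : Type*) [Group H'] [AddCommGroup M']
    [DistribMulAction H' M'] where
  io : M' → M
  rho : H → H'
  io_add : ∀ m n, io (m + n) = io m + io n
  io_inj : Function.Injective io
  io_mem : ∀ m, io m ∈ D
  io_surj : ∀ m ∈ D, ∃ m', io m' = m
  rho_mul : ∀ g ∈ H1, ∀ h ∈ H1, rho (g * h) = rho g * rho h
  rho_surj : ∀ x : H', ∃ h ∈ H1, rho h = x
  act : ∀ h ∈ H1, ∀ m, io (rho h • m) = h • io m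

namespace Down

variable {H1 : Subgroup H} {D : AddSubgroup M} (E : Down H1 D H' M')
include E

/-- `rho` on `H1` -/
def hom : H1 →* H' where
  toFun h := E.rho h
  map_one' := by
    have h1 := E.rho_mul 1 (one_mem _) 1 (one_mem _)
    rw [mul_one] at h1
    change E.rho 1 = 1
    exact left_eq_mul.mp h1
  map_mul' g h := E.rho_mul g g.2 h h.2

theorem rho_pow {h : H} (hh : h ∈ H1) (n : ℕ) : E.rho (h ^ n) = E.rho h ^ n :=
  map_pow E.hom (⟨h, hh⟩ : H1) n

theorem io_zero : E.io 0 = 0 := by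
  have := E.io_add 0 0
  rw [add_zero] at this
  exact left_eq_add.mp this

theorem card : Nat.card M' = Nat.card D :=
  Nat.card_congr (Equiv.ofBijective (fun m => (⟨E.io m, E.io_mem m⟩ : D))
    ⟨fun m n h => E.io_inj (congrArg Subtype.val h), fun ⟨m, hm⟩ => by
      obtain ⟨m', h⟩ := E.io_surj m hm
      exact ⟨m', Subtype.ext h⟩⟩)

theorem eq_of_smul [FaithfulSMul H' M'] {g h : H} (hg : g ∈ H1) (hh : h ∈ H1)
    (e : ∀ m ∈ D, g • m = h • m) : E.rho g = E.rho h := by
  refine FaithfulSMul.eq_of_smul_eq_smul (α := M') fun m => E.io_inj ?_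
  rw [E.act g hg, E.act h hh, e _ (E.io_mem m)]

theorem eq_one_of_smul [FaithfulSMul H' M'] {g : H} (hg : g ∈ H1)
    (e : ∀ m ∈ D, g • m = m) : E.rho g = 1 := by
  have h1 := E.eq_of_smul hg (one_mem H1) (fun m hm => by rw [e m hm, one_smul])
  rw [h1]
  exact map_one E.hom

theorem fix_iff {h : H} (hh : h ∈ H1) {v0' : M'} :
    E.rho h • v0' = v0' ↔ h • E.io v0' = E.io v0' := by
  rw [← E.act h hh]
  exact ⟨fun e => by rw [e], fun e => E.io_inj e⟩

end Down

/-- the clauses of (T9) for a faithful pair `(H', M')` -/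
structure NineA (v0 : M') (a d1 d2 : H') (b1 b2 : M') : Prop where
  card : Nat.card M' = 16
  vb : v0 = b1 + b2
  f1 : d1 • b2 = b2
  f2 : d2 • b1 = b1
  s1 : b1 + d1 • b1 + d1 • d1 • b1 = 0
  s2 : b2 + d2 • b2 + d2 • d2 • b2 = 0
  n1 : d1 • b1 ≠ b1
  n2 : d2 • b2 ≠ b2
  comm : d1 * d2 = d2 * d1
  c1 : d1 ^ 3 = 1
  c2 : d2 ^ 3 = 1
  inv1 : a * d1 * a⁻¹ = d1⁻¹
  inv2 : a * d2 * a⁻¹ = d2⁻¹
  fa1 : a • b1 = b1
  fa2 : a • b2 = b2
  gen : ∀ x : H', ∃ i j : ℕ, ∃ h0 : H', h0 • v0 = v0 ∧ x = d1 ^ i * d2 ^ j * h0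
  st : ∀ h0 : H', h0 • v0 = v0 →
    (h0 • b1 = b1 ∧ h0 • b2 = b2 ∧ (h0 * d1 * h0⁻¹ = d1 ∨ h0 * d1 * h0⁻¹ = d1⁻¹) ∧
      (h0 * d2 * h0⁻¹ = d2 ∨ h0 * d2 * h0⁻¹ = d2⁻¹)) ∨
    (h0 • b1 = b2 ∧ h0 • b2 = b1 ∧ (h0 * d1 * h0⁻¹ = d2 ∨ h0 * d1 * h0⁻¹ = d2⁻¹) ∧
      (h0 * d2 * h0⁻¹ = d1 ∨ h0 * d2 * h0⁻¹ = d1⁻¹))
  sw : ∃ h0 : H', h0 • v0 = v0 ∧ h0 • b1 = b2 ∧ h0 • b2 = b1

/-- the clauses of (T5) for a faithful pair `(H', M')` -/
structure FiveA (v0 : M') (a d : H') : Prop where
  card : Nat.card M' = 16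
  d5 : d ^ 5 = 1
  fd : ∀ m : M', d • m = m → m = 0
  inv : a * d * a⁻¹ = d⁻¹
  gen : ∀ x : H', ∃ i : ℕ, ∃ h0 : H', h0 • v0 = v0 ∧ x = d ^ i * h0
  nd : ∀ h0 : H', h0 • v0 = v0 → ∃ i : ℕ, h0 * d * h0⁻¹ = d ^ i
  frob : ∃ h0 : H', h0 • v0 = v0 ∧ h0 * d * h0⁻¹ = d ^ 2

variable {v0 : M} {a : H} {T : Subgroup H}

namespace T9

variable {H1 : Subgroup H} {d1 d2 : H} {b1 b2 : M}

/-- `h d1 = e1 h` or `e1² h` on `D` -/
theorem norG [Finite M] (K : T9 v0 a T H1 d1 d2 b1 b2) (two : ∀ m : M, m + m = 0) {e1 e2 : H}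
    {c1 c2 : M} (K' : T9 v0 a T H1 e1 e2 c1 c2) {h : H}
    (hm1 : ∀ m ∈ blk d1 b1, h • m ∈ blk e1 c1) (hm2 : ∀ m ∈ blk d2 b2, h • m ∈ blk e2 c2) :
    (∀ m ∈ sp H1 v0, h • d1 • m = e1 • h • m) ∨
      (∀ m ∈ sp H1 v0, h • d1 • m = e1 • e1 • h • m) := by
  have h1 : h • b1 ∈ blk e1 c1 := hm1 _ (self_mem_blk d1 b1)
  have hh0 : h • b1 ≠ 0 := fun e => K.b10 ((smul_eq_zero_iff_eq h).mp e)
  have hs := blk_sum two K'.d11 h1
  have hmem : h • d1 • b1 ∈ blk e1 (h • b1) := by
    rw [blk_eq two K'.d11 K'.b10 h1 hh0]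
    exact hm1 _ (smul_mem_blk' d1 b1)
  have hne : h • d1 • b1 ≠ h • b1 := by
    intro e
    exact K.b10 (blk_fixed two K.d11 (self_mem_blk d1 b1) (smul_left_cancel h e))
  have hcube : e1 • e1 • e1 • h • b1 = h • b1 := K'.cube1 two h1
  -- it is enough to look at `b1` and `d1 b1`
  have ext : ∀ e : H, (∀ m ∈ blk e2 c2, e • m = m) → h • d1 • b1 = e • h • b1 →
      h • d1 • d1 • b1 = e • h • d1 • b1 → ∀ m ∈ sp H1 v0, h • d1 • m = e • h • m := by
    intro e he h3 h4 m hm
    rw [K.sp_eq two] at hm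
    obtain ⟨p, hp, q, hq, rfl⟩ := AddSubgroup.mem_sup.mp hm
    have hp' : h • d1 • p = e • h • p := by
      rcases (mem_blk two).mp hp with rfl | rfl | rfl | rfl
      · simp
      · exact h3
      · exact h4
      · rw [smul_add d1, smul_add h, smul_add h, smul_add e, h4, h3]
    rw [smul_add, smul_add, smul_add, smul_add, hp', K.triv2 hq, he _ (hm2 q hq)]
  rcases (mem_blk two).mp hmem with z | z | z | z
  · exact absurd ((smul_eq_zero_iff_eq d1).mp ((smul_eq_zero_iff_eq h).mp z)) K.b10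
  · exact absurd z hne
  · left
    refine ext e1 (fun m hm => K'.triv2 hm) z ?_
    rw [K.d11, smul_add, z, hs]
  · right
    have z' : h • d1 • b1 = (e1 * e1) • h • b1 := by rw [mul_smul, hs]; exact z
    have h9 := ext (e1 * e1) (fun m hm => by rw [mul_smul, K'.triv2 hm, K'.triv2 hm]) z' (by
      rw [K.d11, smul_add, z', mul_smul, mul_smul, hcube, hs, ← add_assoc, two, zero_add])
    intro m hm
    have := h9 m hm
    rwa [mul_smul] at this

variable [FaithfulSMul H' M']

theorem nineA [Finite M] (K : T9 v0 a T H1 d1 d2 b1 b2) (c : Ctx v0 a T)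
    (E : Down H1 (sp H1 v0) H' M') {v0' : M'} (hv : E.io v0' = v0) :
    ∃ d1' d2' b1' b2', NineA v0' (E.rho a) d1' d2' b1' b2' := by
  have two := c.two
  have haH : a ∈ H1 := K.stab_le a c.fix
  have hb1D : b1 ∈ sp H1 v0 := by
    rw [K.sp_eq two]; exact AddSubgroup.mem_sup_left (self_mem_blk d1 b1)
  have hb2D : b2 ∈ sp H1 v0 := by
    rw [K.sp_eq two]; exact AddSubgroup.mem_sup_right (self_mem_blk d2 b2)
  obtain ⟨b1', hb1⟩ := E.io_surj b1 hb1D
  obtain ⟨b2', hb2⟩ := E.io_surj b2 hb2D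
  -- transport of equations `h • io m = io m'`
  have tr : ∀ h ∈ H1, ∀ m m' : M', h • E.io m = E.io m' → E.rho h • m = m' := by
    intro h hh m m' e
    apply E.io_inj
    rw [E.act h hh, e]
  -- relations in `H'`
  have rel : ∀ g ∈ H1, ∀ d ∈ H1, ∀ e ∈ H1, (∀ m ∈ sp H1 v0, g • d • m = e • g • m) →
      E.rho g * E.rho d * (E.rho g)⁻¹ = E.rho e := by
    intro g hg d hd e he h
    rw [mul_inv_eq_iff_eq_mul, ← E.rho_mul g hg d hd, ← E.rho_mul e he g hg]
    exact E.eq_of_smul (mul_mem hg hd) (mul_mem he hg) fun m hm => by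
      rw [mul_smul, mul_smul, h m hm]
  have cube : ∀ {e1 e2 : H} {c1 c2 : M}, T9 v0 a T H1 e1 e2 c1 c2 →
      E.rho e1 ^ 3 = 1 := by
    intro e1 e2 c1 c2 K
    rw [← E.rho_pow K.d1m]
    refine E.eq_one_of_smul (pow_mem K.d1m 3) fun m hm => ?_
    rw [K.sp_eq two] at hm
    obtain ⟨p, hp, q, hq, rfl⟩ := AddSubgroup.mem_sup.mp hm
    rw [pow_succ, pow_two, mul_smul, mul_smul, smul_add, smul_add, smul_add, K.cube1 two hp,
      K.triv2 hq, K.triv2 hq, K.triv2 hq]
  have sqinv : ∀ {e1 e2 : H} {c1 c2 : M}, T9 v0 a T H1 e1 e2 c1 c2 →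
      E.rho (e1 * e1) = (E.rho e1)⁻¹ := by
    intro e1 e2 c1 c2 K
    rw [E.rho_mul _ K.d1m _ K.d1m, eq_inv_iff_mul_eq_one, ← pow_two, ← pow_succ]
    exact cube K
  -- `h d1 h⁻¹`
  have conj : ∀ {e1 e2 f1 f2 : H} {c1 c2 g1 g2 : M}, T9 v0 a T H1 e1 e2 c1 c2 →
      T9 v0 a T H1 f1 f2 g1 g2 → ∀ h ∈ H1, (∀ m ∈ blk e1 c1, h • m ∈ blk f1 g1) →
      (∀ m ∈ blk e2 c2, h • m ∈ blk f2 g2) →
      E.rho h * E.rho e1 * (E.rho h)⁻¹ = E.rho f1 ∨
        E.rho h * E.rho e1 * (E.rho h)⁻¹ = (E.rho f1)⁻¹ := by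
    intro e1 e2 f1 f2 c1 c2 g1 g2 K K' h hh hm1 hm2
    rcases K.norG two K' hm1 hm2 with h3 | h3
    · exact Or.inl (rel h hh e1 K.d1m f1 K'.d1m h3)
    · right
      rw [← sqinv K']
      refine rel h hh e1 K.d1m (f1 * f1) (mul_mem K'.d1m K'.d1m) fun m hm => ?_
      rw [h3 m hm, mul_smul]
  have sum1 : ∀ {e1 e2 : H} {c1 c2 : M} {c1' : M'}, T9 v0 a T H1 e1 e2 c1 c2 → E.io c1' = c1 →
      c1' + E.rho e1 • c1' + E.rho e1 • E.rho e1 • c1' = 0 := by
    intro e1 e2 c1 c2 c1' K hc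
    apply E.io_inj
    rw [E.io_add, E.io_add, E.act _ K.d1m, E.act _ K.d1m, E.act _ K.d1m, hc, K.d11, E.io_zero,
      two]
  have ne1 : ∀ {e1 e2 : H} {c1 c2 : M} {c1' : M'}, T9 v0 a T H1 e1 e2 c1 c2 → E.io c1' = c1 →
      E.rho e1 • c1' ≠ c1' := by
    intro e1 e2 c1 c2 c1' K hc e
    have h1 : e1 • c1 = c1 := by rw [← hc, ← E.act _ K.d1m, e]
    exact K.b10 (blk_fixed two K.d11 (self_mem_blk e1 c1) h1)
  have inv : ∀ {e1 e2 : H} {c1 c2 : M}, T9 v0 a T H1 e1 e2 c1 c2 →
      E.rho a * E.rho e1 * (E.rho a)⁻¹ = (E.rho e1)⁻¹ := by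
    intro e1 e2 c1 c2 K
    rw [← sqinv K]
    refine rel a haH e1 K.d1m (e1 * e1) (mul_mem K.d1m K.d1m) fun m hm => ?_
    rw [K.inv1 c hm, mul_smul]
  refine ⟨E.rho d1, E.rho d2, b1', b2', ?_⟩
  refine
    { card := by rw [E.card, K.card_sp two]
      vb := E.io_inj (by rw [E.io_add, hb1, hb2, hv, K.sum])
      f1 := tr d1 K.d1m _ _ (by rw [hb2, K.d12])
      f2 := tr d2 K.d2m _ _ (by rw [hb1, K.d21])
      s1 := sum1 K hb1
      s2 := sum1 K.symm hb2
      n1 := ne1 K hb1
      n2 := ne1 K.symm hb2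
      comm := by rw [← E.rho_mul _ K.d1m _ K.d2m, ← E.rho_mul _ K.d2m _ K.d1m, K.comm]
      c1 := cube K
      c2 := cube K.symm
      inv1 := inv K
      inv2 := inv K.symm
      fa1 := tr a haH _ _ (by rw [hb1, c.fix_br K.b1m])
      fa2 := tr a haH _ _ (by rw [hb2, c.fix_br K.b2m])
      gen := ?_
      st := ?_
      sw := ?_ }
  · intro x
    obtain ⟨h, hh, rfl⟩ := E.rho_surj x
    obtain ⟨i, j, h0, hh0, e⟩ := K.exists_eq two hh
    have h0H := K.stab_le h0 hh0
    refine ⟨i, j, E.rho h0, (E.fix_iff h0H).mpr (by rw [hv, hh0]), ?_⟩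
    rw [e, E.rho_mul _ (mul_mem (pow_mem K.d1m i) (pow_mem K.d2m j)) _ h0H,
      E.rho_mul _ (pow_mem K.d1m i) _ (pow_mem K.d2m j), E.rho_pow K.d1m, E.rho_pow K.d2m]
  · intro x hx
    obtain ⟨h, hh, rfl⟩ := E.rho_surj x
    have hhv : h • v0 = v0 := by
      have := (E.fix_iff hh).mp hx
      rwa [hv] at this
    rcases K.stab_cases two hhv with ⟨e1, e2⟩ | ⟨e1, e2⟩
    · left
      have m1 : ∀ m ∈ blk d1 b1, h • m ∈ blk d1 b1 := fun m hm =>
        K.map1 two hh (by rw [e1]; exact self_mem_blk d1 b1) hm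
      have m2 : ∀ m ∈ blk d2 b2, h • m ∈ blk d2 b2 := fun m hm =>
        K.symm.map1 two hh (by rw [e2]; exact self_mem_blk d2 b2) hm
      exact ⟨tr h hh _ _ (by rw [hb1, e1]), tr h hh _ _ (by rw [hb2, e2]),
        conj K K h hh m1 m2, conj K.symm K.symm h hh m2 m1⟩
    · right
      have m1 : ∀ m ∈ blk d1 b1, h • m ∈ blk d2 b2 := fun m hm =>
        K.map12 two hh (by rw [e1]; exact self_mem_blk d2 b2) hm
      have m2 : ∀ m ∈ blk d2 b2, h • m ∈ blk d1 b1 := fun m hm =>
        K.symm.map12 two hh (by rw [e2]; exact self_mem_blk d1 b1) hm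
      exact ⟨tr h hh _ _ (by rw [hb1, e1, hb2]), tr h hh _ _ (by rw [hb2, e2, hb1]),
        conj K K.symm h hh m1 m2, conj K.symm K h hh m2 m1⟩
  · obtain ⟨t, ht, e1, e2⟩ := K.swap
    have htv := c.T0 t ht
    have htH := K.stab_le t htv
    exact ⟨E.rho t, (E.fix_iff htH).mpr (by rw [hv, htv]), tr t htH _ _ (by rw [hb1, e1, hb2]),
      tr t htH _ _ (by rw [hb2, e2, hb1])⟩

end T9

namespace T5

variable {d : H} [FaithfulSMul H' M']

theorem fiveA (K : T5 v0 a d) (c : Ctx v0 a T) {H1 : Subgroup H} (hH : H1 = cyc v0 d K.nor)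
    (E : Down H1 (br M d) H' M') {v0' : M'} (hv : E.io v0' = v0) :
    FiveA v0' (E.rho a) (E.rho d) := by
  have hdH : d ∈ H1 := hH ▸ self_mem_cyc K.nor
  have hst : ∀ h : H, h • v0 = v0 → h ∈ H1 := fun h hh => hH ▸ stab_le_cyc K.nor hh
  have haH : a ∈ H1 := hst a c.fix
  have hinv : ∀ g ∈ H1, ∀ e ∈ H1, g * d * g⁻¹ = e → E.rho g * E.rho d * (E.rho g)⁻¹ = E.rho e := by
    intro g hg e he h
    rw [mul_inv_eq_iff_eq_mul, ← E.rho_mul g hg d hdH, ← E.rho_mul e he g hg,
      mul_inv_eq_iff_eq_mul.mp h]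
  have hd5 : E.rho d ^ 5 = 1 := by
    rw [← E.rho_pow hdH, K.five]
    exact map_one E.hom
  have hz : ∀ z ∈ Subgroup.zpowers d, ∃ i : ℕ, z = d ^ i := by
    rintro _ ⟨i, rfl⟩
    have h1 : 0 ≤ i % 5 := Int.emod_nonneg _ (by norm_num)
    refine ⟨(i % 5).toNat, ?_⟩
    change d ^ i = _
    rw [← zpow_natCast, Int.toNat_of_nonneg h1]
    conv_lhs => rw [← Int.emod_add_mul_ediv i 5]
    rw [zpow_add, zpow_mul, zpow_ofNat, K.five, one_zpow, mul_one]
  have hstab : ∀ x : H', x • v0' = v0' → ∃ h, h • v0 = v0 ∧ E.rho h = x := by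
    intro x hx
    obtain ⟨h, hh, rfl⟩ := E.rho_surj x
    have := (E.fix_iff hh).mp hx
    rw [hv] at this
    exact ⟨h, this, rfl⟩
  refine
    { card := by rw [E.card, K.card]
      d5 := hd5
      fd := fun m hm => ?_
      inv := ?_
      gen := fun x => ?_
      nd := fun x hx => ?_
      frob := ?_ }
  · apply E.io_inj
    rw [E.io_zero]
    refine br_inf_fx c.two K.odd (E.io_mem m) ?_
    rw [← E.act d hdH, hm]
  · have h1 := hinv a haH d⁻¹ (inv_mem hdH) K.inv
    rw [h1]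
    exact map_inv E.hom (⟨d, hdH⟩ : H1)
  · obtain ⟨h, hh, rfl⟩ := E.rho_surj x
    obtain ⟨i, h0, hh0, e⟩ := mem_cyc.mp (hH ▸ hh)
    obtain ⟨n, hn⟩ := hz (d ^ i) (Subgroup.zpow_mem_zpowers d i)
    refine ⟨n, E.rho h0, (E.fix_iff (hst h0 hh0)).mpr (by rw [hv, hh0]), ?_⟩
    rw [e, hn, E.rho_mul _ (pow_mem hdH n) _ (hst h0 hh0), E.rho_pow hdH]
  · obtain ⟨h, hh, rfl⟩ := hstab x hx
    obtain ⟨n, hn⟩ := hz _ (K.nor h hh)
    refine ⟨n, ?_⟩
    rw [hinv h (hst h hh) (d ^ n) (pow_mem hdH n) hn, E.rho_pow hdH]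
  · obtain ⟨h, hh, e⟩ := K.frob
    refine ⟨E.rho h, (E.fix_iff (hst h hh)).mpr (by rw [hv, hh]), ?_⟩
    rw [hinv h (hst h hh) (d ^ 2) (pow_mem hdH 2) e, E.rho_pow hdH]

end T5

/-- in (M12) the subfamily has `|M'| = 4` -/
theorem Ctx.M12.card_down {d : H} (K : Ctx.M12 v0 a d) {H1 : Subgroup H}
    (E : Down H1 (br M d) H' M') : Nat.card M' = 4 := by rw [E.card, K.card]

end Cfsg.Agent.Omega.NO3S.Fit.Abs

end
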