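import Cfsg.Agent.Mrg.Omega.NO3S.Fit.Char
import Cfsg.Agent.Mrg.Omega.NO3S.Fit.AbsNat
import Mathlib
import Cfsg.Agent.MinSimple.Geo

section


/-!
# NO-3S, `q = 2`, `n = 1` (helper311's text #13963): comparison of a subfamily with the family

`K ≥ Stab_H(v0)`, the subfamily `subf V z (R.pre K)`, its representation `R'` on `M'` by `H'`: `θ : M' → M` injective with range
`⟨v0^K⟩`, `κ : K → H'` onto, `θ (κ x • m) = x • θ m`.
-/

set_option autoImplicit false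
set_option linter.unusedSectionVars false

namespace Cfsg.Agent.Omega.NO3S.Fit

open Subgroup Cfsg Cfsg.Agent.ZN Cfsg.Agent.MinSimple.Geo Cfsg.Agent.Omega.CaseL
open Cfsg.Agent.ZN.Block (conj_mem_of_normalizer conj_mem_of_normalizer' le_normalizer_of_forall
  mem_normalizer_of)

universe u

variable {G : Type u} [Group G] {T V : Subgroup G} {z : G} {cf : G → Subgroup G}
variable {M H M' H' : Type u} [AddCommGroup M] [Group H] [DistribMulAction H M]
  [AddCommGroup M'] [Group H'] [DistribMulAction H' M']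

/-- the span of the `K`-orbit of `v` -/
def spn (K : Subgroup H) (v : M) : AddSubgroup M := AddSubgroup.closure (Set.range fun x : K => (x : H) • v)

theorem mem_spn (K : Subgroup H) (v : M) : v ∈ spn K v :=
  AddSubgroup.subset_closure ⟨1, one_smul _ _⟩

theorem smul_mem_spn' {K : Subgroup H} {x : H} (hx : x ∈ K) (v : M) : x • v ∈ spn K v :=
  AddSubgroup.subset_closure ⟨⟨x, hx⟩, rfl⟩

theorem smul_mem_spn {K : Subgroup H} {x : H} (hx : x ∈ K) {v m : M} (hm : m ∈ spn K v) : x • m ∈ spn K v := by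
  induction hm using AddSubgroup.closure_induction with
  | mem m hm =>
    obtain ⟨x', rfl⟩ := hm
    change x • ((x' : H) • v) ∈ _
    rw [← mul_smul]
    exact smul_mem_spn' (mul_mem hx x'.2) v
  | zero => rw [smul_zero]; exact zero_mem _
  | add a b _ _ ha hb => rw [smul_add]; exact add_mem ha hb
  | neg a _ ha => rw [smul_neg]; exact neg_mem ha

theorem spn_le {K : Subgroup H} {v : M} {N : AddSubgroup M} (h : ∀ x ∈ K, x • v ∈ N) : spn K v ≤ N := by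
  refine (AddSubgroup.closure_le _).mpr ?_
  rintro _ ⟨x, rfl⟩
  exact h x x.2

/-- comparison of the representation `R` of the family with the representation `R'` of the subfamily `pre K` -/
structure Cmp (R : MRep V cf z M H) (y : G) (K : Subgroup H) (R' : MRep V (subf V z (R.pre K)) z M' H')
    (θ : M' →+ M) (κ : K →* H') : Prop where
  inj : Function.Injective θ
  surj : Function.Surjective κ
  pi : ∀ w ∈ wf V (R.pre K), θ (R'.pi w) = R.pi w
  phi : ∀ (c : G) (hc : c ∈ R.pre K), κ ⟨R.phi c, (R.mem_pre.mp hc).2⟩ = R'.phi c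
  act : ∀ (x : K) (m : M'), θ (κ x • m) = (x : H) • θ m
  range : ∀ m, (∃ m', θ m' = m) ↔ m ∈ spn K (R.pi y)

theorem exists_cmp [Finite G] (R : MRep V cf z M H) (h : Fam T V z cf) {y : G} (hy : y ∈ V) (hy1 : y ≠ 1)
    (hyz : y ≠ z) {K : Subgroup H} (hK : ∀ x : H, x • R.pi y = R.pi y → x ∈ K)
    (R' : MRep V (subf V z (R.pre K)) z M' H') (h' : Fam T V z (subf V z (R.pre K))) :
    ∃ (θ : M' →+ M) (κ : K →* H'), Cmp R y K R' θ κ := by
  classical
  have hz := h.ln.z_mem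
  have hz1 := h.ln.z_ne
  have hC := R.le_pre h hy hy1 hyz hK
  have hCle : (R.pre K) ≤ cf z := R.pre_le K
  have eW : ww V (subf V z (R.pre K)) z = wf V (R.pre K) := Fam.ww_subf hC
  have eC : subf V z (R.pre K) z = (R.pre K) := subf_z hC
  have hWW : wf V (R.pre K) ≤ ww V cf z := wf_mono hCle
  have hpi' : ∀ w ∈ wf V (R.pre K), ∀ w' ∈ wf V (R.pre K), (R'.pi w = R'.pi w' ↔ R.pi w = R.pi w') := by
    intro w hw w' hw'
    rw [R'.pi_eq h' (by rw [eW]; exact hw) (by rw [eW]; exact hw'), R.pi_eq h (hWW hw) (hWW hw')]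
  have hphi' : ∀ c ∈ (R.pre K), ∀ c' ∈ (R.pre K), R.phi c = R.phi c' → R'.phi c = R'.phi c' := by
    intro c hc c' hc' e
    rw [R.phi_eq (hCle hc) (hCle hc')] at e
    rw [R'.phi_eq (by rw [eC]; exact hc) (by rw [eC]; exact hc')]
    refine ⟨by rw [eC]; exact mul_mem hc (inv_mem hc'), e.2.1, fun w hw => e.2.2 w ?_⟩
    rw [eC] at hw
    exact hWW hw
  -- `θ`
  have hs : ∀ m : M', ∃ w ∈ wf V (R.pre K), R'.pi w = m := by
    intro m
    obtain ⟨w, hw, e⟩ := R'.pi_surj m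
    exact ⟨w, by rwa [eW] at hw, e⟩
  choose s hs1 hs2 using hs
  have hθ : ∀ w ∈ wf V (R.pre K), R.pi (s (R'.pi w)) = R.pi w := by
    intro w hw
    exact (hpi' _ (hs1 _) _ hw).mp (hs2 _)
  have hadd : ∀ w ∈ wf V (R.pre K), ∀ w' ∈ wf V (R.pre K), R'.pi (w * w') = R'.pi w + R'.pi w' := by
    intro w hw w' hw'
    exact R'.pi_mul w (by rw [eW]; exact hw) w' (by rw [eW]; exact hw')
  let θ : M' →+ M :=
    { toFun := fun m => R.pi (s m)
      map_zero' := by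
        have h1 : R'.pi 1 = 0 := R'.pi_one h'
        have h2 := hθ 1 (one_mem _)
        rw [h1, R.pi_one h] at h2
        exact h2
      map_add' := by
        intro a b
        have h2 := hθ (s a * s b) (mul_mem (hs1 a) (hs1 b))
        rw [hadd _ (hs1 a) _ (hs1 b), hs2, hs2] at h2
        rw [h2, R.pi_mul _ (hWW (hs1 a)) _ (hWW (hs1 b))] }
  have hθpi : ∀ w ∈ wf V (R.pre K), θ (R'.pi w) = R.pi w := hθ
  -- `κ`
  have ht : ∀ x : K, ∃ c, ∃ hc : c ∈ (R.pre K), R.phi c = (x : H) := by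
    intro x
    obtain ⟨c, hc, e⟩ := R.phi_surj (x : H)
    exact ⟨c, R.mem_pre.mpr ⟨hc, by rw [e]; exact x.2⟩, e⟩
  choose t ht1 ht2 using ht
  have hκ : ∀ (c : G) (hc : c ∈ (R.pre K)), R'.phi (t ⟨R.phi c, (R.mem_pre.mp hc).2⟩) = R'.phi c := by
    intro c hc
    exact hphi' _ (ht1 _) _ hc (ht2 _)
  let κ : K →* H' :=
    { toFun := fun x => R'.phi (t x)
      map_one' := by
        have h1 : R.phi 1 = 1 := R.phi_one'
        have h2 := hphi' _ (ht1 1) 1 (one_mem _) (by rw [ht2, h1]; rfl)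
        rw [h2, R'.phi_one']
      map_mul' := by
        intro a b
        have h2 := hphi' _ (ht1 (a * b)) (t a * t b) (mul_mem (ht1 a) (ht1 b)) (by
          rw [ht2, R.phi_mul _ (hCle (ht1 a)) _ (hCle (ht1 b)), ht2, ht2]; rfl)
        rw [h2, R'.phi_mul _ (by rw [eC]; exact ht1 a) _ (by rw [eC]; exact ht1 b)] }
  have hκphi : ∀ (c : G) (hc : c ∈ (R.pre K)), κ ⟨R.phi c, (R.mem_pre.mp hc).2⟩ = R'.phi c := hκ
  refine ⟨θ, κ, ?_, ?_, hθpi, hκphi, ?_, ?_⟩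
  · intro a b e
    have e' : R.pi (s a) = R.pi (s b) := e
    rw [← hpi' _ (hs1 a) _ (hs1 b), hs2, hs2] at e'
    exact e'
  · intro x
    obtain ⟨c, hc, rfl⟩ := R'.phi_surj x
    rw [eC] at hc
    exact ⟨_, hκphi c hc⟩
  · intro x m
    obtain ⟨w, hw, rfl⟩ : ∃ w ∈ wf V (R.pre K), R'.pi w = m := ⟨s m, hs1 m, hs2 m⟩
    have e1 : κ x = R'.phi (t x) := rfl
    rw [e1, R'.act _ (by rw [eC]; exact ht1 x) w (by rw [eW]; exact hw),
      hθpi _ (conj_mem_wf (ht1 x) hw), hθpi w hw, ← ht2 x, R.act _ (hCle (ht1 x)) w (hWW hw)]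
  · intro m
    constructor
    · rintro ⟨m', rfl⟩
      exact ((R.mem_wf_pre h hy hy1 hyz K).mp (hs1 m')).2
    · intro hm
      have hm' : m ∈ AddSubgroup.closure (Set.range fun x : K => (x : H) • R.pi y) := hm
      obtain ⟨w, hw, e⟩ := R.pi_surj m
      have hw' : w ∈ wf V (R.pre K) := (R.mem_wf_pre h hy hy1 hyz K).mpr ⟨hw, by rw [e]; exact hm'⟩
      exact ⟨R'.pi w, by rw [hθpi w hw', e]⟩

namespace Cmp

variable {R : MRep V cf z M H} {y : G} {K : Subgroup H} {R' : MRep V (subf V z (R.pre K)) z M' H'}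
  {θ : M' →+ M} {κ : K →* H'}

theorem pi_y (c : Cmp R y K R' θ κ) (hy : y ∈ V) : θ (R'.pi y) = R.pi y :=
  c.pi y (V_le_wf V _ hy)

theorem card (c : Cmp R y K R' θ κ) : Nat.card M' = Nat.card (spn K (R.pi y)) := by
  refine Nat.card_congr (Equiv.ofBijective (fun m => (⟨θ m, (c.range _).mp ⟨m, rfl⟩⟩ : spn K (R.pi y))) ⟨?_, ?_⟩)
  · intro a b e
    exact c.inj (congrArg Subtype.val e)
  · rintro ⟨m, hm⟩
    obtain ⟨m', e⟩ := (c.range m).mpr hm
    exact ⟨m', Subtype.ext e⟩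

/-- two elements of `K` with the same action on `⟨v0^K⟩` have the same image in `H'` -/
theorem eq_of [FaithfulSMul H' M'] (c : Cmp R y K R' θ κ) {a b : K}
    (hab : ∀ m ∈ spn K (R.pi y), (a : H) • m = (b : H) • m) : κ a = κ b := by
  refine FaithfulSMul.eq_of_smul_eq_smul (α := M') fun m => c.inj ?_
  rw [c.act, c.act]
  exact hab _ ((c.range _).mp ⟨m, rfl⟩)

theorem mem_range (c : Cmp R y K R' θ κ) (m : M') : θ m ∈ spn K (R.pi y) := (c.range _).mp ⟨m, rfl⟩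

/-- the stabilizer of `v0` in `H'` comes from the one in `K` -/
theorem stab (c : Cmp R y K R' θ κ) (hy : y ∈ V) {x : K} (hx : κ x • R'.pi y = R'.pi y) :
    (x : H) • R.pi y = R.pi y := by
  rw [← c.pi_y hy, ← c.act, hx]

theorem stab' (c : Cmp R y K R' θ κ) (hy : y ∈ V) {x : K} (hx : (x : H) • R.pi y = R.pi y) :
    κ x • R'.pi y = R'.pi y := by
  apply c.inj
  rw [c.act, c.pi_y hy, hx]

end Cmp

end Cfsg.Agent.Omega.NO3S.Fit

end

section


/-!
# LEMMA PLANE, the form on the seven points of a plane (abstract)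

`E` is an elementary abelian group of order 8 with coordinates `e : 𝔽₂³ → E`; to every point `π ≠ 0` belongs a
subgroup `W π`, abelian and centralising `E`, with `[W π, W ρ] ≤ E`.  All `W ρ`, `ρ ≠ π`, act on
`W π / ⟨e π⟩` as the group of order 2 generated by `a π`.  The axioms `PForm` imply that for `π ≠ ρ` the
commutator `[w, g]` (`w ∈ W π`, `g ∈ W ρ`) is the cross product `λ_π(w) × λ_ρ(g)`, where `λ_π(w)` is the
functional vanishing on the line `⟨π, [w, a π]⟩`.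

Result (`exists_jj`): for `τ ≠ ξ` there are products `j = w₁w₂`, `j' = w₃w₄` which centralise `W ξ` and have
`[j, j'] = e τ`.
-/

set_option autoImplicit false
set_option synthInstance.maxHeartbeats 400000
set_option synthInstance.maxSize 1000
set_option maxRecDepth 100000

namespace Cfsg.Agent.Omega.NO3S.Fit.PlaneForm

open Subgroup

/-- `𝔽₂³`. -/
abbrev V3 : Type := ZMod 2 × ZMod 2 × ZMod 2

/-- The cross product. -/
def cr (a b : V3) : V3 :=
  (a.2.1 * b.2.2 + a.2.2 * b.2.1, a.1 * b.2.2 + a.2.2 * b.1, a.1 * b.2.1 + a.2.1 * b.1)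

/-- The scalar product. -/
def dt (a b : V3) : ZMod 2 := a.1 * b.1 + a.2.1 * b.2.1 + a.2.2 * b.2.2

theorem add_self : ∀ v : V3, v + v = 0 := by decide

theorem cr_add (a b c : V3) : cr a (b + c) = cr a b + cr a c := by
  obtain ⟨a1, a2, a3⟩ := a
  obtain ⟨b1, b2, b3⟩ := b
  obtain ⟨c1, c2, c3⟩ := c
  simp only [cr, Prod.mk_add_mk, Prod.mk.injEq]
  refine ⟨by ring, by ring, by ring⟩

theorem dt_add (a b c : V3) : dt a (b + c) = dt a b + dt a c := by
  obtain ⟨a1, a2, a3⟩ := a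
  obtain ⟨b1, b2, b3⟩ := b
  obtain ⟨c1, c2, c3⟩ := c
  simp only [dt, Prod.mk_add_mk]
  ring

theorem cr_self : ∀ a : V3, cr a a = 0 := by decide

theorem cr_zero : ∀ a : V3, cr a 0 = 0 := by decide

theorem dt_cr : ∀ a b : V3, dt a (cr a b) = 0 := by decide

theorem dt_cr' : ∀ a b : V3, dt a (cr b a) = 0 := by decide

theorem cr_cr : ∀ p l m : V3, cr p (cr l m) = dt p m • l + dt p l • m := by decide

theorem eq_zero_of_cr : ∀ p r y : V3, p ≠ 0 → r ≠ 0 → p ≠ r → cr p y = 0 → cr r y = 0 → y = 0 := by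
  decide

theorem eq_of_dt : ∀ p r m : V3, p ≠ 0 → r ≠ 0 → p ≠ r → dt p m = 0 → dt r m = 0 →
    m = 0 ∨ m = cr r p := by decide

theorem exists_of_dt : ∀ p m : V3, p ≠ 0 → dt p m = 0 → ∃ v, cr p v = m := by decide

theorem eq_of_cr_zero : ∀ p v : V3, p ≠ 0 → cr p v = 0 → v = 0 ∨ v = p := by decide

theorem exists_lines : ∀ x t : V3, x ≠ 0 → t ≠ 0 → t ≠ x →
    ∃ p r m n : V3, (p ≠ 0 ∧ p ≠ x ∧ p ≠ t) ∧ (r ≠ 0 ∧ r ≠ x ∧ r ≠ t) ∧ p ≠ r ∧
      dt t m = 0 ∧ dt p m = 0 ∧ dt t n = 0 ∧ dt r n = 0 ∧ cr m n = t := by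
  have key : ∀ x t : V3, x ≠ 0 → t ≠ 0 → t ≠ x → ∃ u : V3, (u ≠ 0 ∧ u ≠ x ∧ u ≠ t) ∧
      (x + u ≠ 0 ∧ x + u ≠ x ∧ x + u ≠ t) ∧ u ≠ x + u ∧
      dt t (cr t u) = 0 ∧ dt u (cr t u) = 0 ∧ dt t (cr t (x + u)) = 0 ∧
        dt (x + u) (cr t (x + u)) = 0 ∧ cr (cr t u) (cr t (x + u)) = t := by decide
  intro x t h1 h2 h3
  obtain ⟨u, hu⟩ := key x t h1 h2 h3
  exact ⟨u, x + u, cr t u, cr t (x + u), hu⟩

variable {G : Type*} [Group G]

/-- The commutator `w g w⁻¹ g⁻¹`. -/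
def cm (w g : G) : G := w * g * w⁻¹ * g⁻¹

theorem cm_eq_one {w g : G} : cm w g = 1 ↔ w * g = g * w := by
  unfold cm
  rw [mul_inv_eq_one, mul_inv_eq_iff_eq_mul]

theorem cm_inv (w g : G) : (cm w g)⁻¹ = cm g w := by
  unfold cm
  group

theorem cm_mul_left {x y z c : G} (h : cm y z = c) (hc : x * c = c * x) :
    cm (x * y) z = c * cm x z := by
  have e1 : cm (x * y) z = x * cm y z * x⁻¹ * cm x z := by
    unfold cm
    group
  rw [e1, h, hc]
  group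

theorem cm_mul_right {x y z c : G} (h : cm z y = c) (hc : x * c = c * x) :
    cm z (x * y) = cm z x * c := by
  have e1 : cm z (x * y) = cm z x * (x * cm z y * x⁻¹) := by
    unfold cm
    group
  rw [e1, h, hc]
  group

/-- The axioms. -/
structure PForm (e : V3 → G) (W : V3 → Subgroup G) (a : V3 → G) : Prop where
  e_add : ∀ u v, e (u + v) = e u * e v
  e_inj : Function.Injective e
  comm : ∀ p, p ≠ 0 → ∀ w ∈ W p, ∀ w' ∈ W p, w * w' = w' * w
  cent : ∀ p, p ≠ 0 → ∀ w ∈ W p, ∀ v, w * e v = e v * w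
  com : ∀ p r, p ≠ 0 → r ≠ 0 → p ≠ r → ∀ w ∈ W p, ∀ g ∈ W r, ∃ v, cm w g = e v
  amem : ∀ p, p ≠ 0 → ∃ r, r ≠ 0 ∧ r ≠ p ∧ a p ∈ W r
  same : ∀ p r, p ≠ 0 → r ≠ 0 → p ≠ r → ∀ g ∈ W r,
    (∀ w ∈ W p, cm w g = 1 ∨ cm w g = e p) ∨
      (∀ w ∈ W p, cm w g = cm w (a p) ∨ cm w g = cm w (a p) * e p)
  onto : ∀ p, p ≠ 0 → ∀ v, ∃ w ∈ W p, cm w (a p) = e v ∨ cm w (a p) = e (v + p)
  inj : ∀ p, p ≠ 0 → ∀ w ∈ W p, (cm w (a p) = 1 ∨ cm w (a p) = e p) →
    ∀ r, r ≠ 0 → ∀ g ∈ W r, w * g = g * w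
  one : ∀ p r, p ≠ 0 → r ≠ 0 → p ≠ r → ∃ w ∈ W p,
    (∀ g ∈ W r, cm w g = 1 ∨ cm w g = e r) ∧ ∃ g ∈ W r, cm w g = e r

/-- The coordinate of a commutator. -/
noncomputable def vl (e : V3 → G) (w g : G) : V3 := by
  classical
  exact if h : ∃ v, cm w g = e v then h.choose else 0

theorem vl_spec {e : V3 → G} {w g : G} (h : ∃ v, cm w g = e v) : cm w g = e (vl e w g) := by
  unfold vl
  rw [dif_pos h]
  exact h.choose_spec

namespace PForm

variable {e : V3 → G} {W : V3 → Subgroup G} {a : V3 → G} (h : PForm e W a)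
include h

theorem e_zero : e 0 = 1 := by
  have h1 := h.e_add 0 0
  rw [add_zero] at h1
  exact left_eq_mul.mp h1

theorem e_inv (v : V3) : (e v)⁻¹ = e v := by
  apply inv_eq_of_mul_eq_one_left
  rw [← h.e_add, add_self, h.e_zero]

theorem vl_eq {w g : G} {v : V3} (hv : cm w g = e v) : vl e w g = v :=
  h.e_inj ((vl_spec ⟨v, hv⟩).symm.trans hv)

theorem vl_symm {w g : G} (hv : ∃ v, cm w g = e v) : vl e g w = vl e w g := by
  apply h.vl_eq
  rw [← cm_inv, vl_spec hv, h.e_inv]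

theorem com' {p r : V3} (hp : p ≠ 0) (hr : r ≠ 0) {w g : G} (hw : w ∈ W p) (hg : g ∈ W r) :
    ∃ v, cm w g = e v := by
  by_cases hpr : p = r
  · subst hpr
    exact ⟨0, by rw [h.e_zero]; exact cm_eq_one.mpr (h.comm p hp w hw g hg)⟩
  · exact h.com p r hp hr hpr w hw g hg

theorem vl_mul_left {p r : V3} (hp : p ≠ 0) (hr : r ≠ 0) {w w' g : G} (hw : w ∈ W p)
    (hw' : w' ∈ W p) (hg : g ∈ W r) : vl e (w * w') g = vl e w g + vl e w' g := by
  apply h.vl_eq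
  rw [cm_mul_left (vl_spec (h.com' hp hr hw' hg)) (h.cent p hp w hw _),
    vl_spec (h.com' hp hr hw hg), ← h.e_add, add_comm]

/-- The functional `λ_π(w)`. -/
theorem a_com {p : V3} (hp : p ≠ 0) {w : G} (hw : w ∈ W p) : ∃ v, cm w (a p) = e v := by
  obtain ⟨r, hr, -, ha⟩ := h.amem p hp
  exact h.com' hp hr hw ha

omit h in
/-- `λ_π(w) = π × [w, a π]`. -/
noncomputable def lam (e : V3 → G) (a : V3 → G) (p : V3) (w : G) : V3 := cr p (vl e w (a p))

theorem lam_mul {p : V3} (hp : p ≠ 0) {w w' : G} (hw : w ∈ W p) (hw' : w' ∈ W p) :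
    lam e a p (w * w') = lam e a p w + lam e a p w' := by
  obtain ⟨r, hr, -, ha⟩ := h.amem p hp
  unfold lam
  rw [h.vl_mul_left hp hr hw hw' ha, cr_add]

omit h in
theorem dt_lam (p : V3) (w : G) : dt p (lam e a p w) = 0 := dt_cr _ _

/-- Elements with `λ = 0` are central. -/
theorem comm_of_lam {p : V3} (hp : p ≠ 0) {w : G} (hw : w ∈ W p) (h0 : lam e a p w = 0) {r : V3}
    (hr : r ≠ 0) {g : G} (hg : g ∈ W r) : w * g = g * w := by
  refine h.inj p hp w hw ?_ r hr g hg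
  rw [vl_spec (h.a_com hp hw)]
  rcases eq_of_cr_zero p _ hp h0 with h1 | h1
  · left; rw [h1, h.e_zero]
  · right; rw [h1]

/-- If `[g, w] = e ρ'` with `ρ' ∉ {0, p}` ... : the second alternative of `same`. -/
theorem lam_eq_of {p r : V3} (hp : p ≠ 0) (hr : r ≠ 0) (hpr : p ≠ r) {w g : G} (hw : w ∈ W p)
    (hg : g ∈ W r) (hwg : cm w g = e r) : lam e a p w = cr p r := by
  have hne : ¬ ∀ w ∈ W p, cm w g = 1 ∨ cm w g = e p := by
    intro hcon
    rcases hcon w hw with h1 | h1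
    · rw [hwg, ← h.e_zero] at h1
      exact hr (h.e_inj h1)
    · rw [hwg] at h1
      exact hpr (h.e_inj h1).symm
  rcases (h.same p r hp hr hpr g hg).resolve_left hne w hw with h1 | h1
  · rw [hwg] at h1
    unfold lam
    rw [h.vl_eq h1.symm]
  · rw [hwg, vl_spec (h.a_com hp hw), ← h.e_add] at h1
    have h2 := h.e_inj h1
    unfold lam
    rw [h2, cr_add, cr_self, add_zero]

/-- Elements of `W p` centralising `W r` have `λ = 0`. -/
theorem lam_zero_of {p r : V3} (hp : p ≠ 0) (hr : r ≠ 0) (hpr : p ≠ r) {w : G} (hw : w ∈ W p)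
    (hc : ∀ g ∈ W r, cm w g = 1) : lam e a p w = 0 := by
  obtain ⟨g', hg', -, g, hg, hgg⟩ := h.one r p hr hp (Ne.symm hpr)
  -- here `g' ∈ W r`, `g ∈ W p`, `[g', g] = e p`; use the pair `(p, r)` instead
  obtain ⟨w₁, hw₁, -, g₁, hg₁, h₁⟩ := h.one p r hp hr hpr
  have hne : ¬ ∀ w ∈ W p, cm w g₁ = 1 ∨ cm w g₁ = e p := by
    intro hcon
    rcases hcon w₁ hw₁ with h1 | h1
    · rw [h₁, ← h.e_zero] at h1
      exact hr (h.e_inj h1)
    · rw [h₁] at h1
      exact hpr (h.e_inj h1).symm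
  rcases (h.same p r hp hr hpr g₁ hg₁).resolve_left hne w hw with h1 | h1
  · rw [hc g₁ hg₁] at h1
    unfold lam
    rw [h.vl_eq (v := 0) (by rw [← h1, h.e_zero]), cr_zero]
  · rw [hc g₁ hg₁, vl_spec (h.a_com hp hw), ← h.e_add, ← h.e_zero] at h1
    have h2 := h.e_inj h1
    unfold lam
    have h3 : vl e w (a p) = p := by
      have h4 : vl e w (a p) + p + p = p := by rw [← h2, zero_add]
      rwa [add_assoc, add_self, add_zero] at h4
    rw [h3, cr_self]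

theorem cr_vl {p r : V3} (hp : p ≠ 0) (hr : r ≠ 0) (hpr : p ≠ r) {w g : G} (hw : w ∈ W p)
    (hg : g ∈ W r) : cr p (vl e w g) = dt p (lam e a r g) • lam e a p w := by
  by_cases hA : ∀ w ∈ W p, cm w g = 1 ∨ cm w g = e p
  · have h0 : cr p (vl e w g) = 0 := by
      rcases hA w hw with h1 | h1
      · rw [h.vl_eq (v := 0) (by rw [h1, h.e_zero]), cr_zero]
      · rw [h.vl_eq h1, cr_self]
    have h1 : dt p (lam e a r g) = 0 := by
      by_cases hex : ∃ w₀ ∈ W p, cm w₀ g = e p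
      · obtain ⟨w₀, hw₀, hwg⟩ := hex
        have h2 : cm g w₀ = e p := by rw [← cm_inv, hwg, h.e_inv]
        rw [h.lam_eq_of hr hp (Ne.symm hpr) hg hw₀ h2]
        exact dt_cr' _ _
      · push Not at hex
        have h2 : lam e a r g = 0 := by
          refine h.lam_zero_of hr hp (Ne.symm hpr) hg fun w hw => ?_
          have h3 := (hA w hw).resolve_right (hex w hw)
          rw [← cm_inv, h3, inv_one]
        rw [h2]
        simp [dt]
    rw [h0, h1, zero_smul]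
  · have hB := (h.same p r hp hr hpr g hg).resolve_left hA
    have h0 : cr p (vl e w g) = lam e a p w := by
      unfold lam
      rcases hB w hw with h1 | h1
      · rw [h.vl_eq (h1.trans (vl_spec (h.a_com hp hw)))]
      · rw [vl_spec (h.a_com hp hw), ← h.e_add] at h1
        rw [h.vl_eq h1, cr_add, cr_self, add_zero]
    have h1 : dt p (lam e a r g) = 1 := by
      by_contra hcon
      have hz : ∀ x : ZMod 2, x ≠ 1 → x = 0 := by decide
      have h2 := hz _ hcon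
      apply hA
      rcases eq_of_dt p r (lam e a r g) hp hr hpr h2 (dt_lam r g) with h3 | h3
      · intro w hw
        left
        exact cm_eq_one.mpr (h.comm_of_lam hr hg h3 hp hw).symm
      · obtain ⟨g₁, hg₁, hall, w₁, hw₁, hgw⟩ := h.one r p hr hp (Ne.symm hpr)
        have h4 := h.lam_eq_of hr hp (Ne.symm hpr) hg₁ hw₁ hgw
        have h5 : lam e a r (g * g₁) = 0 := by
          rw [h.lam_mul hr hg hg₁, h3, h4, add_self]
        intro w hw
        have h6 := h.comm_of_lam hr ((W r).mul_mem hg hg₁) h5 hp hw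
        -- `w` commutes with `g g₁`
        have h7 : cm w (g * g₁) = 1 := cm_eq_one.mpr h6.symm
        obtain ⟨v, hv⟩ := h.com' hp hr hw hg₁
        rw [cm_mul_right hv (h.cent r hr g hg v)] at h7
        have h8 : cm w g = e v := by
          rw [mul_eq_one_iff_eq_inv, h.e_inv] at h7
          exact h7
        have h9 : cm g₁ w = e v := by rw [← cm_inv, hv, h.e_inv]
        rcases hall w hw with h10 | h10
        · left; rw [h8, ← h9, h10]
        · right; rw [h8, ← h9, h10]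
    rw [h0, h1, one_smul]

/-- **The commutator is the cross product.** -/
theorem vl_eq_cr {p r : V3} (hp : p ≠ 0) (hr : r ≠ 0) (hpr : p ≠ r) {w g : G} (hw : w ∈ W p)
    (hg : g ∈ W r) : vl e w g = cr (lam e a p w) (lam e a r g) := by
  have h1 := h.cr_vl hp hr hpr hw hg
  have h2 := h.cr_vl hr hp (Ne.symm hpr) hg hw
  rw [h.vl_symm (h.com' hp hr hw hg)] at h2
  have h3 : cr p (cr (lam e a p w) (lam e a r g)) = dt p (lam e a r g) • lam e a p w := by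
    rw [cr_cr, dt_lam, zero_smul, add_zero]
  have h4 : cr r (cr (lam e a p w) (lam e a r g)) = dt r (lam e a p w) • lam e a r g := by
    rw [cr_cr, dt_lam, zero_smul, zero_add]
  have h5 : vl e w g + cr (lam e a p w) (lam e a r g) = 0 := by
    apply eq_zero_of_cr p r _ hp hr hpr
    · rw [cr_add, h1, h3, add_self]
    · rw [cr_add, h2, h4, add_self]
  have h6 : vl e w g + cr (lam e a p w) (lam e a r g) + cr (lam e a p w) (lam e a r g) =
      cr (lam e a p w) (lam e a r g) := by rw [h5, zero_add]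
  rwa [add_assoc, add_self, add_zero] at h6

/-- Every functional vanishing at `p` is some `λ_p(w)`. -/
theorem exists_lam {p : V3} (hp : p ≠ 0) {m : V3} (hm : dt p m = 0) :
    ∃ w ∈ W p, lam e a p w = m := by
  obtain ⟨v, hv⟩ := exists_of_dt p m hp hm
  obtain ⟨w, hw, h1⟩ := h.onto p hp v
  refine ⟨w, hw, ?_⟩
  unfold lam
  rcases h1 with h1 | h1
  · rw [h.vl_eq h1, hv]
  · rw [h.vl_eq h1, cr_add, cr_self, add_zero, hv]

/-- The product of elements over the same line at two points centralises the other points. -/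
theorem comm_pair {x t p m : V3} (hx : x ≠ 0) (ht : t ≠ 0) (hp : p ≠ 0) (hxt : x ≠ t)
    (hxp : x ≠ p) {w₁ w₂ : G} (h1 : w₁ ∈ W t) (h2 : w₂ ∈ W p) (hl1 : lam e a t w₁ = m)
    (hl2 : lam e a p w₂ = m) {w : G} (hw : w ∈ W x) : w * (w₁ * w₂) = w₁ * w₂ * w := by
  rw [← cm_eq_one, cm_mul_right (vl_spec (h.com' hx hp hw h2)) (h.cent t ht w₁ h1 _),
    vl_spec (h.com' hx ht hw h1), ← h.e_add, h.vl_eq_cr hx hp hxp hw h2,
    h.vl_eq_cr hx ht hxt hw h1, hl1, hl2, add_self, h.e_zero]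

/-- **(b)** For `t ≠ x` there are products `j = w₁w₂`, `j' = w₃w₄` centralising `W x` with
`[j, j'] = e t`. -/
theorem exists_jj {x t : V3} (hx : x ≠ 0) (ht : t ≠ 0) (htx : t ≠ x) :
    ∃ p r : V3, p ≠ 0 ∧ r ≠ 0 ∧ ∃ w₁ ∈ W t, ∃ w₂ ∈ W p, ∃ w₃ ∈ W t, ∃ w₄ ∈ W r,
      (∀ w ∈ W x, w * (w₁ * w₂) = w₁ * w₂ * w) ∧ (∀ w ∈ W x, w * (w₃ * w₄) = w₃ * w₄ * w) ∧
      cm (w₁ * w₂) (w₃ * w₄) = e t := by
  obtain ⟨p, r, m, n, ⟨hp, hpx, hpt⟩, ⟨hr, hrx, hrt⟩, hpr, h1, h2, h3, h4, h5⟩ :=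
    exists_lines x t hx ht htx
  obtain ⟨w₁, hw₁, hl₁⟩ := h.exists_lam ht h1
  obtain ⟨w₂, hw₂, hl₂⟩ := h.exists_lam hp h2
  obtain ⟨w₃, hw₃, hl₃⟩ := h.exists_lam ht h3
  obtain ⟨w₄, hw₄, hl₄⟩ := h.exists_lam hr h4
  refine ⟨p, r, hp, hr, w₁, hw₁, w₂, hw₂, w₃, hw₃, w₄, hw₄, ?_, ?_, ?_⟩
  · intro w hw
    exact h.comm_pair hx ht hp (Ne.symm htx) (Ne.symm hpx) hw₁ hw₂ hl₁ hl₂ hw
  · intro w hw
    exact h.comm_pair hx ht hr (Ne.symm htx) (Ne.symm hrx) hw₃ hw₄ hl₃ hl₄ hw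
  · have c13 : cm w₁ w₃ = e 0 := by
      rw [h.e_zero]
      exact cm_eq_one.mpr (h.comm t ht w₁ hw₁ w₃ hw₃)
    have c14 : cm w₁ w₄ = e t := by
      rw [vl_spec (h.com' ht hr hw₁ hw₄), h.vl_eq_cr ht hr (Ne.symm hrt) hw₁ hw₄, hl₁, hl₄, h5]
    have c23 : cm w₂ w₃ = e t := by
      rw [vl_spec (h.com' hp ht hw₂ hw₃), h.vl_eq_cr hp ht hpt hw₂ hw₃, hl₂, hl₃, h5]
    have c24 : cm w₂ w₄ = e t := by
      rw [vl_spec (h.com' hp hr hw₂ hw₄), h.vl_eq_cr hp hr hpr hw₂ hw₄, hl₂, hl₄, h5]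
    have d1 : cm w₁ (w₃ * w₄) = e t := by
      rw [cm_mul_right c14 (h.cent t ht w₃ hw₃ t), c13, ← h.e_add, zero_add]
    have d2 : cm w₂ (w₃ * w₄) = e 0 := by
      rw [cm_mul_right c24 (h.cent t ht w₃ hw₃ t), c23, ← h.e_add, add_self]
    rw [cm_mul_left d2 (h.cent t ht w₁ hw₁ 0), d1, ← h.e_add, zero_add]

end PForm

end Cfsg.Agent.Omega.NO3S.Fit.PlaneForm

end

section


/-!
# LEMMA PLANE: the plane `E` and its seven points

`Pl V E C Q W WY z y a`: the situation of LEMMA PLANE (helper311 #13963, section 2): `V = ⟨z, y⟩ ≤ E`, `|E| = 8`,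
`W = W_z`, `WY = W_y`, `Q = Q_z` the kernel of `C = C_z` on `W / ⟨z⟩`, `a ∈ W_y` an involution with
`W_y ≤ Q ∪ Qa`, `E / ⟨z⟩ = [W / ⟨z⟩, a]` etc.
`Mov` : moreover `f ∈ C` commutes with `a` modulo `Q` and does not normalise `V`.
Then `N_G(E)` is 2-transitive on `E#`, `N_G(E) ∩ C_G(z) ≤ C`, and the conjugates `W_p` of `W` satisfy
`PlaneForm.PForm` (`pform`).
-/

set_option autoImplicit false
set_option linter.unusedSectionVars false

namespace Cfsg.Agent.Omega.NO3S.Fit.PlaneCore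

open Subgroup Cfsg Cfsg.Agent.MinSimple.Geo Cfsg.Agent.Omega.NO3S.Fit.PlaneForm

universe u

variable {G : Type u} [Group G]

theorem conj_cm (g x y : G) : g * cm x y * g⁻¹ = cm (g * x * g⁻¹) (g * y * g⁻¹) := by
  unfold cm
  group

theorem mem_zp {z x : G} (hz : z * z = 1) : x ∈ zpowers z ↔ x = 1 ∨ x = z := by
  constructor
  · intro hx
    obtain ⟨k, rfl⟩ := mem_zpowers_iff.mp hx
    rcases Int.even_or_odd k with ⟨j, hj⟩ | ⟨j, hj⟩
    · left
      rw [hj, zpow_add, ← mul_zpow_mul_zpow_self hz]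
    · right
      rw [hj, zpow_add, zpow_mul, zpow_one]
      have : z ^ (2 : ℤ) = 1 := by rw [zpow_two, hz]
      rw [this, one_zpow, one_mul]
  · rintro (rfl | rfl)
    · exact one_mem _
    · exact mem_zpowers _
where
  mul_zpow_mul_zpow_self {z : G} {j : ℤ} (hz : z * z = 1) : (1 : G) = z ^ j * z ^ j := by
    rw [← zpow_add, ← two_mul, zpow_mul]
    have : z ^ (2 : ℤ) = 1 := by rw [zpow_two, hz]
    rw [this, one_zpow]

theorem cent_NV'' {V : Subgroup G} {g : G} (hg : ∀ x ∈ V, g * x = x * g) :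
    g ∈ normalizer (V : Set G) := by
  rw [mem_normalizer_iff]
  intro x
  constructor
  · intro hx
    rwa [hg x hx, mul_inv_cancel_right]
  · intro hx
    have h1 := hg _ hx
    have h2 : x = g * x * g⁻¹ := by
      have h3 : g * (g * x * g⁻¹) = g * x := by rw [h1]; group
      exact (mul_left_cancel h3).symm
    rw [h2]
    exact hx

/-- The situation of LEMMA PLANE. -/
structure Pl (V E C Q W WY : Subgroup G) (z y a : G) : Prop where
  memQ : ∀ c, c ∈ Q ↔ c ∈ C ∧ ∀ w ∈ W, cm c w = 1 ∨ cm c w = z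
  Cz : ∀ c ∈ C, c * z = z * c
  CW : ∀ c ∈ C, ∀ w ∈ W, c * w * c⁻¹ ∈ W
  ge : ∀ g ∈ normalizer (V : Set G), g * z = z * g → g ∈ C
  ab : ∀ w ∈ W, ∀ w' ∈ W, w * w' = w' * w
  sqW : ∀ w ∈ W, w * w = 1
  zz : z * z = 1
  yy : y * y = 1
  z1 : z ≠ 1
  y1 : y ≠ 1
  yz : y ≠ z
  zV : z ∈ V
  yV : y ∈ V
  four : ∀ v ∈ V, v = 1 ∨ v = z ∨ v = y ∨ v = z * y
  VE : V ≤ E
  EW : E ≤ W
  sqE : ∀ u ∈ E, u * u = 1
  idx : ∀ u ∈ E, ∀ v ∈ E, u ∉ V → v ∉ V → u * v ∈ V
  neE : ∃ u ∈ E, u ∉ V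
  NE : normalizer (V : Set G) ≤ normalizer (E : Set G)
  tr : ∀ v ∈ V, v ≠ 1 → ∃ g ∈ normalizer (V : Set G), g * z * g⁻¹ = v
  sw : ∃ q ∈ Q, q ∈ normalizer (V : Set G) ∧ q * y * q⁻¹ = z * y
  trE : ∀ u ∈ E, u ∉ V → ∀ v ∈ V, ∃ c, (∀ x ∈ V, c * x = x * c) ∧ c * u * c⁻¹ = u * v
  WYdef : ∀ g ∈ normalizer (V : Set G), g * z * g⁻¹ = y → cj g W = WY
  aW : a ∈ WY
  aa : a * a = 1
  aQ : a ∉ Q
  comE : ∀ w ∈ W, ∀ g ∈ WY, cm w g ∈ E
  k1 : ∀ g ∈ WY, g ∈ Q ∨ g * a ∈ Q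
  onto : ∀ u ∈ E, ∃ w ∈ W, cm w a = u ∨ cm w a = u * z
  inj : ∀ w ∈ W, (cm w a = 1 ∨ cm w a = z) → ∀ g ∈ WY, w * g = g * w
  one : ∃ w ∈ W, (∀ g ∈ WY, cm w g = 1 ∨ cm w g = y) ∧ ∃ g ∈ WY, cm w g = y

namespace Pl

variable {V E C Q W WY : Subgroup G} {z y a : G} (h : Pl V E C Q W WY z y a)
include h

theorem zE : z ∈ E := h.VE h.zV

theorem yE : y ∈ E := h.VE h.yV

theorem zW : z ∈ W := h.EW h.zE

theorem commE {u v : G} (hu : u ∈ E) (hv : v ∈ E) : u * v = v * u := h.ab u (h.EW hu) v (h.EW hv)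

theorem QC {q : G} (hq : q ∈ Q) : q ∈ C := ((h.memQ q).mp hq).1

/-- `C_G(V) ≤ C` -/
theorem cent_C {g : G} (hg : ∀ x ∈ V, g * x = x * g) : g ∈ C := by
  exact h.ge g (cent_NV'' hg) (hg z h.zV)

theorem cent_NV {g : G} (hg : ∀ x ∈ V, g * x = x * g) : g ∈ normalizer (V : Set G) := cent_NV'' hg

theorem W_cent {w x : G} (hw : w ∈ W) (hx : x ∈ E) : w * x = x * w := h.ab w hw x (h.EW hx)

theorem W_C {w : G} (hw : w ∈ W) : w ∈ C := h.cent_C fun x hx => h.W_cent hw (h.VE hx)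

theorem WY_cent {w x : G} (hw : w ∈ WY) (hx : x ∈ E) : w * x = x * w := by
  obtain ⟨g, hg, hgz⟩ := h.tr y h.yV h.y1
  rw [← h.WYdef g hg hgz, mem_cj] at hw
  have hx' : g⁻¹ * x * g ∈ E := by
    have := (mem_normalizer_iff'.mp (inv_mem (h.NE hg)) (x * g)).mp (by simpa using hx)
    rwa [← mul_assoc] at this
  have h1 := h.W_cent hw hx'
  have h2 : g * ((g⁻¹ * w * g) * (g⁻¹ * x * g)) * g⁻¹ = g * ((g⁻¹ * x * g) * (g⁻¹ * w * g)) * g⁻¹ := by
    rw [h1]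
  have e1 : g * ((g⁻¹ * w * g) * (g⁻¹ * x * g)) * g⁻¹ = w * x := by group
  have e2 : g * ((g⁻¹ * x * g) * (g⁻¹ * w * g)) * g⁻¹ = x * w := by group
  rwa [e1, e2] at h2

theorem WY_C {w : G} (hw : w ∈ WY) : w ∈ C := h.cent_C fun x hx => h.WY_cent hw (h.VE hx)

theorem aC : a ∈ C := h.WY_C h.aW

theorem a_inv : a⁻¹ = a := inv_eq_of_mul_eq_one_left h.aa

/-- `Q` is normal in `C`. -/
theorem Q_conj {c q : G} (hc : c ∈ C) (hq : q ∈ Q) : c * q * c⁻¹ ∈ Q := by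
  rw [h.memQ]
  refine ⟨C.mul_mem (C.mul_mem hc (h.QC hq)) (C.inv_mem hc), fun w hw => ?_⟩
  have hw' : c⁻¹ * w * c ∈ W := by
    have := h.CW c⁻¹ (C.inv_mem hc) w hw
    rwa [inv_inv] at this
  have e : cm (c * q * c⁻¹) w = c * cm q (c⁻¹ * w * c) * c⁻¹ := by
    rw [conj_cm]
    congr 1
    group
  rw [e]
  rcases ((h.memQ q).mp hq).2 _ hw' with h1 | h1
  · left; rw [h1]; group
  · right; rw [h1, h.Cz c hc]; group

/-- For `q ∈ Q`, `w ∈ W`: `q w q⁻¹ = w` or `z w`. -/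
theorem Q_act {q w : G} (hq : q ∈ Q) (hw : w ∈ W) : q * w * q⁻¹ = w ∨ q * w * q⁻¹ = z * w := by
  rcases ((h.memQ q).mp hq).2 w hw with h1 | h1
  · left
    unfold cm at h1
    exact mul_inv_eq_one.mp h1
  · right
    unfold cm at h1
    exact mul_inv_eq_iff_eq_mul.mp h1

/-- `q` normalises every subgroup between `z` and `W`. -/
theorem Q_E {q u : G} (hq : q ∈ Q) (hu : u ∈ E) : q * u * q⁻¹ ∈ E := by
  rcases h.Q_act hq (h.EW hu) with h1 | h1
  · rwa [h1]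
  · rw [h1]; exact E.mul_mem h.zE hu

end Pl

/-- `f ∈ C` commutes with `a` modulo `Q` and does not normalise `V`. -/
structure Mov (V E C Q W WY : Subgroup G) (z y a f : G) : Prop extends Pl V E C Q W WY z y a where
  fC : f ∈ C
  fa : f * a * f⁻¹ * a⁻¹ ∈ Q
  fV : f ∉ normalizer (V : Set G)

namespace Mov

variable {V E C Q W WY : Subgroup G} {z y a f : G} (h : Mov V E C Q W WY z y a f)
include h

theorem f_le {u : G} (hu : u ∈ E) : f * u * f⁻¹ ∈ E := by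
  -- first for the commutators
  have key : ∀ w ∈ W, f * cm w a * f⁻¹ ∈ E := by
    intro w hw
    have hw' := h.CW f h.fC w hw
    set w' := f * w * f⁻¹ with hw'def
    set q := f * a * f⁻¹ * a⁻¹ with hq
    have e1 : f * a * f⁻¹ = q * a := by rw [hq]; group
    have e2 : f * cm w a * f⁻¹ = cm w' q * (q * cm w' a * q⁻¹) := by
      rw [conj_cm, e1, ← hw'def]
      unfold cm
      group
    rw [e2]
    have h1 : cm w' q ∈ E := by
      rcases ((h.memQ q).mp h.fa).2 w' hw' with h2 | h2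
      · rw [← cm_inv, h2, inv_one]; exact E.one_mem
      · rw [← cm_inv, h2]; exact E.inv_mem h.zE
    exact E.mul_mem h1 (h.Q_E h.fa (h.comE w' hw' a h.aW))
  have hfz : f * z * f⁻¹ = z := by rw [h.Cz f h.fC]; group
  obtain ⟨w, hw, h1⟩ := h.onto u hu
  rcases h1 with h1 | h1
  · rw [← h1]; exact key w hw
  · have h2 : u = cm w a * z := by rw [h1, mul_assoc, h.zz, mul_one]
    have e : f * u * f⁻¹ = (f * cm w a * f⁻¹) * (f * z * f⁻¹) := by rw [h2]; group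
    rw [e, hfz]
    exact E.mul_mem (key w hw) h.zE

variable [Finite G]

theorem f_NE : f ∈ normalizer (E : Set G) := by
  rw [mem_normalizer_iff_cj]
  have h1 : cj f E ≤ E := by
    rintro _ ⟨u, hu, rfl⟩
    exact h.f_le hu
  exact Subgroup.eq_of_le_of_card_ge h1 (by rw [card_cj])

omit [Finite G] in
theorem conj_E {g u : G} (hg : g ∈ normalizer (E : Set G)) (hu : u ∈ E) : g * u * g⁻¹ ∈ E :=
  (mem_normalizer_iff.mp hg u).mp hu

omit [Finite G] in
theorem conj_E' {g u : G} (hg : g ∈ normalizer (E : Set G)) (hu : u ∈ E) : g⁻¹ * u * g ∈ E := by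
  have := h.conj_E (inv_mem hg) hu
  rwa [inv_inv] at this

omit [Finite G] in
/-- An element of `N(E)` commuting with `z` and mapping `y` into `V` normalises `V`. -/
theorem mem_NV {g : G} (hz : g * z = z * g) (hy : g * y * g⁻¹ ∈ V) [Finite V] :
    g ∈ normalizer (V : Set G) := by
  rw [mem_normalizer_iff_cj]
  have h1 : cj g V ≤ V := by
    rintro _ ⟨v, hv, rfl⟩
    change g * v * g⁻¹ ∈ V
    have hz' : g * z * g⁻¹ = z := by rw [hz]; group
    rcases h.four v hv with rfl | rfl | rfl | rfl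
    · simp
    · rw [hz']; exact h.zV
    · exact hy
    · have e : g * (z * y) * g⁻¹ = (g * z * g⁻¹) * (g * y * g⁻¹) := by group
      rw [e, hz']
      exact V.mul_mem h.zV hy
  exact Subgroup.eq_of_le_of_card_ge h1 (by rw [card_cj])

theorem fy : f * y * f⁻¹ ∉ V := fun hcon => h.fV (h.mem_NV (h.Cz f h.fC) hcon)

/-- A point of `E` outside `V` is the image of `f y f⁻¹` under an element of `C_G(V)`. -/
theorem exists_c {u : G} (hu : u ∈ E) (huV : u ∉ V) :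
    ∃ c, (∀ x ∈ V, c * x = x * c) ∧ c * (f * y * f⁻¹) * c⁻¹ = u := by
  have h1 := h.idx _ (h.f_le h.yE) _ hu h.fy huV
  obtain ⟨c, hc, h2⟩ := h.trE _ (h.f_le h.yE) h.fy _ h1
  refine ⟨c, hc, ?_⟩
  rw [h2, ← mul_assoc, h.sqE _ (h.f_le h.yE), one_mul]

/-- The elements of `C` commuting with `a` modulo `Q`. -/
def NA (_ : Mov V E C Q W WY z y a f) (g : G) : Prop := g ∈ C ∧ g * a * g⁻¹ * a⁻¹ ∈ Q

omit [Finite G] in
theorem NA_mul {g g' : G} (h1 : h.NA g) (h2 : h.NA g') : h.NA (g * g') := by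
  refine ⟨C.mul_mem h1.1 h2.1, ?_⟩
  have e : g * g' * a * (g * g')⁻¹ * a⁻¹ =
      (g * (g' * a * g'⁻¹ * a⁻¹) * g⁻¹) * (g * a * g⁻¹ * a⁻¹) := by group
  rw [e]
  exact Q.mul_mem (h.Q_conj h1.1 h2.2) h1.2

omit [Finite G] in
theorem NA_inv {g : G} (h1 : h.NA g) : h.NA g⁻¹ := by
  refine ⟨C.inv_mem h1.1, ?_⟩
  have e' : g⁻¹ * a * g⁻¹⁻¹ * a⁻¹ = g⁻¹ * (g * a * g⁻¹ * a⁻¹)⁻¹ * g⁻¹⁻¹ := by group
  rw [e']
  exact h.Q_conj (C.inv_mem h1.1) (Q.inv_mem h1.2)

omit [Finite G] in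
theorem NA_Q {q : G} (hq : q ∈ Q) : h.NA q := by
  refine ⟨h.QC hq, ?_⟩
  have e : q * a * q⁻¹ * a⁻¹ = q * (a * q⁻¹ * a⁻¹) := by group
  rw [e]
  exact Q.mul_mem hq (h.Q_conj h.aC (Q.inv_mem hq))

/-- `N_G(V) ∩ C_G(z)` centralises `a` modulo `Q`. -/
theorem NA_NV {g : G} (hg : g ∈ normalizer (V : Set G)) (hz : g * z = z * g) : h.NA g := by
  have key : ∀ g ∈ normalizer (V : Set G), g * z = z * g → g * y * g⁻¹ = y → h.NA g := by
    intro g hg hz hy
    have hgC := h.ge g hg hz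
    refine ⟨hgC, ?_⟩
    have hmem : g * a * g⁻¹ ∈ WY := by
      obtain ⟨k, hk, hkz⟩ := h.tr y h.yV h.y1
      have h1 : cj (g * k) W = WY := h.WYdef (g * k) (mul_mem hg hk) (by
        have e : g * k * z * (g * k)⁻¹ = g * (k * z * k⁻¹) * g⁻¹ := by group
        rw [e, hkz, hy])
      rw [← h1, ← cj_cj, h.WYdef k hk hkz]
      exact conj_mem_cj h.aW
    rcases h.k1 _ hmem with h1 | h1
    · exfalso
      apply h.aQ
      have h2 := h.Q_conj (C.inv_mem hgC) h1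
      have e : g⁻¹ * (g * a * g⁻¹) * g⁻¹⁻¹ = a := by group
      rwa [e] at h2
    · rwa [h.a_inv]
  have hy := (mem_normalizer_iff.mp hg y).mp h.yV
  rcases h.four _ hy with h1 | h1 | h1 | h1
  · exfalso
    apply h.y1
    have : y = g⁻¹ * (g * y * g⁻¹) * g := by group
    rw [this, h1]; group
  · exfalso
    apply h.yz
    have : y = g⁻¹ * (g * y * g⁻¹) * g := by group
    rw [this, h1, mul_assoc, ← hz]; group
  · exact key g hg hz h1
  · obtain ⟨q, hq, hqV, hqy⟩ := h.sw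
    have hqz := h.Cz q (h.QC hq)
    have h2 : h.NA (q⁻¹ * g) := by
      refine key _ (mul_mem (inv_mem hqV) hg) ?_ ?_
      · rw [mul_assoc, hz, ← mul_assoc, ← mul_assoc]
        congr 1
        exact (inv_mul_eq_iff_eq_mul.mpr (by rw [← mul_assoc, hqz, mul_inv_cancel_right]))
      · have e : q⁻¹ * g * y * (q⁻¹ * g)⁻¹ = q⁻¹ * (g * y * g⁻¹) * q := by group
        rw [e, h1, ← hqy]; group
    have h3 := h.NA_mul (h.NA_Q hq) h2
    rwa [mul_inv_cancel_left] at h3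

/-- **`N_G(E) ∩ C_G(z)` lies in `C` and centralises `a` modulo `Q`.** -/
theorem NA_of {g : G} (hg : g ∈ normalizer (E : Set G)) (hz : g * z = z * g) : h.NA g := by
  by_cases hgy : g * y * g⁻¹ ∈ V
  · exact h.NA_NV (h.mem_NV hz hgy) hz
  · obtain ⟨c, hc, hcu⟩ := h.exists_c (h.conj_E hg h.yE) hgy
    have hcC := h.cent_C hc
    have hcz := hc z h.zV
    have hfz := h.Cz f h.fC
    have h1 : h.NA (c * f) := h.NA_mul (h.NA_NV (h.cent_NV hc) hcz) ⟨h.fC, h.fa⟩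
    have hz' : (c * f)⁻¹ * g * z = z * ((c * f)⁻¹ * g) := by
      have hcf : c * f * z = z * (c * f) := by rw [mul_assoc, hfz, ← mul_assoc, hcz, mul_assoc]
      have h2 : (c * f)⁻¹ * z = z * (c * f)⁻¹ := by
        rw [inv_mul_eq_iff_eq_mul, ← mul_assoc, hcf, mul_inv_cancel_right]
      rw [mul_assoc, hz, ← mul_assoc, h2, mul_assoc]
    have hy' : (c * f)⁻¹ * g * y * ((c * f)⁻¹ * g)⁻¹ = y := by
      have e : (c * f)⁻¹ * g * y * ((c * f)⁻¹ * g)⁻¹ = f⁻¹ * (c⁻¹ * (g * y * g⁻¹) * c) * f := by group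
      rw [e, ← hcu]; group
    have h2 : h.NA ((c * f)⁻¹ * g) := h.NA_NV (h.mem_NV hz' (by rw [hy']; exact h.yV)) hz'
    have h3 := h.NA_mul h1 h2
    rwa [mul_inv_cancel_left] at h3

/-- transitivity on the points -/
theorem tr_E {p : G} (hp : p ∈ E) (hp1 : p ≠ 1) : ∃ g ∈ normalizer (E : Set G), g * z * g⁻¹ = p := by
  by_cases hpV : p ∈ V
  · obtain ⟨g, hg, hgz⟩ := h.tr p hpV hp1
    exact ⟨g, h.NE hg, hgz⟩
  · obtain ⟨g, hg, hgz⟩ := h.tr y h.yV h.y1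
    obtain ⟨c, hc, hcu⟩ := h.exists_c hp hpV
    refine ⟨c * f * g, mul_mem (mul_mem (h.NE (h.cent_NV hc)) h.f_NE) (h.NE hg), ?_⟩
    have e : c * f * g * z * (c * f * g)⁻¹ = c * (f * (g * z * g⁻¹) * f⁻¹) * c⁻¹ := by group
    rw [e, hgz, hcu]

/-- transitivity of the stabiliser of `z` -/
theorem tr_E' {r : G} (hr : r ∈ E) (hr1 : r ≠ 1) (hrz : r ≠ z) :
    ∃ g ∈ normalizer (E : Set G), g * z = z * g ∧ g * y * g⁻¹ = r := by
  by_cases hrV : r ∈ V
  · rcases h.four r hrV with h1 | h1 | h1 | h1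
    · exact absurd h1 hr1
    · exact absurd h1 hrz
    · exact ⟨1, one_mem _, by simp, by simp [h1]⟩
    · obtain ⟨q, hq, hqV, hqy⟩ := h.sw
      exact ⟨q, h.NE hqV, h.Cz q (h.QC hq), by rw [hqy, h1]⟩
  · obtain ⟨c, hc, hcu⟩ := h.exists_c hr hrV
    refine ⟨c * f, mul_mem (h.NE (h.cent_NV hc)) h.f_NE, ?_, ?_⟩
    · rw [mul_assoc, h.Cz f h.fC, ← mul_assoc, hc z h.zV, mul_assoc]
    · have e : c * f * y * (c * f)⁻¹ = c * (f * y * f⁻¹) * c⁻¹ := by group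
      rw [e, hcu]

/-- `W_p` is well defined -/
theorem cj_W_eq {g g' : G} (hg : g ∈ normalizer (E : Set G)) (hg' : g' ∈ normalizer (E : Set G))
    (hz : g * z * g⁻¹ = g' * z * g'⁻¹) : cj g W = cj g' W := by
  have h1 : h.NA (g'⁻¹ * g) := by
    refine h.NA_of (mul_mem (inv_mem hg') hg) ?_
    have e : g'⁻¹ * g * z = g'⁻¹ * (g * z * g⁻¹) * g := by group
    rw [e, hz]; group
  have h2 : cj (g'⁻¹ * g) W = W := by
    have hle : ∀ c ∈ C, cj c W ≤ W := by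
      rintro c hc _ ⟨w, hw, rfl⟩
      exact h.CW c hc w hw
    apply le_antisymm (hle _ h1.1)
    rw [← cj_cj_inv (g'⁻¹ * g) W]
    exact cj_mono (by rw [cj_cj_inv]; exact hle _ (C.inv_mem h1.1))
  have h3 : cj g' (cj (g'⁻¹ * g) W) = cj g' W := by rw [h2]
  rwa [cj_cj, mul_inv_cancel_left] at h3

theorem cj_W_y {g : G} (hg : g ∈ normalizer (E : Set G)) (hz : g * z * g⁻¹ = y) : cj g W = WY := by
  obtain ⟨k, hk, hkz⟩ := h.tr y h.yV h.y1
  rw [← h.WYdef k hk hkz]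
  exact h.cj_W_eq hg (h.NE hk) (hz.trans hkz.symm)

end Mov

end Cfsg.Agent.Omega.NO3S.Fit.PlaneCore

end
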