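import Cfsg.Agent.Mrg.Omega.NO3S.Fit.Cmp
import Cfsg.Agent.Mrg.Omega.NO3S.Fit.PlaneAct
import Cfsg.Agent.Mrg.Omega.NO3S.Fit.AbsMain
import Cfsg.Agent.Mrg.Omega.NO3S.Fit.MTri.Fin


/-!
# NO-3S, `q = 2`, `n = 1` (helper311's text #13963): the module context of the family (`k = 1`), the subfamilies, the case M12

* `Fam.ctx` : `Abs.Ctx (R.pi y) (R.phi w) (R.img T)`, `w ∈ W_y - Q_z`;
* `Fam.subfam` : the subfamily of `K` if some `m ∈ ⟨v0^K⟩` has `a m - m ∉ {0, v0}`;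
* `Fam.m12_false` : (M12) is impossible.
-/

set_option autoImplicit false
set_option linter.unusedSectionVars false

namespace Cfsg.Agent.Omega.NO3S.Fit

open Subgroup Cfsg Cfsg.Agent.ZN Cfsg.Agent.MinSimple.Geo Cfsg.Agent.Omega.CaseL
open Cfsg.Agent.ZN.Block (conj_mem_of_normalizer conj_mem_of_normalizer' le_normalizer_of_forall
  mem_normalizer_of)

universe u

variable {G : Type u} [Group G] {T V : Subgroup G} {z : G} {cf : G → Subgroup G}
variable {M H : Type u} [AddCommGroup M] [Group H] [DistribMulAction H M]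

theorem spn_eq_sp (K : Subgroup H) (v : M) : spn K v = Abs.sp K v := by
  unfold spn Abs.sp
  congr 1
  ext m
  constructor
  · rintro ⟨k, rfl⟩
    exact ⟨k, k.2, rfl⟩
  · rintro ⟨k, hk, rfl⟩
    exact ⟨⟨k, hk⟩, rfl⟩

namespace Fam

/-- **the module context** -/
theorem ctx [Finite G] [Finite M] [FaithfulSMul H M] (h : Fam T V z cf) (hk : One1 V cf)
    (R : MRep V cf z M H) {y : G} (hy : y ∈ V) (hy1 : y ≠ 1) (hyz : y ≠ z) {w : G} (hw : w ∈ ww V cf y)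
    (hwz : w ∉ qq V cf z) : Abs.Ctx (R.pi y) (R.phi w) (R.img T) where
  two := R.two h
  ne := R.v0_ne h hy hy1 hyz
  span := R.span h hy hy1 hyz
  sq := R.sq_A h hy hy1 hw
  a1 := R.phi_ne_one (h.ww_le_cf' hy hy1 h.ln.z_mem h.ln.z_ne hw) hwz
  fix := R.A_v0 h hy hy1 hy hw
  cen := fun _ hx => R.cen_A h hk hy hy1 hyz hw hx
  T2 := R.img_T_two h
  Ti := R.img_T_index h
  T0 := fun _ ht => R.img_T_fix h hy hy1 hyz ht
  FIX := by
    rintro m ⟨n, rfl⟩ hm0 hT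
    exact (R.fix_A h hy hy1 hyz hy hy1 hyz hw hT).resolve_left hm0
  le4 := by
    classical
    obtain ⟨u0, hu⟩ := R.br_cases h hk hy hy1 hyz hw
    have h1 : ((Abs.br M (R.phi w) : AddSubgroup M) : Set M) ⊆
        (({0, R.pi y, u0, u0 + R.pi y} : Finset M) : Set M) := by
      rintro m ⟨n, rfl⟩
      simp only [Finset.coe_insert, Finset.coe_singleton, Set.mem_insert_iff, Set.mem_singleton_iff]
      exact hu n
    have h2 := Set.ncard_le_ncard h1 (Set.toFinite _)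
    rw [Set.ncard_coe_finset] at h2
    exact h2.trans Finset.card_le_four
  pl := by
    intro h4 f hf
    obtain ⟨c, hc, rfl⟩ := R.phi_surj f
    refine h.plane hk R hy hy1 hyz hw hwz ?_ hc hf
    by_contra hcon
    push Not at hcon
    have h1 : ((Abs.br M (R.phi w) : AddSubgroup M) : Set M) ⊆ {0, R.pi y} := by
      rintro m ⟨n, rfl⟩
      by_cases h0 : R.phi w • n - n = 0
      · exact Or.inl h0
      · exact Or.inr (hcon n h0)
    have h2 := Set.ncard_le_ncard h1 (Set.toFinite _)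
    have h3 : ({0, R.pi y} : Set M).ncard ≤ 2 := by
      refine (Set.ncard_insert_le _ _).trans ?_
      rw [Set.ncard_singleton]
    have h5 : ((Abs.br M (R.phi w) : AddSubgroup M) : Set M).ncard = 4 := h4
    omega

theorem cm_ne [Finite G] (h : Fam T V z cf) (R : MRep V cf z M H) {y : G} (hy : y ∈ V) (hy1 : y ≠ 1)
    {w u : G} (hw : w ∈ ww V cf y) (hu : u ∈ ww V cf z) (hne : R.phi w • R.pi u ≠ R.pi u) :
    u * w * u⁻¹ * w⁻¹ ≠ 1 ∧ u * w * u⁻¹ * w⁻¹ ≠ z := by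
  have hz := h.ln.z_mem
  have hz1 := h.ln.z_ne
  have hwc := h.ww_le_cf' hy hy1 hz hz1 hw
  have h1 := R.comm_eq h hwc hu
  have h2 : R.pi (w * u * w⁻¹ * u⁻¹) ≠ 0 := by
    rw [← h1]; exact sub_ne_zero.mpr hne
  have h3 : w * u * w⁻¹ * u⁻¹ ∈ ww V cf z := mul_mem (conj_mem_wf hwc hu) (inv_mem hu)
  have e : u * w * u⁻¹ * w⁻¹ = (w * u * w⁻¹ * u⁻¹)⁻¹ := by group
  constructor
  · intro e1
    apply h2
    rw [R.pi_ker _ h3]
    left
    rw [e] at e1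
    exact inv_eq_one.mp e1
  · intro e1
    apply h2
    rw [R.pi_ker _ h3]
    right
    rw [e] at e1
    rw [← inv_inv (w * u * w⁻¹ * u⁻¹), e1]
    exact h.ln.inv_eq hz

/-- **the subfamily of `K`** -/
theorem subfam [Finite G] (h : Fam T V z cf) (hk : One1 V cf)
    (R : MRep V cf z M H) {y : G} (hy : y ∈ V) (hy1 : y ≠ 1) (hyz : y ≠ z) {w : G} (hw : w ∈ ww V cf y)
    {K : Subgroup H} (hK : ∀ x : H, x • R.pi y = R.pi y → x ∈ K)
    (hm : ∃ m ∈ spn K (R.pi y), R.phi w • m - m ≠ 0 ∧ R.phi w • m - m ≠ R.pi y) :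
    Fam T V z (subf V z (R.pre K)) := by
  obtain ⟨m, hm, hm0, hmv⟩ := hm
  obtain ⟨u, hu, rfl⟩ := R.pi_surj m
  have hu' : u ∈ wf V (R.pre K) := (R.mem_wf_pre h hy hy1 hyz K).mpr ⟨hu, hm⟩
  refine h.sub_of hk (R.le_pre h hy hy1 hyz hK) (R.pre_le K) hy hy1 hyz ⟨u, hu', fun huq => ?_⟩
    ⟨u, hu', w, hw, h.cm_ne R hy hy1 hw hu (sub_ne_zero.mp hm0)⟩
  rcases R.br_one h hy hy1 hw hu huq with e | e
  · exact hm0 e
  · exact hmv e

/-- the hyperplane `(W_z ∩ Q_y)/z` of `M` -/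
theorem exists_hyp [Finite G] (h : Fam T V z cf) (hk : One1 V cf)
    (R : MRep V cf z M H) {y : G} (hy : y ∈ V) (hy1 : y ≠ 1) (hyz : y ≠ z) :
    ∃ N : AddSubgroup M, N.index = 2 ∧ R.pi y ∈ N ∧ (∀ x : H, x • R.pi y = R.pi y → ∀ m ∈ N, x • m ∈ N) ∧
      ∀ u ∈ ww V cf z, (R.pi u ∈ N ↔ u ∈ qq V cf y) := by
  have hz := h.ln.z_mem
  have hz1 := h.ln.z_ne
  let N : AddSubgroup M :=
    { carrier := {m | ∃ u ∈ ww V cf z, u ∈ qq V cf y ∧ R.pi u = m}
      zero_mem' := ⟨1, one_mem _, one_mem _, R.pi_one h⟩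
      add_mem' := by
        rintro _ _ ⟨a, ha, ha1, rfl⟩ ⟨b, hb, hb1, rfl⟩
        exact ⟨a * b, mul_mem ha hb, mul_mem ha1 hb1, R.pi_mul a ha b hb⟩
      neg_mem' := by
        rintro _ ⟨a, ha, ha1, rfl⟩
        exact ⟨a⁻¹, inv_mem ha, inv_mem ha1, R.pi_inv h ha⟩ }
  have hzq : z ∈ qq V cf y := h.kk_le_qq hy hy1 (h.V_le_kk hy hy1 hz)
  have hN : ∀ u ∈ ww V cf z, (R.pi u ∈ N ↔ u ∈ qq V cf y) := by
    intro u hu
    constructor
    · rintro ⟨u', hu', hu1', e⟩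
      rcases (R.pi_eq h hu' hu).mp e with e | e
      · rw [← e]; exact hu1'
      · have : u = z * u' := by rw [e, ← mul_assoc, h.ln.zz, one_mul]
        rw [this]
        exact mul_mem hzq hu1'
    · intro hq
      exact ⟨u, hu, hq, rfl⟩
  refine ⟨N, ?_, ?_, ?_, hN⟩
  · obtain ⟨w0, hw0, hw0q⟩ := h.exists_not_qq hz hz1 hy hy1 hyz
    rw [AddSubgroup.index_eq_two_iff]
    refine ⟨R.pi w0, fun b => ?_⟩
    obtain ⟨u, hu, rfl⟩ := R.pi_surj b
    rw [← R.pi_mul u hu w0 hw0, hN _ (mul_mem hu hw0), hN _ hu]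
    by_cases huq : u ∈ qq V cf y
    · right
      refine ⟨huq, fun e => hw0q ?_⟩
      have := mul_mem (inv_mem huq) e
      rwa [inv_mul_cancel_left] at this
    · left
      exact ⟨hk z hz hz1 y hy hy1 hyz u hu w0 hw0 huq hw0q, huq⟩
  · exact (hN y (h.V_le hy)).mpr (h.kk_le_qq hy hy1 (h.V_le_kk hy hy1 hy))
  · rintro x hx _ ⟨u, hu, huq, rfl⟩
    obtain ⟨d, hd, rfl⟩ := R.stab h hy hy1 hyz hx
    have hdc := h.cent_le_cf hz hz1 hd
    rw [R.act d hdc u hu]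
    refine (hN _ (conj_mem_wf hdc hu)).mpr ?_
    exact conj_mem_of_normalizer (h.cf_norm_qq hy hy1) (h.cent_le_cf hy hy1 hd) huq

/-- **(M12) is impossible** -/
theorem m12_false [Finite G] [Finite M] [Finite H] [FaithfulSMul H M] (h : Fam T V z cf) (hk : One1 V cf)
    (R : MRep V cf z M H) {y : G} (hy : y ∈ V) (hy1 : y ≠ 1) (hyz : y ≠ z) {w : G} (hw : w ∈ ww V cf y)
    {d : H} (K : Abs.Ctx.M12 (R.pi y) (R.phi w) d) (hs : IsSimpleGroup G)
    (hfull : ∀ c ∈ centralizer ({z} : Set G), ∀ v ∈ V, ∀ w ∈ V, c * v * c⁻¹ * w = w * (c * v * c⁻¹)) : False := by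
  have hz := h.ln.z_mem
  have hz1 := h.ln.z_ne
  have two : ∀ m : M, m + m = 0 := R.two h
  have hav : R.phi w • R.pi y = R.pi y := R.A_v0 h hy hy1 hy hw
  set D := Abs.cyc (R.pi y) d K.nor' with hD
  have hK : ∀ x : H, x • R.pi y = R.pi y → x ∈ D := fun x hx => Abs.stab_le_cyc K.nor' hx
  have hsp : spn D (R.pi y) = Abs.br M d := by
    rw [spn_eq_sp, Abs.sp_cyc, K.sp_eq two]
  -- `u` over `d • v0`
  obtain ⟨u, hu, e⟩ := R.pi_surj (d • R.pi y)
  have hu' : u ∈ wf V (R.pre D) := by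
    refine (R.mem_wf_pre h hy hy1 hyz D).mpr ⟨hu, ?_⟩
    rw [e]
    exact smul_mem_spn' (Abs.self_mem_cyc K.nor') (R.pi y)
  have hd3 : d⁻¹ • R.pi y ≠ d • R.pi y := by
    intro e1
    have h1 : d ^ 2 • R.pi y = R.pi y := by
      rw [pow_two, mul_smul, ← e1, smul_inv_smul]
    have h2 : d ^ 3 • R.pi y = d • R.pi y := by
      rw [pow_succ', mul_smul, h1]
    rw [K.cube, one_smul] at h2
    exact K.ne h2.symm
  have hau : R.phi w • d • R.pi y = d⁻¹ • R.pi y := by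
    have h1 : R.phi w * d = d⁻¹ * R.phi w := by rw [← K.inv]; group
    rw [← mul_smul, h1, mul_smul, hav]
  obtain ⟨N, hN1, hN2, hN3, hN4⟩ := h.exists_hyp hk R hy hy1 hyz
  have hNe : N = Abs.fx M (R.phi w) := K.hyp N hN1 hN2 hN3
  have huq : u ∉ qq V cf y := by
    intro huq
    have h1 := (hN4 u hu).mpr huq
    rw [hNe, e] at h1
    have h2 : R.phi w • d • R.pi y = d • R.pi y := h1
    rw [hau] at h2
    exact hd3 h2
  have h' : Fam T V z (subf V z (R.pre D)) := by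
    refine h.sub_of hk (R.le_pre h hy hy1 hyz hK) (R.pre_le D) hy hy1 hyz ⟨u, hu', huq⟩
      ⟨u, hu', w, hw, h.cm_ne R hy hy1 hw hu ?_⟩
    rw [e, hau]
    exact hd3
  obtain ⟨M', H', _, _, _, _, _, _, ⟨R'⟩⟩ := h'.exists_mrep
  obtain ⟨θ, κ, c⟩ := exists_cmp R h hy hy1 hyz hK R' h'
  refine h'.false_of_card_eight hs ?_ hfull
  rw [R'.card_ww h', c.card, hsp, K.card]

end Fam

end Cfsg.Agent.Omega.NO3S.Fit
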