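import Cfsg.Agent.Mrg.Omega.NO3S.Fit.AbsNat
import Cfsg.Agent.MinSimple.Dihedral
import Cfsg.Agent.Mrg.Omega.NO3S.Fit.Char

section


/-!
# Text #13963 (helper311), (3.4): the module part of `k ≥ 2`

`H` acts faithfully on the elementary abelian 2-group `M`; `A ≤ H` is quadratic on `M`, elementary abelian of order
`≥ 4`, faithful on a nilpotent group `F` of odd order; `M1 ≤ M` has index `≤ |A|` and `[M1, a] ≤ ⟨v0⟩` for `a ∈ A`.

* `TvB A n a b m`: `a j` is a basis of `A` consisting of transvections with the independent centres `b j`, `m j` is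
  the dual basis of `M / C_M(A)`;
* `exists_tvb`: it exists, and `M1 = C_M(A)`;
* `TvB.smul_cen`: the normaliser of `A` permutes the `b j`;
* `TvB.sum_eq`, `TvB.trans`, `TvB.even`: if `v0` is the only nonzero `T`-fixed vector of `[M,A]`, `T` a 2-group, then
  `v0 = ∑ b j`, `T` is transitive on the `b j`, `n` is even.
-/

set_option autoImplicit false
set_option linter.unusedSectionVars false

open scoped Pointwise

namespace Cfsg.Agent.Omega.NO3S.Fit.Abs

section Big

variable {H M : Type*} [Group H] [AddCommGroup M] [DistribMulAction H M]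

/-- a basis of transvections -/
structure TvB (A : Subgroup H) (n : ℕ) (a : Fin n → H) (b m : Fin n → M) : Prop where
  cl : A = Subgroup.closure (Set.range a)
  mem : ∀ j, a j ∈ A
  tv : ∀ j (k : M), a j • k = k ∨ a j • k = k + b j
  dual : ∀ j, a j • m j = m j + b j
  dual' : ∀ i j, i ≠ j → a i • m j = m j
  ind : ∀ S : Finset (Fin n), ∑ j ∈ S, b j = 0 → S = ∅

/-- **(3.4), module part** -/
theorem exists_tvb [Finite H] [Finite M] [FaithfulSMul H M] (two : ∀ m : M, m + m = 0) {v0 : M}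
    {A F : Subgroup H} (hA : ∀ a ∈ A, a * a = 1)
    (hq : ∀ a ∈ A, ∀ b ∈ A, ∀ m : M, a • (b • m - m) = b • m - m)
    (hnil : Group.IsNilpotent F) (hF : Odd (Nat.card F)) (hAF : A ≤ Subgroup.normalizer (F : Set H))
    (hf : ∀ b ∈ A, (∀ f ∈ F, b * f = f * b) → b = 1) (hk : 2 < Nat.card A)
    (CP : ∀ x ∈ F, x • v0 = v0 → ∀ a ∈ A, a * x * a⁻¹ = x⁻¹ → x = 1)
    (M1 : AddSubgroup M) (hM1 : M1.index ≤ Nat.card A)
    (hM1' : ∀ m ∈ M1, ∀ a ∈ A, a • m = m ∨ a • m = m + v0) :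
    ∃ (n : ℕ) (a : Fin n → H) (b m : Fin n → M), 2 ≤ n ∧ TvB A n a b m ∧
      ∀ k : M, k ∈ M1 ↔ ∀ a ∈ A, a • k = k := by
  classical
  obtain ⟨n, a, x, hcard, hcl, ha, hx, hp, hinv, hfix, hcomm, heig⟩ :=
    MinSimple.Dihedral.exists_dihedral A F hA hnil hF hAF hf
  have hn : 2 ≤ n := by
    by_contra hcon
    have h1 : n ≤ 1 := by omega
    have h2 : (2 : ℕ) ^ n ≤ 2 ^ 1 := Nat.pow_le_pow_right (by norm_num) h1
    omega
  have hodd : ∀ j, Odd (orderOf (x j)) := by
    intro j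
    refine Odd.of_dvd_nat hF ?_
    have := orderOf_dvd_natCard (⟨x j, hx j⟩ : F)
    rwa [Subgroup.orderOf_mk] at this
  have hxne : ∀ j, x j ≠ 1 := by
    intro j e
    have := hp j
    rw [e, orderOf_one] at this
    exact Nat.not_prime_one this
  have haa : ∀ j, a j * a j = 1 := fun j => hA _ (ha j)
  have ht : ∀ i j, i ≠ j → ∀ k ∈ br M (x j), a i • k = k := fun i j hij k hk =>
    triv_on_br two (hodd j) (hinv j) (hq _ (ha j) _ (ha i)) (hfix i j hij) hk
  have hxt : ∀ i j, i ≠ j → ∀ k ∈ br M (x j), x i • k = k := by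
    intro i j hij k hk
    have h1 : x i • k ∈ br M (x j) := smul_mem_br_of_comm (hcomm i j) hk
    have h2 := ht i j hij _ h1
    have h3 := inv_smul_of_inv (hinv i) (ht i j hij k hk)
    rw [h2] at h3
    refine fix_of_sq (hodd i) ?_
    rw [h3, smul_inv_smul]
  have hv0 : ∀ j, x j • v0 ≠ v0 := fun j e => hxne j (CP _ (hx j) e _ (ha j) (hinv j))
  have hM1c : ∀ k ∈ M1, ∀ i, a i • k = k := by
    intro k hk i
    obtain ⟨j, hij⟩ : ∃ j : Fin n, i ≠ j := by
      by_contra hcon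
      push Not at hcon
      have h0 := hcon ⟨0, by omega⟩
      have h1 := hcon ⟨1, by omega⟩
      rw [h0] at h1
      exact absurd (congrArg Fin.val h1) (by norm_num)
    rcases hM1' k hk (a i) (ha i) with e | e
    · exact e
    exfalso
    obtain ⟨d, hd, c, hc, e1⟩ := exists_decomp two (hodd j) k
    have h1 : a i • c = c + v0 := by
      rw [← e1, smul_add, ht i j hij d hd] at e
      have : d + a i • c = d + (c + v0) := by rw [e]; abel
      exact add_left_cancel this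
    have h2 : a i • c ∈ fx M (x j) := smul_mem_fx_of_comm (hfix i j hij) hc
    have h3 : v0 ∈ fx M (x j) := by
      have : v0 = a i • c - c := by rw [h1]; abel
      rw [this]
      exact sub_mem h2 hc
    exact hv0 j h3
  -- the map `Φ`
  let Φ : M →+ (Fin n → M) :=
    { toFun := fun k j => a j • k - k
      map_zero' := by ext j; simp
      map_add' := fun k l => by ext j; simp only [smul_add, Pi.add_apply]; abel }
  have hΦ : ∀ k j, Φ k j = a j • k - k := fun k j => rfl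
  have hker : M1 ≤ Φ.ker := by
    intro k hk
    rw [AddMonoidHom.mem_ker]
    ext j
    rw [hΦ, hM1c k hk j, sub_self]
    rfl
  have hrange : Nat.card Φ.range ≤ 2 ^ n := by
    rw [← AddSubgroup.index_ker, ← hcard]
    refine le_trans ?_ hM1
    exact AddSubgroup.index_antitone hker
  -- the groups `C_j`
  have hsurj : ∀ j, ∀ c ∈ cx M (a j) (x j), ∃ d ∈ br M (x j), a j • d - d = c := fun j c hc =>
    cx_le_br two (haa j) (hodd j) (hinv j) hc
  have hsol : ∀ f : (j : Fin n) → cx M (a j) (x j), ∃ k : M, ∀ j, Φ k j = f j := by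
    intro f
    choose d hd hd' using fun j => hsurj j (f j) (f j).2
    refine ⟨∑ j, d j, fun i => ?_⟩
    rw [hΦ, Finset.smul_sum, ← Finset.sum_sub_distrib, Finset.sum_eq_single i]
    · exact hd' i
    · intro j _ hji
      rw [ht i j hji.symm _ (hd j), sub_self]
    · intro h; exact absurd (Finset.mem_univ i) h
  let g : ((j : Fin n) → cx M (a j) (x j)) → Φ.range := fun f =>
    ⟨fun j => (f j : M), by
      obtain ⟨k, hk⟩ := hsol f
      exact ⟨k, funext hk⟩⟩
  have hg : Function.Injective g := by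
    intro f f' h
    funext j
    have h1 := congrArg (fun r : Φ.range => (r : Fin n → M) j) h
    exact Subtype.ext h1
  have hprod : ∏ j, Nat.card (cx M (a j) (x j)) ≤ Nat.card Φ.range := by
    rw [← Nat.card_pi]
    exact Nat.card_le_card_of_injective g hg
  have hge : ∀ j, 2 ≤ Nat.card (cx M (a j) (x j)) := by
    intro j
    have h1 := (card_br_eq (M := M) two (haa j) (hodd j) (hinv j)).1
    have h2 : br M (x j) ≠ ⊥ := ne_zero_of_br (hxne j)
    have h3 : 1 < Nat.card (br M (x j)) := AddSubgroup.one_lt_card_iff_ne_bot _ |>.mpr h2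
    by_contra hcon
    have h4 : Nat.card (cx M (a j) (x j)) ≤ 1 := by omega
    have h5 : Nat.card (cx M (a j) (x j)) * Nat.card (cx M (a j) (x j)) ≤ 1 * 1 := Nat.mul_le_mul h4 h4
    omega
  have heq2 : ∀ j, Nat.card (cx M (a j) (x j)) = 2 := by
    by_contra hcon
    push Not at hcon
    obtain ⟨i, hi⟩ := hcon
    have h1 : ∏ _j : Fin n, 2 < ∏ j, Nat.card (cx M (a j) (x j)) := by
      refine Finset.prod_lt_prod (fun _ _ => by norm_num) (fun j _ => hge j) ⟨i, Finset.mem_univ i, ?_⟩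
      have := hge i
      omega
    rw [Finset.prod_const, Finset.card_univ, Fintype.card_fin] at h1
    omega
  have hprod2 : ∏ j, Nat.card (cx M (a j) (x j)) = 2 ^ n := by
    rw [Finset.prod_congr rfl fun j _ => heq2 j, Finset.prod_const, Finset.card_univ, Fintype.card_fin]
  have hrange' : Nat.card Φ.range = 2 ^ n := le_antisymm hrange (by rw [← hprod2]; exact hprod)
  have hbij : Function.Bijective g :=
    (Nat.bijective_iff_injective_and_card g).mpr ⟨hg, by rw [Nat.card_pi, hprod2, hrange']⟩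
  have hall : ∀ k j, a j • k - k ∈ cx M (a j) (x j) := by
    intro k j
    obtain ⟨f, hf'⟩ := hbij.2 ⟨Φ k, ⟨k, rfl⟩⟩
    have h1 : (f j : M) = Φ k j := congrArg (fun r : Φ.range => (r : Fin n → M) j) hf'
    rw [← hΦ, ← h1]
    exact (f j).2
  have hb : ∀ j, ∃ b ∈ cx M (a j) (x j), b ≠ 0 ∧ ∀ c ∈ cx M (a j) (x j), c = 0 ∨ c = b := by
    intro j
    obtain ⟨b, hb, hb0⟩ := exists_ne_zero_of_card (B := cx M (a j) (x j)) (by rw [heq2 j]; norm_num)
    refine ⟨b, hb, hb0, fun c hc => ?_⟩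
    by_contra hcon
    push Not at hcon
    have h1 : (({0, b, c} : Finset M) : Set M) ⊆ (cx M (a j) (x j) : Set M) := by
      intro y hy
      simp only [Finset.coe_insert, Finset.coe_singleton, Set.mem_insert_iff, Set.mem_singleton_iff] at hy
      rcases hy with rfl | rfl | rfl
      · exact zero_mem _
      · exact hb
      · exact hc
    have h2 := Set.ncard_le_ncard h1 (Set.toFinite _)
    rw [Set.ncard_coe_finset] at h2
    have h3 : Set.ncard (cx M (a j) (x j) : Set M) = 2 := by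
      rw [← heq2 j]; exact (Nat.card_coe_set_eq _).symm
    have h4 : ({0, b, c} : Finset M).card = 3 := by
      rw [Finset.card_insert_of_notMem, Finset.card_insert_of_notMem, Finset.card_singleton]
      · simpa using fun e => hcon.2 e.symm
      · simpa [hb0.symm] using fun e : (0 : M) = c => hcon.1 e.symm
    omega
  choose b hbc hb0 hbb using hb
  choose m hm hmb using fun j => hsurj j (b j) (hbc j)
  refine ⟨n, a, b, m, hn, ⟨hcl, ha, ?_, ?_, ?_, ?_⟩, ?_⟩
  · intro j k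
    rcases hbb j _ (hall k j) with e | e
    · exact Or.inl (sub_eq_zero.mp e)
    · right
      rw [← e]; abel
  · intro j
    rw [← hmb j]; abel
  · intro i j hij
    exact ht i j hij _ (hm j)
  · intro S hS
    by_contra hne
    obtain ⟨i, hi⟩ := Finset.nonempty_iff_ne_empty.mpr hne
    apply hb0 i
    refine br_inf_fx two (hodd i) (hbc i).1 ?_
    have h1 : x i • (∑ j ∈ S, b j) = ∑ j ∈ S, b j := by rw [hS, smul_zero]
    rw [Finset.smul_sum, ← Finset.add_sum_erase S _ hi, ← Finset.add_sum_erase S b hi] at h1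
    have h2 : ∑ j ∈ S.erase i, x i • b j = ∑ j ∈ S.erase i, b j := by
      refine Finset.sum_congr rfl fun j hj => ?_
      exact hxt i j (Finset.ne_of_mem_erase hj).symm _ (hbc j).1
    rw [h2] at h1
    exact add_right_cancel h1
  · have hi : Φ.ker ≤ M1 := by
      have h1 : Φ.ker.index = 2 ^ n := by rw [AddSubgroup.index_ker, hrange']
      have h2 := AddSubgroup.relIndex_mul_index hker
      rw [h1] at h2
      have h3 : M1.index ≤ 2 ^ n := by rw [← hcard]; exact hM1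
      have h4 : 0 < 2 ^ n := by positivity
      have h5 : M1.relIndex Φ.ker ≤ 1 := by
        by_contra hcon
        have h6 : 2 ≤ M1.relIndex Φ.ker := by omega
        have h7 := Nat.mul_le_mul_right (2 ^ n) h6
        omega
      have h6 : M1.relIndex Φ.ker ≠ 0 := by
        intro h7
        rw [h7, zero_mul] at h2
        exact AddSubgroup.FiniteIndex.index_ne_zero h2.symm
      have h7 : M1.relIndex Φ.ker = 1 := by omega
      exact AddSubgroup.relIndex_eq_one.mp h7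
    intro k
    constructor
    · intro hk c hc
      have h1 : Subgroup.closure (Set.range a) ≤ MulAction.stabilizer H k := by
        rw [Subgroup.closure_le]
        rintro _ ⟨j, rfl⟩
        exact hM1c k hk j
      rw [hcl] at hc
      exact h1 hc
    · intro h
      apply hi
      rw [AddMonoidHom.mem_ker]
      ext j
      rw [hΦ, h _ (ha j), sub_self]
      rfl

namespace TvB

variable {A : Subgroup H} {n : ℕ} {a : Fin n → H} {b m : Fin n → M}

theorem ne_zero (B : TvB A n a b m) (j : Fin n) : b j ≠ 0 := by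
  intro e
  have := B.ind {j} (by rw [Finset.sum_singleton, e])
  exact absurd this (Finset.singleton_ne_empty j)

theorem inj (B : TvB A n a b m) (two : ∀ m : M, m + m = 0) : Function.Injective b := by
  classical
  intro i j e
  by_contra hij
  have := B.ind {i, j} (by rw [Finset.sum_pair hij, e, two])
  exact absurd this (Finset.insert_ne_empty _ _)

/-- the vectors fixed by all `a j` are the vectors fixed by `A` -/
theorem fix_of (B : TvB A n a b m) {k : M} (h : ∀ j, a j • k = k) : ∀ c ∈ A, c • k = k := by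
  intro c hc
  have h1 : Subgroup.closure (Set.range a) ≤ MulAction.stabilizer H k := by
    rw [Subgroup.closure_le]
    rintro _ ⟨j, rfl⟩
    exact h j
  rw [B.cl] at hc
  exact h1 hc

/-- every vector is the sum of some `m j` and of a vector fixed by `A` -/
theorem exists_dec (B : TvB A n a b m) (k : M) :
    ∃ (S : Finset (Fin n)) (c : M), (∀ g ∈ A, g • c = c) ∧ k = ∑ j ∈ S, m j + c := by
  classical
  refine ⟨Finset.univ.filter fun j => a j • k ≠ k, k - ∑ j ∈ Finset.univ.filter (fun j => a j • k ≠ k), m j,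
    B.fix_of fun i => ?_, by abel⟩
  set S := Finset.univ.filter fun j => a j • k ≠ k with hS
  rw [smul_sub, Finset.smul_sum]
  by_cases hi : a i • k = k
  · rw [hi]
    congr 1
    refine Finset.sum_congr rfl fun j hj => B.dual' i j ?_
    rintro rfl
    rw [hS, Finset.mem_filter] at hj
    exact hj.2 hi
  · have hiS : i ∈ S := by rw [hS, Finset.mem_filter]; exact ⟨Finset.mem_univ i, hi⟩
    rw [(B.tv i k).resolve_left hi, ← Finset.add_sum_erase S _ hiS, ← Finset.add_sum_erase S m hiS, B.dual]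
    have h2 : ∑ j ∈ S.erase i, a i • m j = ∑ j ∈ S.erase i, m j := by
      refine Finset.sum_congr rfl fun j hj => B.dual' i j (Finset.ne_of_mem_erase hj).symm
    rw [h2]; abel

/-- an element of `A` fixing all `m j` is trivial -/
theorem eq_one [FaithfulSMul H M] (B : TvB A n a b m) {c : H} (hc : c ∈ A) (h : ∀ j, c • m j = m j) :
    c = 1 := by
  refine FaithfulSMul.eq_of_smul_eq_smul (α := M) fun k => ?_
  obtain ⟨S, d, hd, rfl⟩ := B.exists_dec k
  rw [one_smul, smul_add, hd c hc, Finset.smul_sum, Finset.sum_congr rfl fun j _ => h j]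

/-- `c (m j) ∈ {m j, m j + b j}` for `c ∈ A` -/
theorem all (B : TvB A n a b m) (hq : ∀ a ∈ A, ∀ b ∈ A, ∀ m : M, a • (b • m - m) = b • m - m)
    (two : ∀ m : M, m + m = 0) {c : H} (hc : c ∈ A) (j : Fin n) :
    (c • m j = m j ∨ c • m j = m j + b j) ∧ c • b j = b j := by
  have hb : b j = a j • m j - m j := by rw [B.dual]; abel
  have hcb : ∀ c ∈ A, c • b j = b j := by
    intro c hc
    rw [hb]
    exact hq c hc _ (B.mem j) _
  refine ⟨?_, hcb c hc⟩
  rw [B.cl] at hc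
  induction hc using Subgroup.closure_induction with
  | mem x hx =>
    obtain ⟨i, rfl⟩ := hx
    by_cases hij : i = j
    · rw [hij]; exact Or.inr (B.dual j)
    · exact Or.inl (B.dual' i j hij)
  | one => exact Or.inl (one_smul _ _)
  | mul x y hx hy ihx ihy =>
    have hx' : x ∈ A := by rw [B.cl]; exact hx
    rw [mul_smul]
    rcases ihy with e | e
    · rw [e]; exact ihx
    · rw [e, smul_add, hcb x hx']
      rcases ihx with e' | e'
      · right; rw [e']
      · left; rw [e', add_assoc, two, add_zero]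
  | inv x hx ih =>
    have hx' : x ∈ A := by rw [B.cl]; exact hx
    rcases ih with e | e
    · left; rw [inv_smul_eq_iff, e]
    · right; rw [inv_smul_eq_iff, smul_add, e, hcb x hx', add_assoc, two, add_zero]

/-- the normaliser of `A` permutes the centres -/
theorem smul_cen [FaithfulSMul H M] (B : TvB A n a b m)
    (hq : ∀ a ∈ A, ∀ b ∈ A, ∀ m : M, a • (b • m - m) = b • m - m) (two : ∀ m : M, m + m = 0)
    {t : H} (ht : ∀ c ∈ A, t * c * t⁻¹ ∈ A) (j : Fin n) : ∃ i, t • b j = b i := by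
  have hne : t * a j * t⁻¹ ≠ 1 := by
    intro e
    have h1 : a j = 1 := conj_eq_one_iff.mp e
    have h2 := B.dual j
    rw [h1, one_smul, left_eq_add] at h2
    exact B.ne_zero j h2
  have hmem := ht _ (B.mem j)
  obtain ⟨i, hi⟩ : ∃ i, (t * a j * t⁻¹) • m i ≠ m i := by
    by_contra hcon
    push Not at hcon
    exact hne (B.eq_one hmem hcon)
  refine ⟨i, ?_⟩
  have h1 := (B.all hq two hmem i).1.resolve_left hi
  have h2 : (t * a j * t⁻¹) • m i = t • (a j • (t⁻¹ • m i)) := by rw [mul_smul, mul_smul]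
  rcases B.tv j (t⁻¹ • m i) with e | e
  · exfalso
    apply hi
    rw [h2, e, smul_inv_smul]
  · rw [h2, e, smul_add, smul_inv_smul] at h1
    exact add_left_cancel h1

/-- the orbits of `T` on the centres -/
theorem orbit_sum [FaithfulSMul H M] (B : TvB A n a b m)
    (hq : ∀ a ∈ A, ∀ b ∈ A, ∀ m : M, a • (b • m - m) = b • m - m) (two : ∀ m : M, m + m = 0)
    {T : Subgroup H} (hTA : ∀ t ∈ T, ∀ c ∈ A, t * c * t⁻¹ ∈ A) {v0 : M}
    (FIX : ∀ k ∈ brs M A, k ≠ 0 → (∀ t ∈ T, t • k = k) → k = v0) (i : Fin n) (S : Finset (Fin n))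
    (hS : ∀ j, j ∈ S ↔ ∃ t ∈ T, t • b i = b j) : ∑ j ∈ S, b j = v0 := by
  classical
  have hiS : i ∈ S := (hS i).mpr ⟨1, one_mem _, one_smul _ _⟩
  refine FIX _ ?_ ?_ ?_
  · refine AddSubgroup.sum_mem _ fun j _ => br_le_brs (B.mem j) ?_
    exact ⟨m j, by rw [B.dual]; abel⟩
  · intro e
    have := B.ind S e
    rw [this] at hiS
    exact absurd hiS (Finset.notMem_empty i)
  · intro t ht
    rw [Finset.smul_sum]
    choose f hf using fun j => B.smul_cen hq two (hTA t ht) j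
    refine Finset.sum_bij (fun j _ => f j) ?_ ?_ ?_ ?_
    · intro j hj
      obtain ⟨s, hs, e⟩ := (hS j).mp hj
      exact (hS _).mpr ⟨t * s, mul_mem ht hs, by rw [mul_smul, e, hf]⟩
    · intro j _ j' _ e
      apply B.inj two
      have h1 : t • b j = t • b j' := by rw [hf, hf, e]
      exact smul_left_cancel t h1
    · intro j hj
      obtain ⟨s, hs, e⟩ := (hS j).mp hj
      obtain ⟨j', hj'⟩ := B.smul_cen hq two (hTA t⁻¹ (inv_mem ht)) j
      refine ⟨j', (hS _).mpr ⟨t⁻¹ * s, mul_mem (inv_mem ht) hs, by rw [mul_smul, e, hj']⟩, ?_⟩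
      apply B.inj two
      rw [← hf, ← hj', smul_inv_smul]
    · intro j _
      exact hf j

/-- `T` is transitive on the centres -/
theorem trans [FaithfulSMul H M] (B : TvB A n a b m)
    (hq : ∀ a ∈ A, ∀ b ∈ A, ∀ m : M, a • (b • m - m) = b • m - m) (two : ∀ m : M, m + m = 0)
    {T : Subgroup H} (hTA : ∀ t ∈ T, ∀ c ∈ A, t * c * t⁻¹ ∈ A) {v0 : M}
    (FIX : ∀ k ∈ brs M A, k ≠ 0 → (∀ t ∈ T, t • k = k) → k = v0) (i j : Fin n) :
    ∃ t ∈ T, t • b i = b j := by
  classical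
  by_contra hcon
  let O : Fin n → Finset (Fin n) := fun i => Finset.univ.filter fun j => ∃ t ∈ T, t • b i = b j
  have hO : ∀ i j, j ∈ O i ↔ ∃ t ∈ T, t • b i = b j := fun i j => by simp [O]
  have h1 := B.orbit_sum hq two hTA FIX i (O i) (hO i)
  have h2 := B.orbit_sum hq two hTA FIX j (O j) (hO j)
  have hdis : Disjoint (O i) (O j) := by
    rw [Finset.disjoint_left]
    intro l hl hl'
    obtain ⟨s, hs, e⟩ := (hO i l).mp hl
    obtain ⟨s', hs', e'⟩ := (hO j l).mp hl'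
    apply hcon
    refine ⟨s'⁻¹ * s, mul_mem (inv_mem hs') hs, ?_⟩
    rw [mul_smul, e, ← e', inv_smul_smul]
  have h3 : ∑ l ∈ O i ∪ O j, b l = 0 := by
    rw [Finset.sum_union hdis, h1, h2, two]
  have h4 := B.ind _ h3
  have h5 : i ∈ O i := (hO i i).mpr ⟨1, one_mem _, one_smul _ _⟩
  have h6 : i ∈ O i ∪ O j := Finset.mem_union_left _ h5
  rw [h4] at h6
  exact absurd h6 (Finset.notMem_empty i)

/-- `v0` is the sum of the centres -/
theorem sum_eq [FaithfulSMul H M] (B : TvB A n a b m)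
    (hq : ∀ a ∈ A, ∀ b ∈ A, ∀ m : M, a • (b • m - m) = b • m - m) (two : ∀ m : M, m + m = 0)
    {T : Subgroup H} (hTA : ∀ t ∈ T, ∀ c ∈ A, t * c * t⁻¹ ∈ A) {v0 : M}
    (FIX : ∀ k ∈ brs M A, k ≠ 0 → (∀ t ∈ T, t • k = k) → k = v0) (hn : 0 < n) :
    ∑ j, b j = v0 :=
  B.orbit_sum hq two hTA FIX ⟨0, hn⟩ Finset.univ fun j =>
    ⟨fun _ => B.trans hq two hTA FIX _ j, fun _ => Finset.mem_univ j⟩

/-- `n` is even -/
theorem even [Finite M] [FaithfulSMul H M] (B : TvB A n a b m)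
    (hq : ∀ a ∈ A, ∀ b ∈ A, ∀ m : M, a • (b • m - m) = b • m - m) (two : ∀ m : M, m + m = 0)
    {T : Subgroup H} (hT : IsPGroup 2 T) (hTA : ∀ t ∈ T, ∀ c ∈ A, t * c * t⁻¹ ∈ A) {v0 : M}
    (FIX : ∀ k ∈ brs M A, k ≠ 0 → (∀ t ∈ T, t • k = k) → k = v0) (hn : 2 ≤ n) : Even n := by
  have hfact : Fact (Nat.Prime 2) := ⟨Nat.prime_two⟩
  set i0 : Fin n := ⟨0, by omega⟩
  have h1 : MulAction.orbit T (b i0) = Set.range b := by
    ext k
    constructor
    · rintro ⟨t, rfl⟩
      obtain ⟨i, hi⟩ := B.smul_cen hq two (hTA t t.2) i0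
      exact ⟨i, hi.symm⟩
    · rintro ⟨j, rfl⟩
      obtain ⟨t, ht, e⟩ := B.trans hq two hTA FIX i0 j
      exact ⟨⟨t, ht⟩, e⟩
  have h2 : Finite (MulAction.orbit T (b i0)) := Set.toFinite _
  obtain ⟨k, hk⟩ := hT.card_orbit (b i0)
  have h3 : Nat.card (Set.range b) = n := by
    rw [Nat.card_range_of_injective (B.inj two), Nat.card_eq_fintype_card, Fintype.card_fin]
  rw [h1, h3] at hk
  rw [hk]
  have hk0 : k ≠ 0 := by
    rintro rfl
    rw [pow_zero] at hk
    omega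
  exact (Nat.even_pow' hk0).mpr even_two

end TvB

end Big

end Cfsg.Agent.Omega.NO3S.Fit.Abs

end

section


/-!
# Text #13963 (helper311), (3.4): the group part of `k ≥ 2`

* `cm a b = [a,b]`, bilinear on `W_p × W_q`;
* `KB V cf p q n pi b w` : the transvection basis `b i` of `[W_p/⟨p⟩, W_q]`, the dual basis `w i` of `W_p / C(W_q)`;
* `KB.conj`, `KB.false_of_two`, `KB.false_of_three` : `n ≥ 2` is impossible.
-/

set_option autoImplicit false
set_option linter.unusedSectionVars false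

namespace Cfsg.Agent.Omega.NO3S.Fit

open Subgroup Cfsg Cfsg.Agent.ZN Cfsg.Agent.MinSimple.Geo Cfsg.Agent.Omega.CaseL
open Cfsg.Agent.ZN.Block (conj_mem_of_normalizer conj_mem_of_normalizer' le_normalizer_of_forall
  mem_normalizer_of)

universe u

variable {G : Type u} [Group G]

/-- `[a,b]` -/
def cm (a b : G) : G := a * b * a⁻¹ * b⁻¹

theorem cm_conj (g a b : G) : cm (g * a * g⁻¹) (g * b * g⁻¹) = g * cm a b * g⁻¹ := by
  unfold cm; group

theorem cm_eq_one {a b : G} (h : a * b = b * a) : cm a b = 1 := by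
  unfold cm; rw [h]; group

theorem comm_of_cm {a b : G} (h : cm a b = 1) : a * b = b * a := by
  unfold cm at h
  calc a * b = (a * b * a⁻¹ * b⁻¹) * (b * a) := by group
    _ = b * a := by rw [h, one_mul]

namespace Fam

variable {T V : Subgroup G} {z : G} {cf : G → Subgroup G} {p q : G}

section cm

variable (h : Fam T V z cf) (hp : p ∈ V) (hp1 : p ≠ 1) (hq : q ∈ V) (hq1 : q ≠ 1) (hqp : q ≠ p)
include h hp hp1 hq hq1 hqp

theorem cm_mem {a b : G} (ha : a ∈ ww V cf p) (hb : b ∈ ww V cf q) : cm a b ∈ jj V cf :=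
  h.comm_mem_jj hp hp1 hq hq1 hqp ha hb

theorem cm_symm {a b : G} (ha : a ∈ ww V cf p) (hb : b ∈ ww V cf q) : cm b a = cm a b := by
  have h1 := h.cm_mem hp hp1 hq hq1 hqp ha hb
  have h2 := h.inv_ww hp hp1 (jj_le hp hp1 h1)
  rw [← h2]; unfold cm; group

theorem cm_mul_left {a a' b : G} (ha : a ∈ ww V cf p) (ha' : a' ∈ ww V cf p) (hb : b ∈ ww V cf q) :
    cm (a * a') b = cm a b * cm a' b := by
  have h1 := jj_le hp hp1 (h.cm_mem hp hp1 hq hq1 hqp ha' hb)
  have h1' := jj_le hp hp1 (h.cm_mem hp hp1 hq hq1 hqp ha hb)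
  have h2 := h.comm hp hp1 a ha _ h1
  have h3 := h.comm hp hp1 _ h1 _ h1'
  calc cm (a * a') b = a * cm a' b * a⁻¹ * cm a b := by unfold cm; group
    _ = cm a' b * cm a b := by rw [h2]; group
    _ = _ := h3

theorem cm_mul_right {a b b' : G} (ha : a ∈ ww V cf p) (hb : b ∈ ww V cf q) (hb' : b' ∈ ww V cf q) :
    cm a (b * b') = cm a b * cm a b' := by
  have h1 := jj_le hq hq1 (h.cm_mem hp hp1 hq hq1 hqp ha hb')
  have h2 := h.comm hq hq1 b hb _ h1
  calc cm a (b * b') = cm a b * (b * cm a b' * b⁻¹) := by unfold cm; group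
    _ = cm a b * cm a b' := by rw [h2]; group

end cm

/-- a subgroup between `V` and `I` normalized by `C_G(V)` is normalized by `N_G(V)` -/
theorem norm_of_cent [Finite G] (h : Fam T V z cf) {U : Subgroup G} (hVU : V ≤ U) (hU : U ≤ jj V cf)
    (hn : ∀ c ∈ centralizer (V : Set G), ∀ u ∈ U, c * u * c⁻¹ ∈ U) :
    normalizer (V : Set G) ≤ normalizer (U : Set G) := by
  have hQ : ∀ p ∈ V, p ≠ 1 → ∀ k ∈ qq V cf p, ∀ u ∈ U, k * u * k⁻¹ ∈ U := by
    intro p hp hp1 k hk u hu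
    rcases h.qq_cases hp hk (jj_le hp hp1 (hU hu)) with e | e
    · rw [e]; exact hu
    · rw [e]; exact mul_mem (hVU hp) hu
  refine le_normalizer_of_forall fun g hg u hu => ?_
  have hz := h.ln.z_mem
  have hz1 := h.ln.z_ne
  have key : ∀ g ∈ normalizer (V : Set G), g * z = z * g → ∀ u ∈ U, g * u * g⁻¹ ∈ U := by
    intro g hg hgz u hu
    obtain ⟨d, hd, k, hk, rfl⟩ := h.norm_eq hz hz1 hg hgz
    have e : d * k * u * (d * k)⁻¹ = d * (k * u * k⁻¹) * d⁻¹ := by group
    rw [e]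
    exact hn d hd _ (hQ z hz hz1 k hk u hu)
  by_cases hgz : g * z * g⁻¹ = z
  · exact key g hg (comm_of_conj_eq hgz) u hu
  set p := g * z * g⁻¹ with hp
  have hpV : p ∈ V := h.conj_pt hg hz
  have hp1 : p ≠ 1 := conj_ne hz1
  -- the third point `r = z p`, a mover of `Q_r` maps `p` to `z`
  set r := z * p with hr
  have hrV : r ∈ V := mul_mem hz hpV
  have hr1 : r ≠ 1 := h.mul_ne_one hpV (Ne.symm hgz)
  have hpr : p ≠ r := fun e => hz1 (by rw [hr] at e; simpa using e.symm)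
  obtain ⟨k, hk, hk1⟩ := h.exists_mover hrV hr1
  have e1 := h.move hrV hr1 hpV hp1 hpr hk hk1
  have e2 : r * p = z := by rw [hr, mul_assoc, h.ln.sq p hpV, mul_one]
  rw [e2] at e1
  have h1 : (k * g) * z = z * (k * g) := by
    refine comm_of_conj_eq ?_
    calc k * g * z * (k * g)⁻¹ = k * (g * z * g⁻¹) * k⁻¹ := by group
      _ = z := e1
  have h2 := key (k * g) (mul_mem (h.qq_le_normalizer hrV hk) hg) h1 u hu
  have h3 := hQ r hrV hr1 k⁻¹ (inv_mem hk) _ h2
  have e3 : k⁻¹ * (k * g * u * (k * g)⁻¹) * k⁻¹⁻¹ = g * u * g⁻¹ := by group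
  rwa [e3] at h3

end Fam

/-- the transvection basis for a pair of points -/
structure KB (V : Subgroup G) (cf : G → Subgroup G) (p q : G) {M : Type u} [AddCommGroup M] (n : ℕ)
    (pi : G → M) (b : Fin n → M) (w : Fin n → G) : Prop where
  two : ∀ m : M, m + m = 0
  pi_mul : ∀ a ∈ ww V cf p, ∀ c ∈ ww V cf p, pi (a * c) = pi a + pi c
  pi_ker : ∀ a ∈ ww V cf p, pi a = 0 ↔ a = 1 ∨ a = p
  w_mem : ∀ i, w i ∈ ww V cf p
  w_all : ∀ i, ∀ g ∈ ww V cf q, pi (cm (w i) g) = 0 ∨ pi (cm (w i) g) = b i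
  w_ne : ∀ i, ∃ g ∈ ww V cf q, pi (cm (w i) g) ≠ 0
  ind : ∀ S : Finset (Fin n), ∑ i ∈ S, b i = 0 → S = ∅
  sum : ∑ i, b i = pi q
  sep : ∀ g ∈ ww V cf q, (∀ i, pi (cm (w i) g) = 0) → ∀ v ∈ ww V cf p, v * g = g * v
  cls : ∀ i, ∀ v ∈ ww V cf p, (∀ g ∈ ww V cf q, pi (cm v g) = 0 ∨ pi (cm v g) = b i) →
    (∀ g ∈ ww V cf q, v * g = g * v) ∨ (∀ g ∈ ww V cf q, v * w i * g = g * (v * w i))
  cen : ∀ c ∈ centralizer (V : Set G), ∀ i, ∀ u ∈ jj V cf, pi u = b i → ∃ j, pi (c * u * c⁻¹) = b j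
  trans : ∀ i j, ∃ c ∈ centralizer (V : Set G), ∀ u ∈ jj V cf, pi u = b i → pi (c * u * c⁻¹) = b j

namespace KB

variable {T V : Subgroup G} {z : G} {cf : G → Subgroup G} {p q : G} {M : Type u} [AddCommGroup M] {n : ℕ}
  {pi : G → M} {b : Fin n → M} {w : Fin n → G}

/-- transport by `N_G(V)` -/
theorem conj (h : Fam T V z cf) (hp : p ∈ V) (hp1 : p ≠ 1) (hq : q ∈ V) (hq1 : q ≠ 1)
    (K : KB V cf p q n pi b w) {g : G} (hg : g ∈ normalizer (V : Set G)) :
    KB V cf (g * p * g⁻¹) (g * q * g⁻¹) n (fun v => pi (g⁻¹ * v * g)) b (fun i => g * w i * g⁻¹) := by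
  have backp : ∀ {a : G}, a ∈ ww V cf (g * p * g⁻¹) → g⁻¹ * a * g ∈ ww V cf p := by
    intro a ha
    rwa [← h.cj_ww hg hp hp1, mem_cj] at ha
  have backq : ∀ {a : G}, a ∈ ww V cf (g * q * g⁻¹) → g⁻¹ * a * g ∈ ww V cf q := by
    intro a ha
    rwa [← h.cj_ww hg hq hq1, mem_cj] at ha
  have backj : ∀ {a : G}, a ∈ jj V cf → g⁻¹ * a * g ∈ jj V cf := by
    intro a ha
    exact conj_mem_of_normalizer' h.normalizer_le_normalizer_jj hg ha
  have backc : ∀ {a : G}, a ∈ centralizer (V : Set G) → g⁻¹ * a * g ∈ centralizer (V : Set G) := by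
    intro a ha
    exact conj_mem_of_normalizer' (normalizer_le_normalizer_centralizer V) hg ha
  have fwdc : ∀ {a : G}, a ∈ centralizer (V : Set G) → g * a * g⁻¹ ∈ centralizer (V : Set G) := by
    intro a ha
    exact conj_mem_of_normalizer (normalizer_le_normalizer_centralizer V) hg ha
  have ecm : ∀ a c : G, g⁻¹ * cm a c * g = cm (g⁻¹ * a * g) (g⁻¹ * c * g) := by
    intro a c; unfold cm; group
  have ew : ∀ i, g⁻¹ * (g * w i * g⁻¹) * g = w i := by intro i; group
  have ecomm : ∀ {a c : G}, (g⁻¹ * a * g) * (g⁻¹ * c * g) = (g⁻¹ * c * g) * (g⁻¹ * a * g) → a * c = c * a := by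
    intro a c e
    calc a * c = g * ((g⁻¹ * a * g) * (g⁻¹ * c * g)) * g⁻¹ := by group
      _ = g * ((g⁻¹ * c * g) * (g⁻¹ * a * g)) * g⁻¹ := by rw [e]
      _ = c * a := by group
  refine ⟨K.two, ?_, ?_, ?_, ?_, ?_, K.ind, ?_, ?_, ?_, ?_, ?_⟩
  · intro a ha c hc
    have e : g⁻¹ * (a * c) * g = (g⁻¹ * a * g) * (g⁻¹ * c * g) := by group
    simp only [e]
    exact K.pi_mul _ (backp ha) _ (backp hc)
  · intro a ha
    rw [K.pi_ker _ (backp ha)]
    constructor
    · rintro (e | e)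
      · left
        calc a = g * (g⁻¹ * a * g) * g⁻¹ := by group
          _ = 1 := by rw [e]; group
      · right
        calc a = g * (g⁻¹ * a * g) * g⁻¹ := by group
          _ = g * p * g⁻¹ := by rw [e]
    · rintro (e | e)
      · left; rw [e]; group
      · right; rw [e]; group
  · intro i
    exact h.conj_ww hg hp hp1 (K.w_mem i)
  · intro i c hc
    simp only [ecm, ew]
    exact K.w_all i _ (backq hc)
  · intro i
    obtain ⟨c, hc, e⟩ := K.w_ne i
    refine ⟨g * c * g⁻¹, h.conj_ww hg hq hq1 hc, ?_⟩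
    have e1 : g⁻¹ * (g * c * g⁻¹) * g = c := by group
    simp only [ecm, ew, e1]
    exact e
  · have e1 : g⁻¹ * (g * q * g⁻¹) * g = q := by group
    simp only [e1]
    exact K.sum
  · intro c hc h1 v hv
    refine ecomm (K.sep _ (backq hc) (fun i => ?_) _ (backp hv))
    have := h1 i
    simp only [ecm, ew] at this
    exact this
  · intro i v hv h1
    have h2 : ∀ d ∈ ww V cf q, pi (cm (g⁻¹ * v * g) d) = 0 ∨ pi (cm (g⁻¹ * v * g) d) = b i := by
      intro d hd
      have h3 := h1 (g * d * g⁻¹) (h.conj_ww hg hq hq1 hd)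
      have e1 : g⁻¹ * (g * d * g⁻¹) * g = d := by group
      simp only [ecm, e1] at h3
      exact h3
    rcases K.cls i _ (backp hv) h2 with h3 | h3
    · left
      intro d hd
      exact ecomm (h3 _ (backq hd))
    · right
      intro d hd
      have h4 := h3 _ (backq hd)
      refine ecomm ?_
      have e1 : g⁻¹ * (v * (g * w i * g⁻¹)) * g = g⁻¹ * v * g * w i := by group
      rw [e1]; exact h4
  · intro c hc i u hu e
    obtain ⟨j, hj⟩ := K.cen _ (backc hc) i _ (backj hu) e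
    refine ⟨j, ?_⟩
    have e1 : g⁻¹ * (c * u * c⁻¹) * g = (g⁻¹ * c * g) * (g⁻¹ * u * g) * (g⁻¹ * c * g)⁻¹ := by group
    simp only [e1]
    exact hj
  · intro i j
    obtain ⟨c, hc, h1⟩ := K.trans i j
    refine ⟨g * c * g⁻¹, fwdc hc, fun u hu e => ?_⟩
    have h2 := h1 _ (backj hu) e
    have e1 : g⁻¹ * (g * c * g⁻¹ * u * (g * c * g⁻¹)⁻¹) * g = c * (g⁻¹ * u * g) * c⁻¹ := by group
    simp only [e1]
    exact h2

/-! ### consequences -/

theorem pi_eq (h : Fam T V z cf) (hp : p ∈ V) (hp1 : p ≠ 1) (K : KB V cf p q n pi b w) {a c : G}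
    (ha : a ∈ ww V cf p) (hc : c ∈ ww V cf p) (e : pi a = pi c) : a = c ∨ a = p * c := by
  have h1 : pi (a * c) = 0 := by rw [K.pi_mul a ha c hc, e, K.two]
  rcases (K.pi_ker _ (mul_mem ha hc)).mp h1 with e1 | e1
  · left
    calc a = (a * c) * c⁻¹ := by group
      _ = c := by rw [e1, one_mul, h.inv_ww hp hp1 hc]
  · right
    calc a = (a * c) * c⁻¹ := by group
      _ = p * c := by rw [e1, h.inv_ww hp hp1 hc]

theorem pi_one (K : KB V cf p q n pi b w) : pi 1 = 0 := (K.pi_ker 1 (one_mem _)).mpr (Or.inl rfl)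

theorem pi_p (h : Fam T V z cf) (hp : p ∈ V) (K : KB V cf p q n pi b w) : pi p = 0 :=
  (K.pi_ker p (h.V_le hp)).mpr (Or.inr rfl)

theorem pi_pmul (h : Fam T V z cf) (hp : p ∈ V) (K : KB V cf p q n pi b w) {a : G} (ha : a ∈ ww V cf p) :
    pi (p * a) = pi a := by rw [K.pi_mul p (h.V_le hp) a ha, K.pi_p h hp, zero_add]

theorem pi_q (h : Fam T V z cf) (hq : q ∈ V) (hq1 : q ≠ 1) (hqp : q ≠ p) (K : KB V cf p q n pi b w) :
    pi q ≠ 0 := by
  intro e
  rcases (K.pi_ker q (h.V_le hq)).mp e with e | e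
  · exact hq1 e
  · exact hqp e

theorem b_ne (K : KB V cf p q n pi b w) (i : Fin n) : b i ≠ 0 := by
  intro e
  have := K.ind {i} (by rw [Finset.sum_singleton, e])
  exact absurd this (Finset.singleton_ne_empty i)

/-- `pi q = ∑_S b` only for `S = univ` -/
theorem sum_univ (K : KB V cf p q n pi b w) {S : Finset (Fin n)} (e : ∑ i ∈ S, b i = pi q) :
    S = Finset.univ := by
  classical
  have h1 : ∑ i ∈ Finset.univ \ S, b i = 0 := by
    have h2 := Finset.sum_sdiff (f := b) (Finset.subset_univ S)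
    rw [e, K.sum] at h2
    simpa using h2
  have h2 := K.ind _ h1
  exact (Finset.eq_univ_iff_forall.mpr fun i => by
    by_contra hi
    have : i ∈ Finset.univ \ S := Finset.mem_sdiff.mpr ⟨Finset.mem_univ i, hi⟩
    rw [h2] at this
    exact absurd this (Finset.notMem_empty i))

theorem q_ne_one (K : KB V cf p q n pi b w) (hn : 2 ≤ n) (i : Fin n) : b i ≠ pi q := by
  intro e
  have h1 := K.sum_univ (S := {i}) (by rw [Finset.sum_singleton, e])
  have h2 := congrArg Finset.card h1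
  rw [Finset.card_singleton, Finset.card_univ, Fintype.card_fin] at h2
  omega

theorem q_ne_two (K : KB V cf p q n pi b w) (hn : 3 ≤ n) (i j : Fin n) : b i + b j ≠ pi q := by
  classical
  intro e
  by_cases hij : i = j
  · rw [hij, K.two] at e
    have h1 := K.sum
    rw [← e] at h1
    have h2 := K.ind _ h1
    have : i ∈ (Finset.univ : Finset (Fin n)) := Finset.mem_univ i
    rw [h2] at this
    exact absurd this (Finset.notMem_empty i)
  · have h1 := K.sum_univ (S := {i, j}) (by rw [Finset.sum_pair hij, e])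
    have h2 := congrArg Finset.card h1
    rw [Finset.card_pair hij, Finset.card_univ, Fintype.card_fin] at h2
    omega

theorem b_inj (K : KB V cf p q n pi b w) : Function.Injective b := by
  classical
  intro i j e
  by_contra hij
  have := K.ind {i, j} (by rw [Finset.sum_pair hij, e, K.two])
  exact absurd this (Finset.insert_ne_empty _ _)

end KB

/-! ### a pair of bases -/

section Pair

variable {T V : Subgroup G} {z : G} {cf : G → Subgroup G} {x y : G} {M M' : Type u} [AddCommGroup M]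
  [AddCommGroup M'] {n : ℕ} {pi : G → M} {pi' : G → M'} {b : Fin n → M} {b' : Fin n → M'} {w w' : Fin n → G}

namespace KB

variable (h : Fam T V z cf) (hx : x ∈ V) (hx1 : x ≠ 1) (hy : y ∈ V) (hy1 : y ≠ 1) (hyx : y ≠ x)
  (K : KB V cf x y n pi b w) (K' : KB V cf y x n pi' b' w')
include h hx hx1 hy hy1 hyx K K'

theorem e_symm (i j : Fin n) : cm (w' j) (w i) = cm (w i) (w' j) :=
  h.cm_symm hx hx1 hy hy1 hyx (K.w_mem i) (K'.w_mem j)

theorem e_mem (i j : Fin n) : cm (w i) (w' j) ∈ jj V cf :=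
  h.cm_mem hx hx1 hy hy1 hyx (K.w_mem i) (K'.w_mem j)

theorem e_cases (i j : Fin n) : pi (cm (w i) (w' j)) = 0 ∨ pi (cm (w i) (w' j)) = b i :=
  K.w_all i _ (K'.w_mem j)

theorem e_cases' (i j : Fin n) : pi' (cm (w i) (w' j)) = 0 ∨ pi' (cm (w i) (w' j)) = b' j := by
  have := K'.w_all j _ (K.w_mem i)
  rwa [K.e_symm h hx hx1 hy hy1 hyx K' i j] at this

/-- L1 -/
theorem e_one (hn : 2 ≤ n) {i j : Fin n} (e : pi (cm (w i) (w' j)) = 0) : cm (w i) (w' j) = 1 := by
  have hm := K.e_mem h hx hx1 hy hy1 hyx K' i j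
  rcases (K.pi_ker _ (Fam.jj_le hx hx1 hm)).mp e with e1 | e1
  · exact e1
  exfalso
  rcases K.e_cases' h hx hx1 hy hy1 hyx K' i j with e2 | e2
  · rw [e1] at e2
    exact K'.pi_q h hx hx1 (Ne.symm hyx) e2
  · rw [e1] at e2
    exact K'.q_ne_one hn j e2.symm

theorem e_one' (hn : 2 ≤ n) {i j : Fin n} (e : pi' (cm (w i) (w' j)) = 0) : cm (w i) (w' j) = 1 := by
  rw [← K.e_symm h hx hx1 hy hy1 hyx K' i j] at e ⊢
  exact K'.e_one h hy hy1 hx hx1 (Ne.symm hyx) K hn e

/-- L3 -/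
theorem e_pi (hn : 2 ≤ n) {i j : Fin n} (e : cm (w i) (w' j) ≠ 1) : pi (cm (w i) (w' j)) = b i :=
  (K.e_cases h hx hx1 hy hy1 hyx K' i j).resolve_left fun e1 =>
    e (K.e_one h hx hx1 hy hy1 hyx K' hn e1)

theorem e_pi' (hn : 2 ≤ n) {i j : Fin n} (e : cm (w i) (w' j) ≠ 1) : pi' (cm (w i) (w' j)) = b' j :=
  (K.e_cases' h hx hx1 hy hy1 hyx K' i j).resolve_left fun e1 =>
    e (K.e_one' h hx hx1 hy hy1 hyx K' hn e1)

/-- L2 -/
theorem exists_row (i : Fin n) : ∃ j, cm (w i) (w' j) ≠ 1 := by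
  by_contra hcon
  push Not at hcon
  obtain ⟨g, hg, hne⟩ := K.w_ne i
  have h1 := K'.sep (w i) (K.w_mem i) (fun j => by
    rw [K.e_symm h hx hx1 hy hy1 hyx K' i j, hcon j, K'.pi_one]) g hg
  exact hne (by rw [cm_eq_one h1.symm, K.pi_one])

/-- L4 -/
theorem row_unique (hn : 3 ≤ n) {i j j' : Fin n} (e : cm (w i) (w' j) ≠ 1) (e' : cm (w i) (w' j') ≠ 1) :
    j = j' := by
  have hn2 : 2 ≤ n := by omega
  by_contra hjj
  have hm := K.e_mem h hx hx1 hy hy1 hyx K' i j
  have hm' := K.e_mem h hx hx1 hy hy1 hyx K' i j'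
  have h1 : pi (cm (w i) (w' j) * cm (w i) (w' j')) = 0 := by
    rw [K.pi_mul _ (Fam.jj_le hx hx1 hm) _ (Fam.jj_le hx hx1 hm'), K.e_pi h hx hx1 hy hy1 hyx K' hn2 e,
      K.e_pi h hx hx1 hy hy1 hyx K' hn2 e', K.two]
  have h2 : pi' (cm (w i) (w' j) * cm (w i) (w' j')) = b' j + b' j' := by
    rw [K'.pi_mul _ (Fam.jj_le hy hy1 hm) _ (Fam.jj_le hy hy1 hm'), K.e_pi' h hx hx1 hy hy1 hyx K' hn2 e,
      K.e_pi' h hx hx1 hy hy1 hyx K' hn2 e']
  rcases (K.pi_ker _ (mul_mem (Fam.jj_le hx hx1 hm) (Fam.jj_le hx hx1 hm'))).mp h1 with e1 | e1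
  · rw [e1, K'.pi_one] at h2
    apply hjj
    apply K'.b_inj
    calc b' j = b' j + (b' j' + b' j') := by rw [K'.two, add_zero]
      _ = b' j' := by rw [← add_assoc, ← h2, zero_add]
  · rw [e1] at h2
    exact K'.q_ne_two hn j j' h2.symm

theorem col_unique (hn : 3 ≤ n) {i i' j : Fin n} (e : cm (w i) (w' j) ≠ 1) (e' : cm (w i') (w' j) ≠ 1) :
    i = i' := by
  rw [← K.e_symm h hx hx1 hy hy1 hyx K' _ j] at e e'
  exact K'.row_unique h hy hy1 hx hx1 (Ne.symm hyx) K hn e e'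

omit hx1 hyx in
/-- (U) -/
theorem unique (hn : 3 ≤ n) {r : G} (hr : r ∈ jj V cf) {j j' : Fin n} (e : pi' r = b' j)
    (e' : pi' (x * r) = b' j') : False := by
  have h1 : pi' x = b' j + b' j' := by
    rw [K'.pi_mul x (h.V_le hx) r (Fam.jj_le hy hy1 hr), e] at e'
    rw [← e', add_comm (pi' x), ← add_assoc, K'.two, zero_add]
  exact K'.q_ne_two hn j j' h1.symm

/-- **`n ≥ 3` is impossible** -/
theorem false_of_three (hn : 3 ≤ n) (heven : Even n) : False := by
  classical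
  have hn2 : 2 ≤ n := by omega
  choose τ hτ using fun i => K.exists_row h hx hx1 hy hy1 hyx K' i
  have hτinj : Function.Injective τ := by
    intro i i' e
    have h1 := hτ i
    rw [e] at h1
    exact K.col_unique h hx hx1 hy hy1 hyx K' hn h1 (hτ i')
  let r : Fin n → G := fun i => cm (w i) (w' (τ i))
  have hrj : ∀ i, r i ∈ jj V cf := fun i => K.e_mem h hx hx1 hy hy1 hyx K' i _
  have hrx : ∀ i, r i ∈ ww V cf x := fun i => Fam.jj_le hx hx1 (hrj i)
  have hry : ∀ i, r i ∈ ww V cf y := fun i => Fam.jj_le hy hy1 (hrj i)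
  have hr1 : ∀ i, pi (r i) = b i := fun i => K.e_pi h hx hx1 hy hy1 hyx K' hn2 (hτ i)
  have hr2 : ∀ i, pi' (r i) = b' (τ i) := fun i => K.e_pi' h hx hx1 hy hy1 hyx K' hn2 (hτ i)
  obtain ⟨k, hk, hk1⟩ := h.exists_mover hx hx1
  have hky := h.move hx hx1 hy hy1 hyx hk hk1
  have hkN : k ∈ normalizer (V : Set G) := h.qq_le_normalizer hx hk
  have hkr : ∀ i, k * r i * k⁻¹ = r i ∨ k * r i * k⁻¹ = x * r i := fun i => h.qq_cases hx hk (hrx i)
  have hCj : ∀ c ∈ centralizer (V : Set G), ∀ u ∈ jj V cf, c * u * c⁻¹ ∈ jj V cf := fun c hc u hu =>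
    conj_mem_of_normalizer h.normalizer_le_normalizer_jj (centralizer_le_normalizer _ hc) hu
  -- the exponent does not depend on `i`
  have hconst : ∀ i j, k * r i * k⁻¹ = r i → k * r j * k⁻¹ = r j := by
    intro i j hi
    obtain ⟨c, hc, hcb⟩ := K.trans i j
    have h1 := hcb (r i) (hrj i) (hr1 i)
    obtain ⟨l, hl⟩ := K'.cen c hc (τ i) (r i) (hrj i) (hr2 i)
    have h2 : c * r i * c⁻¹ = r j := by
      rcases K.pi_eq h hx hx1 (Fam.jj_le hx hx1 (hCj c hc _ (hrj i))) (hrx j) (h1.trans (hr1 j).symm) with e | e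
      · exact e
      · exfalso
        rw [e] at hl
        exact K.unique h hx hy hy1 K' hn (hrj j) (hr2 j) hl
    have hc' : k * c * k⁻¹ ∈ centralizer (V : Set G) :=
      conj_mem_of_normalizer (normalizer_le_normalizer_centralizer V) hkN hc
    obtain ⟨l', hl'⟩ := K'.cen _ hc' (τ i) (r i) (hrj i) (hr2 i)
    have h3 : k * r j * k⁻¹ = k * c * k⁻¹ * r i * (k * c * k⁻¹)⁻¹ := by
      calc k * r j * k⁻¹ = k * (c * r i * c⁻¹) * k⁻¹ := by rw [h2]
        _ = k * c * k⁻¹ * (k * r i * k⁻¹) * (k * c * k⁻¹)⁻¹ := by group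
        _ = _ := by rw [hi]
    rcases hkr j with e | e
    · exact e
    · exfalso
      rw [← h3, e] at hl'
      exact K.unique h hx hy hy1 K' hn (hrj j) (hr2 j) hl'
  -- the exponent
  obtain ⟨a, haV, ha2, ha⟩ : ∃ a ∈ V, a * a = 1 ∧ ∀ i, k * r i * k⁻¹ = a * r i := by
    by_cases hi : ∃ i, k * r i * k⁻¹ = r i
    · obtain ⟨i, hi⟩ := hi
      exact ⟨1, one_mem _, one_mul 1, fun j => by rw [one_mul]; exact hconst i j hi⟩
    · push Not at hi
      exact ⟨x, hx, h.ln.sq x hx, fun j => (hkr j).resolve_left (hi j)⟩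
  have hP : ∀ S : Finset (Fin n), ∃ P ∈ jj V cf, pi P = ∑ i ∈ S, b i ∧ pi' P = ∑ i ∈ S, b' (τ i) ∧
      k * P * k⁻¹ = a ^ S.card * P := by
    intro S
    induction S using Finset.induction_on with
    | empty => exact ⟨1, one_mem _, by simp [K.pi_one], by simp [K'.pi_one], by simp⟩
    | insert i S hi ih =>
      obtain ⟨P, hPj, h1, h2, h3⟩ := ih
      refine ⟨r i * P, mul_mem (hrj i) hPj, ?_, ?_, ?_⟩
      · rw [K.pi_mul _ (hrx i) _ (Fam.jj_le hx hx1 hPj), hr1, h1, Finset.sum_insert hi]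
      · rw [K'.pi_mul _ (hry i) _ (Fam.jj_le hy hy1 hPj), hr2, h2, Finset.sum_insert hi]
      · rw [Finset.card_insert_of_notMem hi, pow_succ]
        have hcomm : r i * a ^ S.card = a ^ S.card * r i :=
          h.comm hx hx1 _ (hrx i) _ (h.V_le (pow_mem haV _))
        calc k * (r i * P) * k⁻¹ = (k * r i * k⁻¹) * (k * P * k⁻¹) := by group
          _ = a * (r i * a ^ S.card) * P := by rw [ha, h3]; group
          _ = a * a ^ S.card * (r i * P) := by rw [hcomm]; group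
          _ = a ^ S.card * a * (r i * P) := by rw [← pow_succ', pow_succ]
  obtain ⟨P, hPj, h1, h2, h3⟩ := hP Finset.univ
  rw [K.sum] at h1
  have h4 : ∑ i, b' (τ i) = pi' x := by
    rw [← K'.sum]
    exact (Finset.sum_equiv (Equiv.ofBijective τ (Finite.injective_iff_bijective.mp hτinj)) (by simp)
      (fun i _ => rfl))
  rw [h4] at h2
  have hPx := Fam.jj_le hx hx1 hPj
  have hPs : P = x * y := by
    rcases K.pi_eq h hx hx1 hPx (h.V_le hy) h1 with e | e
    · exfalso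
      rw [e, K'.pi_p h hy] at h2
      exact K'.pi_q h hx hx1 (Ne.symm hyx) h2.symm
    · exact e
  rw [Finset.card_univ, Fintype.card_fin] at h3
  have h5 : a ^ n = 1 := by
    obtain ⟨l, rfl⟩ := heven
    rw [← two_mul, pow_mul, pow_two, ha2, one_pow]
  rw [h5, one_mul, hPs] at h3
  have h6 : k * (x * y) * k⁻¹ = y := by
    have hkx : k * x * k⁻¹ = x := conj_eq_of_comm (h.qq_p hk)
    calc k * (x * y) * k⁻¹ = (k * x * k⁻¹) * (k * y * k⁻¹) := by group
      _ = (x * x) * y := by rw [hkx, hky]; group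
      _ = y := by rw [h.ln.sq x hx, one_mul]
  rw [h6] at h3
  exact hx1 (by simpa using h3.symm)

end KB

namespace KB

/-- for `n = 2` the elements over the centres form a coset of `V` -/
theorem coset {p q : G} (h : Fam T V z cf) (hp : p ∈ V) (hp1 : p ≠ 1) (hq : q ∈ V) (hn : n = 2)
    (K : KB V cf p q n pi b w) {u r : G} (hu : u ∈ jj V cf) (hr : r ∈ jj V cf) {i j : Fin n} (e : pi u = b i)
    (e' : pi r = b j) : ∃ v ∈ V, r = v * u := by
  classical
  have hup := Fam.jj_le hp hp1 hu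
  have hrp := Fam.jj_le hp hp1 hr
  by_cases hij : i = j
  · subst hij
    rcases K.pi_eq h hp hp1 hrp hup (e'.trans e.symm) with e1 | e1
    · exact ⟨1, one_mem _, by rw [e1, one_mul]⟩
    · exact ⟨p, hp, e1⟩
  · have h1 : pi q = b i + b j := by
      rw [← K.sum, ← Finset.sum_pair hij]
      congr 1
      symm
      rw [Finset.eq_univ_iff_forall]
      subst hn
      revert i j
      intro i j
      fin_cases i <;> fin_cases j <;> intro _ _ h <;> first | (exact absurd rfl h) | decide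
    have h2 : pi r = pi (q * u) := by
      rw [K.pi_mul q (h.V_le hq) u hup, h1, e, e', add_comm (b i), add_assoc, K.two, add_zero]
    rcases K.pi_eq h hp hp1 hrp (mul_mem (h.V_le hq) hup) h2 with e1 | e1
    · exact ⟨q, hq, e1⟩
    · exact ⟨p * q, mul_mem hp hq, by rw [e1]; group⟩

section Two

variable (h : Fam T V z cf) (hx : x ∈ V) (hx1 : x ≠ 1) (hy : y ∈ V) (hy1 : y ≠ 1) (hyx : y ≠ x)
  (K : KB V cf x y n pi b w) (K' : KB V cf y x n pi' b' w')
include h hx hx1 hy hy1 hyx K K'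

/-- for `n = 2` some `c ∈ C_G(V)` multiplies all elements over the centres with `y` -/
theorem exists_four [Finite G] (hn : n = 2) : ∃ c ∈ centralizer (V : Set G),
    (∀ r ∈ jj V cf, ∀ i, pi r = b i → c * r * c⁻¹ = y * r) ∧
      (∀ r ∈ jj V cf, ∀ i, pi' r = b' i → c * r * c⁻¹ = y * r) := by
  have hn2 : 2 ≤ n := by omega
  set i0 : Fin n := ⟨0, by omega⟩
  obtain ⟨j0, hj0⟩ := K.exists_row h hx hx1 hy hy1 hyx K' i0
  set u := cm (w i0) (w' j0) with hu
  have huj : u ∈ jj V cf := K.e_mem h hx hx1 hy hy1 hyx K' i0 j0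
  have hu1 : pi u = b i0 := K.e_pi h hx hx1 hy hy1 hyx K' hn2 hj0
  have hu2 : pi' u = b' j0 := K.e_pi' h hx hx1 hy hy1 hyx K' hn2 hj0
  have hux := Fam.jj_le hx hx1 huj
  have huV : ∀ v ∈ V, u * v = v * u := fun v hv => h.comm hx hx1 u hux v (h.V_le hv)
  have huu : u * u = 1 := h.sq hx hx1 u hux
  have hc1 : ∀ r ∈ jj V cf, ∀ i, pi r = b i → ∃ v ∈ V, r = v * u := fun r hr i e =>
    K.coset h hx hx1 hy hn huj hr hu1 e
  have hc2 : ∀ r ∈ jj V cf, ∀ i, pi' r = b' i → ∃ v ∈ V, r = v * u := fun r hr i e =>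
    K'.coset h hy hy1 hx hn huj hr hu2 e
  let U : Subgroup G :=
    { carrier := {g | g ∈ V ∨ ∃ v ∈ V, g = v * u}
      mul_mem' := by
        rintro a b (ha | ⟨v, hv, rfl⟩) (hb | ⟨v', hv', rfl⟩)
        · exact Or.inl (mul_mem ha hb)
        · exact Or.inr ⟨a * v', mul_mem ha hv', by group⟩
        · refine Or.inr ⟨v * b, mul_mem hv hb, ?_⟩
          rw [mul_assoc, huV b hb, mul_assoc]
        · refine Or.inl ?_
          have : v * u * (v' * u) = v * v' := by
            calc v * u * (v' * u) = v * (u * v') * u := by group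
              _ = v * v' * (u * u) := by rw [huV v' hv']; group
              _ = v * v' := by rw [huu, mul_one]
          rw [this]; exact mul_mem hv hv'
      one_mem' := Or.inl (one_mem _)
      inv_mem' := by
        rintro a (ha | ⟨v, hv, rfl⟩)
        · exact Or.inl (inv_mem ha)
        · refine Or.inr ⟨v⁻¹, inv_mem hv, ?_⟩
          rw [mul_inv_rev, inv_eq_self huu, huV _ (inv_mem hv)] }
  have hVU : V ≤ U := fun v hv => Or.inl hv
  have hUj : U ≤ jj V cf := by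
    rintro a (ha | ⟨v, hv, rfl⟩)
    · exact h.V_le_jj ha
    · exact mul_mem (h.V_le_jj hv) huj
  have hnorm : normalizer (V : Set G) ≤ normalizer (U : Set G) := by
    refine h.norm_of_cent hVU hUj fun c hc a ha => ?_
    have hcj : ∀ a ∈ jj V cf, c * a * c⁻¹ ∈ jj V cf := fun a ha =>
      conj_mem_of_normalizer h.normalizer_le_normalizer_jj (centralizer_le_normalizer _ hc) ha
    rcases ha with ha | ⟨v, hv, rfl⟩
    · left
      rw [conj_eq_of_comm (h.V_comm ha hc).symm]; exact ha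
    · right
      obtain ⟨j, hj⟩ := K.cen c hc i0 u huj hu1
      obtain ⟨v', hv', e⟩ := hc1 _ (hcj u huj) j hj
      refine ⟨v * v', mul_mem hv hv', ?_⟩
      calc c * (v * u) * c⁻¹ = (c * v * c⁻¹) * (c * u * c⁻¹) := by group
        _ = v * v' * u := by rw [conj_eq_of_comm (h.V_comm hv hc).symm, e]; group
  have huV' : u ∉ V := by
    intro huV
    have e0 := K.b_ne i0
    have e1 := K.q_ne_one hn2 i0
    rcases h.ln.four hx hy hx1 hy1 (Ne.symm hyx) huV with e | e | e | e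
    · rw [e, K.pi_one] at hu1; exact e0 hu1.symm
    · rw [e, K.pi_p h hx] at hu1; exact e0 hu1.symm
    · rw [e] at hu1; exact e1 hu1.symm
    · rw [e, K.pi_pmul h hx (h.V_le hy)] at hu1; exact e1 hu1.symm
  obtain ⟨c, hc, hcu⟩ := h.four_of hUj hnorm (u := u) (Or.inr ⟨1, one_mem _, by rw [one_mul]⟩) huV' (by
    rintro g (hg | ⟨v, hv, rfl⟩)
    · exact Or.inl hg
    · right; rw [mul_inv_cancel_right]; exact hv) hy
  have key : ∀ v ∈ V, c * (v * u) * c⁻¹ = y * (v * u) := by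
    intro v hv
    calc c * (v * u) * c⁻¹ = (c * v * c⁻¹) * (c * u * c⁻¹) := by group
      _ = v * y * u := by rw [conj_eq_of_comm (h.V_comm hv hc).symm, hcu]; group
      _ = y * (v * u) := by rw [h.ln.comm hv hy]; group
  refine ⟨c, hc, fun r hr i e => ?_, fun r hr i e => ?_⟩
  · obtain ⟨v, hv, rfl⟩ := hc1 r hr i e
    exact key v hv
  · obtain ⟨v, hv, rfl⟩ := hc2 r hr i e
    exact key v hv

/-- **`n = 2` is impossible** -/
theorem false_of_two [Finite G] (hn : n = 2) : False := by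
  classical
  have hn2 : 2 ≤ n := by omega
  obtain ⟨c, hc, hc1, hc2⟩ := K.exists_four h hx hx1 hy hy1 hyx K' hn
  set i0 : Fin n := ⟨0, by omega⟩ with hi0
  set i1 : Fin n := ⟨1, by omega⟩ with hi1
  have hi01 : i0 ≠ i1 := by
    intro e
    have := congrArg Fin.val e
    simp [hi0, hi1] at this
  have hpy : pi y = b i0 + b i1 := by
    rw [← K.sum, ← Finset.sum_pair hi01]
    congr 1
    symm
    rw [Finset.eq_univ_iff_forall]
    intro i
    have := i.2
    rw [Finset.mem_insert, Finset.mem_singleton, Fin.ext_iff, Fin.ext_iff]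
    simp only [hi0, hi1]
    omega
  have hcx : ∀ {a : G}, a ∈ ww V cf x → c * a * c⁻¹ ∈ ww V cf x := fun ha =>
    conj_mem_of_normalizer (h.cent_norm hx hx1) hc ha
  have hcy : ∀ {a : G}, a ∈ ww V cf y → c * a * c⁻¹ ∈ ww V cf y := fun ha =>
    conj_mem_of_normalizer (h.cent_norm hy hy1) hc ha
  have hcx' : ∀ {a : G}, a ∈ ww V cf x → c⁻¹ * a * c ∈ ww V cf x := fun ha =>
    conj_mem_of_normalizer' (h.cent_norm hx hx1) hc ha
  have hcy' : ∀ {a : G}, a ∈ ww V cf y → c⁻¹ * a * c ∈ ww V cf y := fun ha =>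
    conj_mem_of_normalizer' (h.cent_norm hy hy1) hc ha
  have hcv : ∀ v ∈ V, c * v * c⁻¹ = v := fun v hv => conj_eq_of_comm (h.V_comm hv hc).symm
  have hcmc : ∀ a g : G, cm (c * a * c⁻¹) g = c * cm a (c⁻¹ * g * c) * c⁻¹ := by
    intro a g; unfold cm; group
  have hxy := Ne.symm hyx
  -- (1)
  set v := c * w i0 * c⁻¹ with hv
  have hvW : v ∈ ww V cf x := hcx (K.w_mem i0)
  have h1 : ∀ g ∈ ww V cf y, pi (cm v g) = 0 ∨ pi (cm v g) = b i1 := by
    intro g hg
    have hg' := hcy' hg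
    have hm := h.cm_mem hx hx1 hy hy1 hyx (K.w_mem i0) hg'
    have hmx := Fam.jj_le hx hx1 hm
    rw [hv, hcmc]
    rcases K.w_all i0 _ hg' with e | e
    · left
      rcases (K.pi_ker _ hmx).mp e with e1 | e1
      · rw [e1, hcv 1 (one_mem _), K.pi_one]
      · rw [e1, hcv x hx, K.pi_p h hx]
    · right
      rw [hc1 _ hm i0 e, K.pi_mul y (h.V_le hy) _ hmx, e, hpy, add_comm (b i0), add_assoc, K.two, add_zero]
  have h2 : ∀ g ∈ ww V cf y, v * w i1 * g = g * (v * w i1) := by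
    rcases K.cls i1 v hvW h1 with h3 | h3
    · exfalso
      obtain ⟨g, hg, hne⟩ := K.w_ne i0
      apply hne
      have h4 := h3 _ (hcy hg)
      have h5 : w i0 * g = g * w i0 := by
        calc w i0 * g = c⁻¹ * (v * (c * g * c⁻¹)) * c := by rw [hv]; group
          _ = c⁻¹ * ((c * g * c⁻¹) * v) * c := by rw [h4]
          _ = g * w i0 := by rw [hv]; group
      rw [cm_eq_one h5, K.pi_one]
    · exact h3
  -- (2)
  have h3 : ∀ j, ∀ g ∈ ww V cf x, c * w' j * c⁻¹ * w' j * g = g * (c * w' j * c⁻¹ * w' j) := by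
    intro j
    have h4 : ∀ g ∈ ww V cf x, pi' (cm (c * w' j * c⁻¹) g) = 0 ∨ pi' (cm (c * w' j * c⁻¹) g) = b' j := by
      intro g hg
      have hg' := hcx' hg
      have hm := h.cm_mem hy hy1 hx hx1 hxy (K'.w_mem j) hg'
      have hmy := Fam.jj_le hy hy1 hm
      rw [hcmc]
      rcases K'.w_all j _ hg' with e | e
      · left
        rcases (K'.pi_ker _ hmy).mp e with e1 | e1
        · rw [e1, hcv 1 (one_mem _), K'.pi_one]
        · rw [e1, hcv y hy, K'.pi_p h hy]
      · right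
        rw [hc2 _ hm j e, K'.pi_pmul h hy hmy, e]
    rcases K'.cls j _ (hcy (K'.w_mem j)) h4 with h5 | h5
    · exfalso
      obtain ⟨g, hg, hne⟩ := K'.w_ne j
      apply hne
      have h4 := h5 _ (hcx hg)
      have h5 : w' j * g = g * w' j := by
        calc w' j * g = c⁻¹ * (c * w' j * c⁻¹ * (c * g * c⁻¹)) * c := by group
          _ = c⁻¹ * ((c * g * c⁻¹) * (c * w' j * c⁻¹)) * c := by rw [h4]
          _ = g * w' j := by group
      rw [cm_eq_one h5, K'.pi_one]
    · exact h5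
  -- (3)
  have h4 : ∀ j, cm (w i1) (w' j) = c * cm (w i0) (w' j) * c⁻¹ := by
    intro j
    set ζ := v * w i1 with hζ
    set ζ' := c * w' j * c⁻¹ * w' j with hζ'
    have hζW : ζ ∈ ww V cf x := mul_mem hvW (K.w_mem i1)
    have hζW' : ζ' ∈ ww V cf y := mul_mem (hcy (K'.w_mem j)) (K'.w_mem j)
    have e1 : v = ζ * w i1 := by
      rw [hζ, mul_assoc, h.sq hx hx1 _ (K.w_mem i1), mul_one]
    have e2 : c * w' j * c⁻¹ = ζ' * w' j := by
      rw [hζ', mul_assoc (c * w' j * c⁻¹), h.sq hy hy1 _ (K'.w_mem j), mul_one]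
    have e3 : cm v (c * w' j * c⁻¹) = c * cm (w i0) (w' j) * c⁻¹ := by rw [hv]; exact cm_conj c _ _
    rw [← e3, e1, e2, h.cm_mul_left hx hx1 hy hy1 hyx hζW (K.w_mem i1) (mul_mem hζW' (K'.w_mem j)),
      cm_eq_one (h2 _ (mul_mem hζW' (K'.w_mem j))), one_mul,
      h.cm_mul_right hx hx1 hy hy1 hyx (K.w_mem i1) hζW' (K'.w_mem j),
      cm_eq_one (h3 j _ (K.w_mem i1)).symm, one_mul]
  -- (4)
  have h5 : ∀ g ∈ ww V cf y, g * (w i0 * w i1) = (w i0 * w i1) * g := by
    refine K'.sep _ (mul_mem (K.w_mem i0) (K.w_mem i1)) fun j => ?_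
    have hm := K.e_mem h hx hx1 hy hy1 hyx K' i0 j
    have hm' := K.e_mem h hx hx1 hy hy1 hyx K' i1 j
    rw [h.cm_symm hx hx1 hy hy1 hyx (mul_mem (K.w_mem i0) (K.w_mem i1)) (K'.w_mem j),
      h.cm_mul_left hx hx1 hy hy1 hyx (K.w_mem i0) (K.w_mem i1) (K'.w_mem j),
      K'.pi_mul _ (Fam.jj_le hy hy1 hm) _ (Fam.jj_le hy hy1 hm'), h4 j]
    by_cases he : cm (w i0) (w' j) = 1
    · rw [he, hcv 1 (one_mem _), K'.pi_one, add_zero]
    · rw [hc2 _ hm j (K.e_pi' h hx hx1 hy hy1 hyx K' hn2 he), K'.pi_pmul h hy (Fam.jj_le hy hy1 hm), K'.two]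
  obtain ⟨g, hg, hne⟩ := K.w_ne i0
  have h6 : cm (w i0) g * cm (w i1) g = 1 := by
    rw [← h.cm_mul_left hx hx1 hy hy1 hyx (K.w_mem i0) (K.w_mem i1) hg]
    exact cm_eq_one (h5 g hg).symm
  have hm := h.cm_mem hx hx1 hy hy1 hyx (K.w_mem i0) hg
  have hm' := h.cm_mem hx hx1 hy hy1 hyx (K.w_mem i1) hg
  have h7 : pi (cm (w i0) g) + pi (cm (w i1) g) = 0 := by
    rw [← K.pi_mul _ (Fam.jj_le hx hx1 hm) _ (Fam.jj_le hx hx1 hm'), h6, K.pi_one]
  rw [(K.w_all i0 g hg).resolve_left hne] at h7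
  rcases K.w_all i1 g hg with e | e
  · rw [e, add_zero] at h7
    exact K.b_ne i0 h7
  · rw [e] at h7
    have h8 : ∑ i ∈ ({i0, i1} : Finset (Fin n)), b i = 0 := by rw [Finset.sum_pair hi01, h7]
    exact absurd (K.ind _ h8) (Finset.insert_ne_empty _ _)

end Two

/-- **`n ≥ 2` is impossible** -/
theorem false_of {x y : G} [Finite G] (h : Fam T V z cf) (hx : x ∈ V) (hx1 : x ≠ 1) (hy : y ∈ V) (hy1 : y ≠ 1)
    (hyx : y ≠ x) (K : KB V cf x y n pi b w) (hn : 2 ≤ n) (heven : Even n) : False := by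
  obtain ⟨g, hg, e1, e2⟩ := h.trans2 hx hx1 hy hy1 hyx hy hy1 hx hx1 (Ne.symm hyx)
  have K' := K.conj h hx hx1 hy hy1 hg
  rw [e1, e2] at K'
  by_cases hn2 : n = 2
  · exact K.false_of_two h hx hx1 hy hy1 hyx K' hn2
  · exact K.false_of_three h hx hx1 hy hy1 hyx K' (by omega) heven

end KB

end Pair

end Cfsg.Agent.Omega.NO3S.Fit

end

section


/-!
# Text #13963 (helper311), (3.4): `k ≥ 2` is impossible if `A` is not trivial on `F(H)`

* `Fam.exists_kb` : the transvection basis, from the module part;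
* `Fam.one1_of_nilpotent`, `Fam.one1_of_pgroup` : if the image `A` of `W_y` in `H = C_z / Q_z` does not centralise a normal
  nilpotent subgroup of odd order (a normal `p`-subgroup, `p ≠ 2`) of `H`, then `k = 1` (`One1 V cf`).
-/

set_option autoImplicit false
set_option linter.unusedSectionVars false

namespace Cfsg.Agent.Omega.NO3S.Fit

open Subgroup Cfsg Cfsg.Agent.ZN Cfsg.Agent.MinSimple.Geo Cfsg.Agent.Omega.CaseL
open Cfsg.Agent.ZN.Block (conj_mem_of_normalizer conj_mem_of_normalizer' le_normalizer_of_forall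
  mem_normalizer_of)

universe u

variable {G : Type u} [Group G]

namespace Fam

variable {T V : Subgroup G} {z : G} {cf : G → Subgroup G} {M H : Type u} [AddCommGroup M] [Group H]
  [DistribMulAction H M]

section Setup

variable [Finite G] (h : Fam T V z cf) (R : MRep V cf z M H) {y : G} (hy : y ∈ V) (hy1 : y ≠ 1) (hyz : y ≠ z)
include h hy hy1 hyz

theorem img_norm {x : H} (hx : x • R.pi y = R.pi y) : ∀ c ∈ R.img (ww V cf y), x * c * x⁻¹ ∈ R.img (ww V cf y) := by
  have hW := h.ww_le_cf' hy hy1 h.ln.z_mem h.ln.z_ne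
  intro c hc
  obtain ⟨g, hg, rfl⟩ := (R.mem_img hW).mp hc
  obtain ⟨g', hg', e, -⟩ := R.norm_A h hy hy1 hy hy1 hyz hx hg
  rw [e]
  exact (R.mem_img hW).mpr ⟨g', hg', rfl⟩

theorem img_quad : ∀ a ∈ R.img (ww V cf y), ∀ b ∈ R.img (ww V cf y), ∀ m : M, a • (b • m - m) = b • m - m := by
  have hW := h.ww_le_cf' hy hy1 h.ln.z_mem h.ln.z_ne
  intro a ha b hb m
  obtain ⟨g, hg, rfl⟩ := (R.mem_img hW).mp ha
  obtain ⟨g', hg', rfl⟩ := (R.mem_img hW).mp hb
  obtain ⟨w, hw, rfl⟩ := R.pi_surj m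
  exact R.quad h hy hy1 hyz hg hg' hw

omit hyz in
theorem img_sq : ∀ a ∈ R.img (ww V cf y), a * a = 1 := by
  have hW := h.ww_le_cf' hy hy1 h.ln.z_mem h.ln.z_ne
  intro a ha
  obtain ⟨g, hg, rfl⟩ := (R.mem_img hW).mp ha
  exact R.sq_A h hy hy1 hg

/-- LEMMA FIX for `[M,A]` -/
theorem img_fix : ∀ k ∈ Abs.brs M (R.img (ww V cf y)), k ≠ 0 → (∀ t ∈ R.img T, t • k = k) → k = R.pi y := by
  have hz := h.ln.z_mem
  have hz1 := h.ln.z_ne
  have hW := h.ww_le_cf' hy hy1 hz hz1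
  have hjz : jj V cf ≤ ww V cf z := jj_le hz hz1
  let B : AddSubgroup M :=
    { carrier := {m | ∃ f ∈ jj V cf, R.pi f = m}
      zero_mem' := ⟨1, one_mem _, R.pi_one h⟩
      add_mem' := by
        rintro _ _ ⟨f, hf, rfl⟩ ⟨g, hg, rfl⟩
        exact ⟨f * g, mul_mem hf hg, R.pi_mul f (hjz hf) g (hjz hg)⟩
      neg_mem' := by
        rintro _ ⟨f, hf, rfl⟩
        exact ⟨f⁻¹, inv_mem hf, R.pi_inv h (hjz hf)⟩ }
  have hB : Abs.brs M (R.img (ww V cf y)) ≤ B := by
    refine Abs.brs_le fun a ha => ?_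
    obtain ⟨g, hg, rfl⟩ := (R.mem_img hW).mp ha
    rintro _ ⟨m, rfl⟩
    obtain ⟨w, hw, rfl⟩ := R.pi_surj m
    rw [R.comm_eq h (hW hg) hw]
    exact ⟨_, h.comm_mem_jj hy hy1 hz hz1 (Ne.symm hyz) hg hw, rfl⟩
  intro k hk hk0 hkT
  obtain ⟨f, hf, rfl⟩ := hB hk
  exact (R.fixI h hy hy1 hyz hf hkT).resolve_left hk0

omit hyz in
/-- (CP) -/
theorem img_cp (hyz : y ≠ z) {x : H} (hx : x • R.pi y = R.pi y) (hodd : Odd (orderOf x)) {a : H}
    (ha : a ∈ R.img (ww V cf y)) (hi : a * x * a⁻¹ = x⁻¹) : x = 1 := by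
  have h1 := h.img_norm R hy hy1 hyz hx a ha
  have h2 : x * x ∈ R.img (ww V cf y) := by
    have h3 := mul_mem h1 (inv_mem ha)
    have h4 : x = a * x⁻¹ * a⁻¹ := (Abs.inv_symm hi).symm
    have h5 : x * a * x⁻¹ * a⁻¹ = x * x := by
      calc x * a * x⁻¹ * a⁻¹ = x * (a * x⁻¹ * a⁻¹) := by group
        _ = x * x := by rw [← h4]
    rwa [h5] at h3
  have h3 := h.img_sq R hy hy1 _ h2
  have h4 : x ^ 4 = 1 := by rw [← h3]; simp only [pow_succ, pow_zero, one_mul, mul_assoc]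
  have h5 : orderOf x ∣ 4 := orderOf_dvd_of_pow_eq_one h4
  have h6 : (orderOf x).Coprime 4 := by
    have : Nat.Coprime (orderOf x) (2 ^ 2) := Nat.Coprime.pow_right 2 (Nat.coprime_two_right.mpr hodd)
    exact this
  exact orderOf_eq_one_iff.mp (Nat.eq_one_of_dvd_coprimes h6 dvd_rfl h5)

/-- `W_z ∩ Q_y` modulo `⟨z⟩` -/
def m1 (h : Fam T V z cf) (R : MRep V cf z M H) (y : G) : AddSubgroup M where
  carrier := {m | ∃ w ∈ ww V cf z, w ∈ qq V cf y ∧ R.pi w = m}
  zero_mem' := ⟨1, one_mem _, one_mem _, R.pi_one h⟩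
  add_mem' := by
    rintro _ _ ⟨f, hf, hf', rfl⟩ ⟨g, hg, hg', rfl⟩
    exact ⟨f * g, mul_mem hf hg, mul_mem hf' hg', R.pi_mul f hf g hg⟩
  neg_mem' := by
    rintro _ ⟨f, hf, hf', rfl⟩
    exact ⟨f⁻¹, inv_mem hf, inv_mem hf', R.pi_inv h hf⟩

omit hyz in
theorem m1_br : ∀ m ∈ m1 h R y, ∀ a ∈ R.img (ww V cf y), a • m = m ∨ a • m = m + R.pi y := by
  have hW := h.ww_le_cf' hy hy1 h.ln.z_mem h.ln.z_ne
  rintro _ ⟨w, hw, hwy, rfl⟩ a ha
  obtain ⟨g, hg, rfl⟩ := (R.mem_img hW).mp ha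
  rcases R.br_one h hy hy1 hg hw hwy with e | e
  · exact Or.inl (sub_eq_zero.mp e)
  · right
    rw [← e]; abel

/-- `|M : M1| ≤ |A|` -/
theorem m1_index [Finite M] [Finite H] : (m1 h R y).index ≤ Nat.card (R.img (ww V cf y)) := by
  classical
  have hz := h.ln.z_mem
  have hz1 := h.ln.z_ne
  have hW := h.ww_le_cf' hy hy1 hz hz1
  obtain ⟨g, hg, e1, e2⟩ := h.trans2 hz hz1 hy hy1 hyz hy hy1 hz hz1 (Ne.symm hyz)
  choose w hw hwm using R.pi_surj
  have hgw : ∀ {a : G}, a ∈ ww V cf z → g * a * g⁻¹ ∈ ww V cf y := by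
    intro a ha
    have := h.conj_ww hg hz hz1 ha
    rwa [e1] at this
  have hphiy : R.phi y = 1 := (R.phi_ker y (h.V_le_cf hz hz1 hy)).mpr
    (h.kk_le_qq hz hz1 (h.V_le_kk hz hz1 hy))
  have hadd : ∀ m m' : M, R.phi (g * w (m + m') * g⁻¹) = R.phi (g * w m * g⁻¹) * R.phi (g * w m' * g⁻¹) := by
    intro m m'
    rw [← R.phi_mul _ (hW (hgw (hw m))) _ (hW (hgw (hw m')))]
    have e : R.pi (w (m + m')) = R.pi (w m * w m') := by rw [R.pi_mul _ (hw m) _ (hw m'), hwm, hwm, hwm]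
    rcases (R.pi_eq h (hw _) (mul_mem (hw m) (hw m'))).mp e with e3 | e3
    · rw [e3]; congr 1; group
    · have e4 : g * w (m + m') * g⁻¹ = y * (g * (w m * w m') * g⁻¹) := by
        rw [e3, ← e1]; group
      rw [e4, R.phi_mul y (h.V_le_cf hz hz1 hy) _ (hW (hgw (mul_mem (hw m) (hw m')))), hphiy, one_mul]
      congr 1; group
  let ψ : M →+ Additive (R.img (ww V cf y)) := AddMonoidHom.mk'
    (fun m => Additive.ofMul ⟨R.phi (g * w m * g⁻¹), (R.mem_img hW).mpr ⟨_, hgw (hw m), rfl⟩⟩)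
    (fun m m' => congrArg Additive.ofMul (Subtype.ext (hadd m m')))
  have hker : ψ.ker ≤ m1 h R y := by
    intro m hm
    have h1 : R.phi (g * w m * g⁻¹) = 1 := congrArg (fun a : Additive (R.img (ww V cf y)) => (a.toMul : H)) hm
    refine ⟨w m, hw m, ?_, hwm m⟩
    have h2 := (R.phi_ker _ (hW (hgw (hw m)))).mp h1
    have h3 := h.conj_qq (inv_mem hg) hz hz1 h2
    have e3 : g⁻¹ * z * g⁻¹⁻¹ = y := by rw [← e2]; group
    have e4 : g⁻¹ * (g * w m * g⁻¹) * g⁻¹⁻¹ = w m := by group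
    rwa [e3, e4] at h3
  calc (m1 h R y).index ≤ ψ.ker.index := AddSubgroup.index_antitone hker
    _ = Nat.card ψ.range := AddSubgroup.index_ker ψ
    _ ≤ Nat.card (Additive (R.img (ww V cf y))) := Nat.card_le_card_of_injective _ Subtype.val_injective
    _ = Nat.card (R.img (ww V cf y)) := rfl

/-- `k ≥ 2` -/
theorem img_card (hk : ¬ One1 V cf) [Finite H] : 2 < Nat.card (R.img (ww V cf y)) := by
  classical
  have hz := h.ln.z_mem
  have hz1 := h.ln.z_ne
  have hW := h.ww_le_cf' hy hy1 hz hz1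
  by_contra hcon
  apply hk
  refine h.one1_of hy hy1 hz hz1 (Ne.symm hyz) fun w hw w' hw' hwz hwz' => ?_
  by_contra hne
  have h1 : R.phi w ≠ 1 := R.phi_ne_one (hW hw) hwz
  have h1' : R.phi w' ≠ 1 := R.phi_ne_one (hW hw') hwz'
  have h2 : R.phi w ≠ R.phi w' := by
    intro e
    apply hne
    rw [← R.phi_ker _ (mul_mem (hW hw) (hW hw')), R.phi_mul _ (hW hw) _ (hW hw'), ← e]
    exact R.sq_A h hy hy1 hw
  have h3 : (({1, R.phi w, R.phi w'} : Finset H) : Set H) ⊆ (R.img (ww V cf y) : Set H) := by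
    intro x hx
    simp only [Finset.coe_insert, Finset.coe_singleton, Set.mem_insert_iff, Set.mem_singleton_iff] at hx
    rcases hx with rfl | rfl | rfl
    · exact one_mem _
    · exact (R.mem_img hW).mpr ⟨w, hw, rfl⟩
    · exact (R.mem_img hW).mpr ⟨w', hw', rfl⟩
  have h4 := Set.ncard_le_ncard h3 (Set.toFinite _)
  rw [Set.ncard_coe_finset] at h4
  have h5 : ({1, R.phi w, R.phi w'} : Finset H).card = 3 := by
    rw [Finset.card_insert_of_notMem, Finset.card_insert_of_notMem, Finset.card_singleton]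
    · simpa using h2
    · simp [Ne.symm h1, Ne.symm h1']
  have h6 : Set.ncard (R.img (ww V cf y) : Set H) = Nat.card (R.img (ww V cf y)) :=
    (Nat.card_coe_set_eq _).symm
  omega

end Setup

/-- **(3.4), the transvection basis** -/
theorem exists_kb [Finite G] [Finite M] [Finite H] [FaithfulSMul H M] (h : Fam T V z cf) (R : MRep V cf z M H)
    {y : G} (hy : y ∈ V) (hy1 : y ≠ 1) (hyz : y ≠ z) {F : Subgroup H} (hFn : F.Normal)
    (hnil : Group.IsNilpotent F) (hF : Odd (Nat.card F))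
    (hne : ∃ w ∈ ww V cf y, ∃ f ∈ F, R.phi w * f ≠ f * R.phi w) (hk : ¬ One1 V cf) :
    ∃ (n : ℕ) (b : Fin n → M) (w : Fin n → G), 2 ≤ n ∧ Even n ∧ KB V cf z y n R.pi b w := by
  classical
  have hz := h.ln.z_mem
  have hz1 := h.ln.z_ne
  have hW := h.ww_le_cf' hy hy1 hz hz1
  have two := R.two h
  set A := R.img (ww V cf y) with hA
  have hmemA : ∀ {x : H}, x ∈ A ↔ ∃ g ∈ ww V cf y, R.phi g = x := R.mem_img hW
  have hsq : ∀ a ∈ A, a * a = 1 := h.img_sq R hy hy1
  have hq : ∀ a ∈ A, ∀ b ∈ A, ∀ m : M, a • (b • m - m) = b • m - m := h.img_quad R hy hy1 hyz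
  have hAF : ∀ a ∈ A, ∀ f ∈ F, a * f * a⁻¹ ∈ F := fun a _ f hf => hFn.conj_mem f hf a
  have hAF' : A ≤ normalizer (F : Set H) := by
    rw [normalizer_eq_top_iff.mpr hFn]; exact le_top
  have hT2 := R.img_T_two h
  have hTA : ∀ t ∈ R.img T, ∀ c ∈ A, t * c * t⁻¹ ∈ A := fun t ht =>
    h.img_norm R hy hy1 hyz (R.img_T_fix h hy hy1 hyz ht)
  have FIX := h.img_fix R hy hy1 hyz
  have hfaith := (Abs.faithful_on_F two hq hF hAF hT2 hTA (fun t _ f hf => hFn.conj_mem f hf t) FIX (by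
    obtain ⟨w, hw, f, hf, e⟩ := hne
    exact ⟨R.phi w, hmemA.mpr ⟨w, hw, rfl⟩, f, hf, e⟩)).2
  have hCP : ∀ x ∈ F, x • R.pi y = R.pi y → ∀ a ∈ A, a * x * a⁻¹ = x⁻¹ → x = 1 := by
    intro x hx hxv a ha hi
    refine h.img_cp R hy hy1 hyz hxv ?_ ha hi
    refine Odd.of_dvd_nat hF ?_
    have := orderOf_dvd_natCard (⟨x, hx⟩ : F)
    rwa [Subgroup.orderOf_mk] at this
  obtain ⟨n, a, b, m, hn, B, hM1⟩ := Abs.exists_tvb two hsq hq hnil hF hAF' hfaith
    (h.img_card R hy hy1 hyz hk) hCP (m1 h R y) (h.m1_index R hy hy1 hyz) (h.m1_br R hy hy1)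
  have hpc : ∀ v ∈ ww V cf z, ∀ g ∈ ww V cf y, R.pi (cm v g) = R.phi g • R.pi v - R.pi v := by
    intro v hv g hg
    rw [R.comm_eq h (hW hg) hv]
    congr 1
    exact (h.cm_symm hz hz1 hy hy1 hyz hv hg).symm
  -- `W_z ∩ Q_y` centralises `W_y`
  have hC : ∀ v ∈ ww V cf z, v ∈ qq V cf y → ∀ g ∈ ww V cf y, v * g = g * v := by
    intro v hv hvy g hg
    have h1 : R.pi v ∈ m1 h R y := ⟨v, hv, hvy, rfl⟩
    have h2 := (hM1 _).mp h1 _ (hmemA.mpr ⟨g, hg, rfl⟩)
    have h3 : R.pi (cm v g) = 0 := by rw [hpc v hv g hg, h2, sub_self]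
    have hm := h.cm_mem hz hz1 hy hy1 hyz hv hg
    rcases h.qq_cases hy hvy hg with e | e
    · exact comm_of_conj_eq e
    · exfalso
      have e1 : cm v g = y := by unfold cm; rw [e, mul_assoc, mul_inv_cancel, mul_one]
      rw [e1] at h3
      exact R.v0_ne h hy hy1 hyz h3
  -- the same for `(y, z)`
  have hC' : ∀ g ∈ ww V cf y, g ∈ qq V cf z → ∀ v ∈ ww V cf z, v * g = g * v := by
    intro g hg hgz v hv
    obtain ⟨k, hkN, e1, e2⟩ := h.trans2 hz hz1 hy hy1 hyz hy hy1 hz hz1 (Ne.symm hyz)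
    have h1 := h.conj_ww hkN hy hy1 hg
    have h2 := h.conj_qq hkN hz hz1 hgz
    have h3 := h.conj_ww hkN hz hz1 hv
    rw [e2] at h1
    rw [e1] at h2 h3
    have h4 := hC _ h1 h2 _ h3
    calc v * g = k⁻¹ * ((k * v * k⁻¹) * (k * g * k⁻¹)) * k := by group
      _ = k⁻¹ * ((k * g * k⁻¹) * (k * v * k⁻¹)) * k := by rw [h4]
      _ = g * v := by group
  -- `π v ∈ M1` implies `v ∈ C(W_y)`
  have hM1' : ∀ v ∈ ww V cf z, (∀ c ∈ A, c • R.pi v = R.pi v) → ∀ g ∈ ww V cf y, v * g = g * v := by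
    intro v hv hfix g hg
    obtain ⟨v', hv', hv'y, e⟩ := (hM1 (R.pi v)).mpr hfix
    have h1 := hC v' hv' hv'y g hg
    rcases (R.pi_eq h hv' hv).mp e with e1 | e1
    · rw [← e1]; exact h1
    · have h2 : v = z * v' := by rw [e1, ← mul_assoc, h.ln.zz, one_mul]
      rw [h2]
      exact mul_comm_of (h.V_comm hz (h.ww_le_cent hy hy1 hg)) h1
  choose w hw hwm using fun i => R.pi_surj (m i)
  refine ⟨n, b, w, hn, B.even hq two hT2 hTA FIX hn, ⟨two, R.pi_mul, R.pi_ker, hw, ?_, ?_, B.ind, ?_, ?_, ?_, ?_, ?_⟩⟩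
  · intro i g hg
    rw [hpc _ (hw i) g hg, hwm]
    rcases (B.all hq two (hmemA.mpr ⟨g, hg, rfl⟩) i).1 with e | e
    · left; rw [e, sub_self]
    · right; rw [e]; abel
  · intro i
    obtain ⟨g, hg, e⟩ := hmemA.mp (B.mem i)
    refine ⟨g, hg, ?_⟩
    rw [hpc _ (hw i) g hg, hwm, e, B.dual, add_sub_cancel_left]
    exact B.ne_zero i
  · exact B.sum_eq hq two hTA FIX (by omega)
  · intro g hg h1 v hv
    have h2 : R.phi g = 1 := by
      refine B.eq_one (hmemA.mpr ⟨g, hg, rfl⟩) fun j => ?_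
      have := h1 j
      rw [hpc _ (hw j) g hg, hwm] at this
      exact sub_eq_zero.mp this
    exact hC' g hg ((R.phi_ker g (hW hg)).mp h2) v hv
  · intro i v hv h1
    have h2 : ∀ j, j ≠ i → a j • R.pi v = R.pi v := by
      intro j hji
      obtain ⟨g, hg, e⟩ := hmemA.mp (B.mem j)
      rcases B.tv j (R.pi v) with e1 | e1
      · exact e1
      exfalso
      have h3 := h1 g hg
      rw [hpc v hv g hg, e, e1, add_sub_cancel_left] at h3
      rcases h3 with e2 | e2
      · exact B.ne_zero j e2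
      · exact hji (B.inj two e2)
    rcases B.tv i (R.pi v) with e | e
    · left
      refine hM1' v hv (B.fix_of fun j => ?_)
      by_cases hji : j = i
      · rw [hji]; exact e
      · exact h2 j hji
    · right
      refine hM1' _ (mul_mem hv (hw i)) (B.fix_of fun j => ?_)
      rw [R.pi_mul v hv _ (hw i), hwm, smul_add]
      by_cases hji : j = i
      · rw [hji, e, B.dual]
        calc R.pi v + b i + (m i + b i) = R.pi v + m i + (b i + b i) := by abel
          _ = R.pi v + m i := by rw [two, add_zero]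
      · rw [h2 j hji, B.dual' j i hji]
  · intro c hc i u hu e
    have hcc := h.cent_le_cf hz hz1 hc
    obtain ⟨j, hj⟩ := B.smul_cen hq two (h.img_norm R hy hy1 hyz (R.cent_v0 h hy hc)) i
    refine ⟨j, ?_⟩
    rw [← R.act c hcc u (jj_le hz hz1 hu), e, hj]
  · intro i j
    obtain ⟨t, ht, e⟩ := B.trans hq two hTA FIX i j
    obtain ⟨d, hd, e1⟩ := R.stab h hy hy1 hyz (R.img_T_fix h hy hy1 hyz ht)
    refine ⟨d, hd, fun u hu e2 => ?_⟩
    rw [← R.act d (h.cent_le_cf hz hz1 hd) u (jj_le hz hz1 hu), e2, e1, e]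

/-- **(3.4)**: `k = 1` if `A` does not centralise a normal nilpotent subgroup of odd order of `H` -/
theorem one1_of_nilpotent [Finite G] [Finite M] [Finite H] [FaithfulSMul H M] (h : Fam T V z cf)
    (R : MRep V cf z M H) {y : G} (hy : y ∈ V) (hy1 : y ≠ 1) (hyz : y ≠ z) {F : Subgroup H} (hFn : F.Normal)
    (hnil : Group.IsNilpotent F) (hF : Odd (Nat.card F))
    (hne : ∃ w ∈ ww V cf y, ∃ f ∈ F, R.phi w * f ≠ f * R.phi w) : One1 V cf := by
  by_contra hk
  obtain ⟨n, b, w, hn, heven, K⟩ := h.exists_kb R hy hy1 hyz hFn hnil hF hne hk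
  exact K.false_of h h.ln.z_mem h.ln.z_ne hy hy1 hyz hn heven

/-- **(3.4)**: `k = 1` if `A` does not centralise a normal `p`-subgroup of `H`, `p ≠ 2` -/
theorem one1_of_pgroup [Finite G] [Finite M] [Finite H] [FaithfulSMul H M] (h : Fam T V z cf)
    (R : MRep V cf z M H) {y : G} (hy : y ∈ V) (hy1 : y ≠ 1) (hyz : y ≠ z) {p : ℕ} (hp : p.Prime) (hp2 : p ≠ 2)
    {F : Subgroup H} (hFn : F.Normal) (hF : IsPGroup p F)
    (hne : ∃ w ∈ ww V cf y, ∃ f ∈ F, R.phi w * f ≠ f * R.phi w) : One1 V cf := by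
  have : Fact p.Prime := ⟨hp⟩
  refine h.one1_of_nilpotent R hy hy1 hyz hFn hF.isNilpotent ?_ hne
  obtain ⟨k, hk⟩ := IsPGroup.iff_card.mp hF
  rw [hk]
  exact (hp.odd_of_ne_two hp2).pow

end Fam

end Cfsg.Agent.Omega.NO3S.Fit

end
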