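import Cfsg.Agent.Mrg.Omega.NO3S.Fit.GlueFive

section


/-!
# Text #13963 (helper311), section 4: `Dat` in the language of the group; (4.1)

* `Dat.one1`, `Dat.jj_of`, `Dat.exists_jj`, `Dat.jj_mul`, `Dat.sev`, `Dat.exists_w1`, `Dat.gen`, `Dat.ann`, `Dat.qqe`,
  `Dat.dual`, `Dat.tt`;
* `Dat.two` (4.1): `C_G(V)` is a 2-group.
-/

set_option autoImplicit false
set_option linter.unusedSectionVars false

namespace Cfsg.Agent.Omega.NO3S.Fit

open Subgroup Cfsg Cfsg.Agent.ZN Cfsg.Agent.MinSimple.Geo Cfsg.Agent.Omega.CaseL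
open Cfsg.Agent.Omega.NO3S.Fit.PlaneForm (cm cm_eq_one cm_inv)
open Cfsg.Agent.Omega.NO3S.Fit.Abs (br fx cx)
open Cfsg.Agent.ZN.Block (conj_mem_of_normalizer conj_mem_of_normalizer' le_normalizer_of_forall
  mem_normalizer_of)

universe u

variable {G : Type u} [Group G]

/-- an element of odd order is a power of its `2^k`-th power -/
theorem mem_of_pow_two_pow {K : Subgroup G} {c : G} (hc : Odd (orderOf c)) {k : ℕ} (hk : c ^ 2 ^ k ∈ K) : c ∈ K := by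
  have hco : Nat.Coprime (orderOf c) (2 ^ k) := Nat.Coprime.pow_right _ (Nat.coprime_two_right.mpr hc)
  obtain ⟨m, hm⟩ := exists_pow_eq_self_of_coprime hco.symm
  rw [← hm]
  exact pow_mem hk m

namespace Dat

variable {T V : Subgroup G} {z : G} {cf : G → Subgroup G} {y : G}

theorem hz (D : Dat T V z cf y) : z ∈ V := D.fam.ln.z_mem

theorem hz1 (D : Dat T V z cf y) : z ≠ 1 := D.fam.ln.z_ne

variable [Finite G] (D : Dat T V z cf y)
include D

theorem one1 : Fam.One1 V cf := by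
  obtain ⟨M, H, _, _, _, _, R, P, d, S⟩ := D.shp
  exact S.one1 D.fam D.hy D.hy1 D.hyz

theorem exists_a : ∃ a ∈ ww V cf y, a ∉ qq V cf z := D.fam.exists_not_qq D.hy D.hy1 D.hz D.hz1 (Ne.symm D.hyz)

/-- `{w ∈ W_z : [w, a] ∈ ⟨z⟩} = I` -/
theorem jj_of' {a w : G} (ha : a ∈ ww V cf y) (haQ : a ∉ qq V cf z) (hw : w ∈ ww V cf z)
    (hwa : cm w a = 1 ∨ cm w a = z) : w ∈ jj V cf := by
  obtain ⟨M, H, _, _, _, _, R, P, d, S⟩ := D.shp
  exact S.mem_jj_of D.fam D.hy D.hy1 D.hyz ha haQ hw hwa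

theorem jj_of {w : G} (hw : w ∈ ww V cf z) (hwa : ∀ g ∈ ww V cf y, cm w g = 1 ∨ cm w g = z) : w ∈ jj V cf := by
  obtain ⟨a, ha, haQ⟩ := D.exists_a
  exact D.jj_of' ha haQ hw (hwa a ha)

theorem exists_jj : ∃ e ∈ jj V cf, e ∉ V := by
  obtain ⟨a, ha, haQ⟩ := D.exists_a
  obtain ⟨M, H, _, _, _, _, R, P, d, S⟩ := D.shp
  exact S.exists_jj D.fam D.hy D.hy1 D.hyz ha haQ

theorem jj_mul {u v : G} (hu : u ∈ jj V cf) (hv : v ∈ jj V cf) (huV : u ∉ V) (hvV : v ∉ V) : u * v ∈ V := by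
  obtain ⟨a, ha, haQ⟩ := D.exists_a
  obtain ⟨M, H, _, _, _, _, R, P, d, S⟩ := D.shp
  exact S.jj_mul D.fam D.hy D.hy1 D.hyz ha haQ hu hv huV hvV

/-- `w ∈ W_z ∩ Q_y` with `[w, a] = y` for all `a ∈ W_y - Q_z` -/
theorem exists_w1 : ∃ w ∈ ww V cf z, w ∈ qq V cf y ∧ ∀ a ∈ ww V cf y, a ∉ qq V cf z → cm w a = y := by
  have h := D.fam
  have hz := D.hz
  have hz1 := D.hz1
  have hk := D.one1
  obtain ⟨a, ha, haQ⟩ := D.exists_a
  obtain ⟨M, H, _, _, _, _, R, P, d, S⟩ := D.shp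
  obtain ⟨w0, hw0, hw0V⟩ := S.exists_w0 h D.hy D.hy1 D.hyz ha haQ
  obtain ⟨w1, hw1, hw1y⟩ := h.pl_one hk D.hy D.hy1 D.hyz ha haQ hw0 hw0V
  have hw1Q : w1 ∈ qq V cf y :=
    (h.mem_qq_iff hk D.hy D.hy1 D.hyz ha hw0 hw0V hw1).mpr (by rw [hw1y]; exact D.hy)
  refine ⟨w1, hw1, hw1Q, fun a' ha' ha'Q => ?_⟩
  have h1 := hk y D.hy D.hy1 z hz hz1 (Ne.symm D.hyz) a' ha' a ha ha'Q haQ
  have e1 : a' = a' * a * a := by rw [mul_assoc, h.sq D.hy D.hy1 a ha, mul_one]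
  have h2 : cm w1 (a' * a) = 1 := by
    rcases h.cm_qw D.hy (mul_mem ha' ha) hw1Q with e | e
    · exact e
    · rcases h.cm_qq hz hz1 hw1 h1 with e' | e'
      · exact e'
      · exact absurd (e.symm.trans e') D.hyz
  rw [e1, cm_mul_right, h2, one_mul, hw1y,
    h.comm D.hy D.hy1 _ (mul_mem ha' ha) y (h.V_le D.hy), mul_inv_cancel_right]

/-- (S7) -/
theorem sev {a k : G} (ha : a ∈ ww V cf y) (haQ : a ∉ qq V cf z) (hkV : k ∈ centralizer (V : Set G))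
    (hkj : ∀ e ∈ jj V cf, k * e = e * k)
    (hk1 : ∀ w ∈ ww V cf z, w ∈ qq V cf y → cm k w = 1 ∨ cm k w = y) :
    k ∈ qq V cf z ∨ k * a ∈ qq V cf z := by
  obtain ⟨M, H, _, _, _, _, R, P, d, S⟩ := D.shp
  exact S.sseven D.fam D.hy D.hy1 D.hyz ha haQ hkV hkj hk1

theorem gen {c : G} (hc : c ∈ cf z) : ∃ x ∈ XX V cf z, ∃ n ∈ normalizer (V : Set G), n * z = z * n ∧
    c = x * n := by
  obtain ⟨M, H, _, _, _, _, R, P, d, S⟩ := D.shp
  exact S.gen_XX D.fam D.hy D.hy1 D.hyz hc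

theorem ann {w : G} (hw : w ∈ ww V cf z) (hwO : ∀ o ∈ OO V cf z, o * w = w * o) : w = 1 ∨ w = z := by
  obtain ⟨M, H, _, _, _, _, R, P, d, S⟩ := D.shp
  exact S.ann D.fam D.hy D.hy1 D.hyz hw hwO

/-- `Q_z = O_z K_z` -/
theorem qqe {q : G} (hq : q ∈ qq V cf z) : ∃ o ∈ OO V cf z, o⁻¹ * q ∈ kk V cf z := by
  obtain ⟨M, H, _, _, _, _, R, P, d, S⟩ := D.shp
  exact S.qq_eq D.fam D.hy D.hy1 D.hyz hq

theorem dual {w v : G} (hw : w ∈ ww V cf z) (hv : v ∈ ww V cf z) (hw1 : w ≠ 1)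
    (hwz : w ≠ z) (hwv : w ≠ v) (hwv' : w ≠ z * v) : ∃ o ∈ OO V cf z, cm o v = 1 ∧ cm o w = z := by
  obtain ⟨M, H, _, _, _, _, R, P, d, S⟩ := D.shp
  exact S.dual2 D.fam D.hy D.hy1 D.hyz hw hv hw1 hwz hwv hwv'

/-- the lift of `d` -/
theorem tt : ∃ t ∈ XX V cf z, (∃ n : ℕ, Odd n ∧ t ^ n ∈ qq V cf z) ∧
    (∀ w ∈ ww V cf z, (cm t w = 1 ∨ cm t w = z) → w = 1 ∨ w = z) ∧
    ∀ x ∈ cf z, cm t (x⁻¹ * t * x) ∈ qq V cf z := by
  have h := D.fam
  have hz := D.hz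
  have hz1 := D.hz1
  obtain ⟨a, ha, haQ⟩ := D.exists_a
  obtain ⟨M, H, _, _, _, _, R, P, d, S⟩ := D.shp
  obtain ⟨t, ht, htd⟩ := S.lift h D.hy D.hy1 D.hyz S.dP
  have htc := h.XX_le_cf hz hz1 ht
  have hPc : ∀ p ∈ P, ∀ q ∈ P, p * q = q * p := by
    intro p hp q hq
    have e1 := S.inv a ha haQ _ hp
    have e2 := S.inv a ha haQ _ hq
    have e3 := S.inv a ha haQ _ (mul_mem hp hq)
    have e4 : R.phi a * (p * q) * (R.phi a)⁻¹ = (R.phi a * p * (R.phi a)⁻¹) * (R.phi a * q * (R.phi a)⁻¹) := by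
      group
    rw [e3, e1, e2] at e4
    have := congrArg (·⁻¹) e4
    simpa using this
  refine ⟨t, ht, ⟨orderOf d, S.odd_of S.dP, ?_⟩, ?_, ?_⟩
  · rw [← R.phi_ker _ (pow_mem htc _)]
    have h1 : R.phi (t ^ orderOf d) = R.phi t ^ orderOf d := map_pow R.hom ⟨t, htc⟩ _
    rw [h1, htd, pow_orderOf_eq_one]
  · intro w hw hwt
    rw [← R.pi_ker w hw]
    refine S.fd _ ?_
    have h1 : R.phi t • R.pi w - R.pi w = R.pi (cm t w) := R.comm_eq h htc hw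
    rw [← htd]
    refine sub_eq_zero.mp ?_
    rw [h1]
    rcases hwt with e | e
    · rw [e, R.pi_one h]
    · rw [e, R.pi_z h]
  · intro x hx
    have h1 : x⁻¹ * t * x ∈ cf z := mul_mem (mul_mem (inv_mem hx) htc) hx
    have e1 : R.phi (x⁻¹ * t * x) = (R.phi x)⁻¹ * d * R.phi x := by
      rw [R.phi_mul _ (mul_mem (inv_mem hx) htc) x hx, R.phi_mul _ (inv_mem hx) t htc, R.phi_inv hx, htd]
    have e2 : (R.phi x)⁻¹ * d * R.phi x ∈ P := by
      have := S.nor (R.phi x)⁻¹ d S.dP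
      rwa [inv_inv] at this
    have e3 := hPc d S.dP _ e2
    have hcm : cm t (x⁻¹ * t * x) = t * (x⁻¹ * t * x) * ((x⁻¹ * t * x) * t)⁻¹ := by unfold cm; group
    rw [hcm, ← R.phi_eq (mul_mem htc h1) (mul_mem h1 htc), R.phi_mul t htc _ h1, R.phi_mul _ h1 t htc, e1, htd, e3]

/-! ### (4.1) -/

/-- odd elements of `C_G(V)` centralise `W_z` -/
theorem odd_kk {c : G} (hc : c ∈ centralizer (V : Set G)) (ho : Odd (orderOf c)) : c ∈ kk V cf z := by
  have h := D.fam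
  have hz := D.hz
  have hz1 := D.hz1
  obtain ⟨M, H, _, _, _, _, R, P, d, S⟩ := D.shp
  have hcc := h.cent_le_cf hz hz1 hc
  obtain ⟨k, hk⟩ := S.two (R.phi c) (R.cent_v0 h D.hy hc)
  have h1 : c ^ 2 ^ k ∈ qq V cf z := by
    rw [← R.phi_ker _ (pow_mem hcc _)]
    have h1 : R.phi (c ^ 2 ^ k) = R.phi c ^ 2 ^ k := map_pow R.hom ⟨c, hcc⟩ _
    rw [h1, hk]
  have h2 : c ∈ qq V cf z := mem_of_pow_two_pow ho h1
  refine mem_of_pow_two_pow (k := 1) ho ?_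
  rw [pow_one, pow_two, mem_centralizer_iff]
  intro w hw
  have h3 : c * c * w * (c * c)⁻¹ = w := by
    have e : c * c * w * (c * c)⁻¹ = c * (c * w * c⁻¹) * c⁻¹ := by group
    rw [e]
    rcases h.qq_cases hz h2 hw with e1 | e1
    · rw [e1, e1]
    · rw [e1]
      have e2 : c * (z * w) * c⁻¹ = z * (c * w * c⁻¹) := by
        rw [← mul_assoc, h.qq_p h2]; group
      rw [e2, e1, ← mul_assoc, h.ln.zz, one_mul]
  exact (comm_of_conj_eq h3).symm

/-- **(4.1)** `C_G(V)` is a 2-group. -/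
theorem two : IsPGroup 2 (centralizer (V : Set G)) := by
  have h := D.fam
  have hz := D.hz
  have hz1 := D.hz1
  set K0 : Subgroup G := closure {c | c ∈ centralizer (V : Set G) ∧ Odd (orderOf c)} with hK0
  have hodd : ∀ g c : G, Odd (orderOf c) → Odd (orderOf (g * c * g⁻¹)) := by
    intro g c hc
    have : orderOf (g * c * g⁻¹) = orderOf c := by
      rw [← MulAut.conj_apply]
      exact MulEquiv.orderOf_eq (MulAut.conj g) c
    rwa [this]
  have hnorm : ∀ g : G, (∀ c ∈ centralizer (V : Set G), Odd (orderOf c) → g * c * g⁻¹ ∈ centralizer (V : Set G)) →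
      ∀ x ∈ K0, g * x * g⁻¹ ∈ K0 := by
    intro g hg x hx
    induction hx using closure_induction with
    | mem x hx => exact subset_closure ⟨hg x hx.1 hx.2, hodd g x hx.2⟩
    | one => simp
    | mul a b _ _ ha hb =>
      have e : g * (a * b) * g⁻¹ = (g * a * g⁻¹) * (g * b * g⁻¹) := by group
      rw [e]
      exact mul_mem ha hb
    | inv a _ ha =>
      have e : g * a⁻¹ * g⁻¹ = (g * a * g⁻¹)⁻¹ := by group
      rw [e]
      exact inv_mem ha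
  have hVn : normalizer (V : Set G) ≤ normalizer (K0 : Set G) :=
    le_normalizer_of_forall fun g hg x hx => hnorm g (fun c hc _ =>
      conj_mem_of_normalizer (normalizer_le_normalizer_centralizer V) hg hc) x hx
  have hCn : cf z ≤ normalizer (K0 : Set G) :=
    le_normalizer_of_forall fun g hg x hx => hnorm g (fun c hc ho =>
      h.kk_le_cent (conj_mem_of_normalizer h.cf_norm_kk hg (D.odd_kk hc ho))) x hx
  have hK0V : K0 ≤ normalizer (V : Set G) :=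
    (closure_le _).mpr fun c hc => centralizer_le_normalizer _ hc.1
  have ho2 : o2 K0 = ⊥ := h.nl (isPGroup_o2 K0) (hVn.trans (normalizer_le_normalizer_o2 K0))
    (hCn.trans (normalizer_le_normalizer_o2 K0))
  -- `K0` centralises `O₂(N_G(V))`
  set L := normalizer (V : Set G) with hL
  have hVp : IsPGroup 2 V := by
    intro a
    refine ⟨1, Subtype.ext ?_⟩
    have := h.ln.sq a a.2
    simpa [pow_two] using this
  have hloc : IsTwoLocal L := by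
    refine ⟨V, hVp, fun e => hz1 ?_, rfl⟩
    have := hz
    rw [e] at this
    exact mem_bot.mp this
  have hc : K0 ≤ centralizer ((o2 L : Subgroup G) : Set G) := by
    intro c hc
    rw [mem_centralizer_iff]
    intro r hr
    have h1 : r * c * r⁻¹ * c⁻¹ ∈ K0 ⊓ o2 L := by
      refine mem_inf.mpr ⟨mul_mem (conj_mem_of_normalizer hVn (o2_le L hr) hc) (inv_mem hc), ?_⟩
      have e : r * c * r⁻¹ * c⁻¹ = r * (c * r⁻¹ * c⁻¹) := by group
      rw [e]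
      exact mul_mem hr (conj_mem_of_normalizer (le_normalizer_o2 L) (hK0V hc) (inv_mem hr))
    have h2 : K0 ⊓ o2 L ≤ o2 K0 := by
      refine le_o2 inf_le_left ((isPGroup_o2 L).to_le inf_le_right) ?_
      refine le_normalizer_of_forall fun g hg x hx => ?_
      exact mem_inf.mpr ⟨mul_mem (mul_mem hg (mem_inf.mp hx).1) (inv_mem hg),
        conj_mem_of_normalizer (le_normalizer_o2 L) (hK0V hg) (mem_inf.mp hx).2⟩
    have h3 := h2 h1
    rw [ho2, mem_bot] at h3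
    rw [mul_inv_eq_one] at h3
    exact mul_inv_eq_iff_eq_mul.mp h3
  have hK0two : IsPGroup 2 K0 :=
    (isPGroup_o2 L).to_le fun c hcK => inf_centralizer_o2_le h.ln.charTwo hloc ⟨hK0V hcK, hc hcK⟩
  have hK0b : K0 = ⊥ := by
    rw [eq_bot_iff, ← ho2]
    exact le_o2 le_rfl hK0two le_normalizer
  rintro ⟨c, hcV⟩
  obtain ⟨k, m, hm, hkm⟩ := Nat.exists_eq_two_pow_mul_odd (n := orderOf c) (orderOf_pos _).ne'
  refine ⟨k, Subtype.ext ?_⟩
  change c ^ 2 ^ k = 1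
  have h1 : orderOf (c ^ 2 ^ k) = m := by
    rw [orderOf_pow' c (by positivity), hkm, Nat.gcd_eq_right (Dvd.intro _ rfl)]
    exact Nat.mul_div_cancel_left m (by positivity)
  have h2 : c ^ 2 ^ k ∈ K0 := subset_closure ⟨pow_mem hcV _, by rw [h1]; exact hm⟩
  rw [hK0b] at h2
  exact mem_bot.mp h2

end Dat

end Cfsg.Agent.Omega.NO3S.Fit

end

section


/-!
# Text #13963 (helper311), section 4: (4.2), (4.3)

* `Dat.com_KX` : `[K_z, X_z] ≤ W_z`;
* `Dat.com_KKX` : `[K_z, K_z ∩ X_z] ≤ ⟨z⟩`;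
* `InK V cf z` : the subgroup `K_z¹`; `Dat.inK_of` : `K_z ∩ K_y ≤ K_z¹`; `Dat.inK_dec` : `K_z¹ = W_z (K_z ∩ K_y)`;
* `Dat.inK_sq` : `K_z¹` has exponent 2.
-/

set_option autoImplicit false
set_option linter.unusedSectionVars false

namespace Cfsg.Agent.Omega.NO3S.Fit

open Subgroup Cfsg Cfsg.Agent.ZN Cfsg.Agent.MinSimple.Geo Cfsg.Agent.Omega.CaseL
open Cfsg.Agent.Omega.NO3S.Fit.PlaneForm (cm cm_eq_one cm_inv)
open Cfsg.Agent.ZN.Block (conj_mem_of_normalizer conj_mem_of_normalizer' le_normalizer_of_forall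
  mem_normalizer_of)

universe u

variable {G : Type u} [Group G]

/-- `K_p¹` -/
def InK (V : Subgroup G) (cf : G → Subgroup G) (p k : G) : Prop :=
  k ∈ kk V cf p ∧ ∀ o ∈ OO V cf p, cm k o = 1 ∨ cm k o = p

theorem Fam.inK_conj {T V : Subgroup G} {z : G} {cf : G → Subgroup G} (h : Fam T V z cf) {g p k : G}
    (hg : g ∈ normalizer (V : Set G)) (hp : p ∈ V) (hp1 : p ≠ 1) (hk : InK V cf p k) :
    InK V cf (g * p * g⁻¹) (g * k * g⁻¹) := by
  refine ⟨h.conj_kk hg hp hp1 hk.1, fun o ho => ?_⟩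
  have h1 : g⁻¹ * o * g ∈ OO V cf p := by
    have := h.conj_OO (inv_mem hg) (h.conj_pt hg hp) (conj_ne hp1) ho
    have e1 : g⁻¹ * (g * p * g⁻¹) * g⁻¹⁻¹ = p := by group
    rwa [e1, inv_inv] at this
  have e : cm (g * k * g⁻¹) o = g * cm k (g⁻¹ * o * g) * g⁻¹ := by unfold cm; group
  rw [e]
  rcases hk.2 _ h1 with e1 | e1 <;> rw [e1]
  · left; group
  · right; rfl

theorem Fam.inK_conj' {T V : Subgroup G} {z : G} {cf : G → Subgroup G} (h : Fam T V z cf) {c p k : G}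
    (hp : p ∈ V) (hp1 : p ≠ 1) (hc : c ∈ cf p) (hk : InK V cf p k) : InK V cf p (c * k * c⁻¹) := by
  refine ⟨conj_mem_of_normalizer h.cf_norm_kk hc hk.1, fun o ho => ?_⟩
  have h1 : c⁻¹ * o * c ∈ OO V cf p := conj_mem_of_normalizer' h.cf_norm_OO hc ho
  have e : cm (c * k * c⁻¹) o = c * cm k (c⁻¹ * o * c) * c⁻¹ := by unfold cm; group
  rw [e]
  rcases hk.2 _ h1 with e1 | e1 <;> rw [e1]
  · left; group
  · right; rw [h.cf_comm hp hp1 hc]; group

namespace Dat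

variable {T V : Subgroup G} {z : G} {cf : G → Subgroup G} {y : G} [Finite G] (D : Dat T V z cf y)
include D

/-- an element of `W_p` which centralises `W_q` is in `I` -/
theorem jj_of_cent {p q w : G} (hp : p ∈ V) (hp1 : p ≠ 1) (hq : q ∈ V) (hq1 : q ≠ 1) (hqp : q ≠ p)
    (hw : w ∈ ww V cf p) (hc : w ∈ kk V cf q) : w ∈ jj V cf := by
  obtain ⟨T', D'⟩ := D.at hp hp1 hq hq1 hqp
  exact D'.jj_of hw fun g hg => Or.inl (cm_eq_one.mpr (mem_centralizer_iff.mp hc g hg).symm)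

theorem mem_Z {x : G} : x ∈ zpowers z ↔ x = 1 ∨ x = z := mem_zpowers_iff_of_mul_self D.fam.ln.zz

theorem conj_Z {c x : G} (hc : c ∈ cf z) (hx : x ∈ zpowers z) : c * x * c⁻¹ ∈ zpowers z := by
  rw [D.mem_Z] at hx ⊢
  rcases hx with e | e <;> rw [e]
  · left; group
  · right; rw [D.fam.cf_comm D.hz D.hz1 hc]; group

/-- `[K_z, X_z] ≤ W_z` -/
theorem com_KX {k x : G} (hk : k ∈ kk V cf z) (hx : x ∈ XX V cf z) : cm k x ∈ ww V cf z := by
  have h := D.fam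
  have hz := D.hz
  have hz1 := D.hz1
  have key : ∀ k ∈ kk V cf z, ∀ q ∈ V, q ≠ 1 → ∀ g ∈ ww V cf q, cm k g ∈ ww V cf z := by
    intro k hk q hq hq1 g hg
    by_cases hqz : q = z
    · rw [hqz] at hg
      rw [cm_eq_one.mpr (mem_centralizer_iff.mp hk g hg).symm]
      exact one_mem _
    · have hkV := h.kk_le_cent hk
      have h1 : cm k g ∈ ww V cf q :=
        mul_mem (conj_mem_of_normalizer (h.cent_norm hq hq1) hkV hg) (inv_mem hg)
      have h2 : cm k g ∈ kk V cf z := by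
        have e : cm k g = k * (g * k⁻¹ * g⁻¹) := by unfold cm; group
        rw [e]
        exact mul_mem hk (conj_mem_of_normalizer h.cf_norm_kk (h.ww_le_cf' hq hq1 hz hz1 hg) (inv_mem hk))
      exact Fam.jj_le hz hz1 (D.jj_of_cent hq hq1 hz hz1 (Ne.symm hqz) h1 h2)
  induction hx using closure_induction with
  | mem x hx =>
    obtain ⟨c, hc, q, hq, hq1, g, hg, rfl⟩ := hx
    have e : cm k (c * g * c⁻¹) = c * cm (c⁻¹ * k * c) g * c⁻¹ := by unfold cm; group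
    rw [e]
    exact conj_mem_wf hc (key _ (conj_mem_of_normalizer' h.cf_norm_kk hc hk) q hq hq1 g hg)
  | one => rw [cm_eq_one.mpr (by rw [mul_one, one_mul])]; exact one_mem _
  | mul a b ha' _ ha hb =>
    rw [cm_mul_right]
    exact mul_mem ha (conj_mem_wf (h.XX_le_cf hz hz1 ha') hb)
  | inv a ha' ha =>
    have e : cm k a⁻¹ = a⁻¹ * (cm k a)⁻¹ * a⁻¹⁻¹ := by unfold cm; group
    rw [e]
    exact conj_mem_wf (inv_mem (h.XX_le_cf hz hz1 ha')) (inv_mem ha)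

theorem com_XK {k x : G} (hk : k ∈ kk V cf z) (hx : x ∈ XX V cf z) : cm x k ∈ ww V cf z := by
  rw [← cm_inv]
  exact inv_mem (D.com_KX hk hx)

theorem KW {k w : G} (hk : k ∈ kk V cf z) (hw : w ∈ ww V cf z) : k * w = w * k :=
  (mem_centralizer_iff.mp hk w hw).symm

/-- `[K_z, K_z ∩ X_z] ≤ ⟨z⟩` -/
theorem com_KKX {k l : G} (hk : k ∈ kk V cf z) (hl : l ∈ kk V cf z) (hlX : l ∈ XX V cf z) :
    cm k l = 1 ∨ cm k l = z := by
  have h := D.fam
  have hz := D.hz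
  have hz1 := D.hz1
  obtain ⟨t, ht, -, htf, -⟩ := D.tt
  have hu := D.com_KX hk hlX
  refine htf _ hu (Or.inl ?_)
  have h1 := D.com_XK hk ht
  have h2 := D.com_XK hl ht
  have e1 : t * cm k l * t⁻¹ = cm (cm t k * k) (cm t l * l) := by
    rw [conj_cm']
    congr 1 <;> (unfold cm; group)
  have e2 : cm (cm t k * k) (cm t l * l) = cm k l := by
    rw [cm_mul_left, cm_mul_right (cm t k)]
    have f1 : cm (cm t k) (cm t l) = 1 := cm_eq_one.mpr (h.ab _ h1 _ h2)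
    have f2 : cm (cm t k) l = 1 := cm_eq_one.mpr (D.KW hl h1).symm
    have f3 : cm k (cm t l) = 1 := cm_eq_one.mpr (D.KW hk h2)
    rw [f1, f2, cm_mul_right, f3, one_mul, h.ab _ h2 _ hu, mul_inv_cancel_right, h.ab _ h1 _ hu,
      mul_inv_cancel_right]
    group
  rw [e2] at e1
  exact cm_eq_one.mpr (comm_of_conj_eq e1)

/-- `K_z ∩ K_y ≤ K_z¹` -/
theorem inK_of {d : G} (hd : d ∈ kk V cf z) (hdy : d ∈ kk V cf y) : InK V cf z d := by
  have h := D.fam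
  have hz := D.hz
  have hz1 := D.hz1
  refine ⟨hd, ?_⟩
  have key : ∀ q ∈ V, q ≠ 1 → ∀ g ∈ ww V cf q, g ∈ qq V cf z → cm d g ∈ zpowers z := by
    intro q hq hq1 g hg hgQ
    rcases h.ln.four hz D.hy hz1 D.hy1 (Ne.symm D.hyz) hq with e | e | e | e
    · exact absurd e hq1
    · rw [e] at hg
      rw [cm_eq_one.mpr (D.KW hd hg)]; exact one_mem _
    · rw [e] at hg
      rw [cm_eq_one.mpr (mem_centralizer_iff.mp hdy g hg).symm]; exact one_mem _
    · obtain ⟨m, hm, hm1⟩ := h.exists_mover hz hz1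
      have hmy := h.move hz hz1 D.hy D.hy1 D.hyz hm hm1
      have hmV := h.qq_le_normalizer hz hm
      have hg' : m⁻¹ * g * m ∈ ww V cf y := by
        rw [← h.mem_ww_conj hmV D.hy D.hy1, hmy, ← e]; exact hg
      have hgQ' : m⁻¹ * g * m ∈ qq V cf z := mul_mem (mul_mem (inv_mem hm) hgQ) hm
      have hκK : cm m (m⁻¹ * g * m) ∈ kk V cf z := h.cm_qq_kk hz hz1 hm hgQ'
      have hκX : cm m (m⁻¹ * g * m) ∈ XX V cf z :=
        mul_mem (mem_XX hm.1 D.hy D.hy1 hg') (inv_mem (mem_XX' D.hy D.hy1 hg'))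
      have e1 : g = cm m (m⁻¹ * g * m) * (m⁻¹ * g * m) := by unfold cm; group
      have e2 : cm d (m⁻¹ * g * m) = 1 := cm_eq_one.mpr (mem_centralizer_iff.mp hdy _ hg').symm
      rw [e1, cm_mul_right, e2, mul_one, mul_inv_cancel, mul_one, D.mem_Z]
      exact D.com_KKX hd hκK hκX
  intro o ho
  rw [← D.mem_Z]
  induction ho using closure_induction with
  | mem x hx =>
    obtain ⟨c, hc, q, hq, hq1, g, hg, hgQ, rfl⟩ := hx
    obtain ⟨x, hx, n, hn, hnz, rfl⟩ := D.gen hc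
    have hxc := h.XX_le_cf hz hz1 hx
    have hnc := h.ge z hz hz1 ⟨hn, mem_centralizer_singleton_iff.mpr hnz⟩
    have hg1 := h.conj_ww hn hq hq1 hg
    have hg2 : n * g * n⁻¹ ∈ qq V cf z := conj_mem_of_normalizer (h.cf_norm_qq hz hz1) hnc hgQ
    have h1 := key _ (h.conj_pt hn hq) (Fam.conj_ne hq1) _ hg1 hg2
    set g' := n * g * n⁻¹ with hg'
    have hu : cm x⁻¹ d ∈ ww V cf z := D.com_XK hd (inv_mem hx)
    have e : cm d (x * n * g * (x * n)⁻¹) = x * cm (cm x⁻¹ d * d) g' * x⁻¹ := by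
      rw [hg']; unfold cm; group
    rw [e]
    refine D.conj_Z hxc ?_
    rw [cm_mul_left]
    refine mul_mem (D.conj_Z (h.ww_le_cf hz hz1 hu) h1) ?_
    rw [D.mem_Z]
    exact h.cm_qq hz hz1 hu hg2
  | one => rw [cm_eq_one.mpr (by rw [mul_one, one_mul])]; exact one_mem _
  | mul a b ha' _ ha hb =>
    rw [cm_mul_right]
    exact mul_mem ha (D.conj_Z (h.OO_le_qq hz hz1 ha').1 hb)
  | inv a ha' ha =>
    have e : cm d a⁻¹ = a⁻¹ * (cm d a)⁻¹ * a⁻¹⁻¹ := by unfold cm; group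
    rw [e]
    exact D.conj_Z (inv_mem (h.OO_le_qq hz hz1 ha').1) (inv_mem ha)

/-- `[K_z¹, Q_z ∩ X_z] ≤ ⟨z⟩` -/
theorem inK_QX {k q : G} (hk : InK V cf z k) (hq : q ∈ qq V cf z) (hqX : q ∈ XX V cf z) :
    cm k q = 1 ∨ cm k q = z := by
  have h := D.fam
  have hz := D.hz
  have hz1 := D.hz1
  obtain ⟨o, ho, hoq⟩ := D.qqe hq
  have hoX := OO_le_XX V cf z ho
  have h1 := D.com_KKX hk.1 hoq (mul_mem (inv_mem hoX) hqX)
  have e : q = o * (o⁻¹ * q) := by group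
  rw [e, ← D.mem_Z, cm_mul_right]
  refine mul_mem (D.mem_Z.mpr (hk.2 o ho)) (D.conj_Z (h.OO_le_qq hz hz1 ho).1 (D.mem_Z.mpr h1))

/-- `K_z¹ = W_z (K_z ∩ K_y)` -/
theorem inK_dec {k : G} (hk : InK V cf z k) : ∃ w ∈ ww V cf z, k * w ∈ kk V cf z ∧ k * w ∈ kk V cf y := by
  have h := D.fam
  have hz := D.hz
  have hz1 := D.hz1
  have hkV := h.kk_le_cent hk.1
  obtain ⟨T', D'⟩ := D.at D.hy D.hy1 hz hz1 (Ne.symm D.hyz)
  obtain ⟨b, hb, hbQ⟩ := D'.exists_a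
  obtain ⟨a, ha, haQ⟩ := D.exists_a
  -- `k v ∈ Q_y`
  obtain ⟨v, hv, hvQ⟩ : ∃ v ∈ ww V cf z, k * v ∈ qq V cf y := by
    have := D'.sev hb hbQ hkV (fun e he => D.KW hk.1 (Fam.jj_le hz hz1 he))
      (fun w hw hwQ => hk.2 w (mem_OO' D.hy D.hy1 hw hwQ))
    rcases this with e | e
    · exact ⟨1, one_mem _, by rwa [mul_one]⟩
    · exact ⟨b, hb, e⟩
  set l := k * v with hl
  have hlK : l ∈ kk V cf z := mul_mem hk.1 (h.ww_le_kk hz hz1 hv)
  have hyW : ∀ g ∈ ww V cf y, g * y = y * g := fun g hg => h.comm D.hy D.hy1 g hg y (h.V_le D.hy)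
  have hlg : ∀ g ∈ ww V cf y, g ∈ qq V cf z → cm l g = 1 := by
    intro g hg hgQ
    have h1 : cm l g ∈ zpowers z := by
      rw [hl, cm_mul_left]
      have h2 : cm v g ∈ zpowers z := D.mem_Z.mpr (h.cm_qq hz hz1 hv hgQ)
      have h3 : cm k g ∈ zpowers z := D.mem_Z.mpr (hk.2 g (mem_OO' D.hy D.hy1 hg hgQ))
      exact mul_mem (D.conj_Z (h.cent_le_cf hz hz1 hkV) h2) h3
    rcases h.cm_qw D.hy hg hvQ with e | e
    · exact e
    · rcases D.mem_Z.mp h1 with e' | e'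
      · exact e'
      · exact absurd (e.symm.trans e') D.hyz
  have fin : ∀ l ∈ kk V cf z, (∀ g ∈ ww V cf y, g ∈ qq V cf z → cm l g = 1) → cm l a = 1 → l ∈ kk V cf y := by
    intro l _ h1 h2
    rw [mem_centralizer_iff]
    intro g hg
    refine (cm_eq_one.mp ?_).symm
    by_cases hgQ : g ∈ qq V cf z
    · exact h1 g hg hgQ
    · have h3 := D.one1 y D.hy D.hy1 z hz hz1 (Ne.symm D.hyz) g hg a ha hgQ haQ
      have e1 : g = g * a * a := by rw [mul_assoc, h.sq D.hy D.hy1 a ha, mul_one]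
      rw [e1, cm_mul_right, h1 _ (mul_mem hg ha) h3, h2]
      group
  rcases h.cm_qw D.hy ha hvQ with e | e
  · exact ⟨v, hv, hlK, fin l hlK hlg e⟩
  · obtain ⟨w1, hw1, hw1Q, hw1a⟩ := D.exists_w1
    have hl1 : l * w1 ∈ kk V cf z := mul_mem hlK (h.ww_le_kk hz hz1 hw1)
    have hly : l * y = y * l := (h.V_comm D.hy (h.kk_le_cent hlK)).symm
    refine ⟨v * w1, mul_mem hv hw1, ?_, ?_⟩
    · rw [← mul_assoc]; exact hl1
    · rw [← mul_assoc]
      refine fin _ hl1 (fun g hg hgQ => ?_) ?_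
      · rw [cm_mul_left, hlg g hg hgQ]
        have e1 : cm w1 g = 1 := by
          rcases h.cm_qq hz hz1 hw1 hgQ with e1 | e1
          · exact e1
          · rcases h.cm_qw D.hy hg hw1Q with e2 | e2
            · exact e2
            · exact absurd (e2.symm.trans e1) D.hyz
        rw [e1]; group
      · rw [cm_mul_left, e, hw1a a ha haQ, hly, mul_inv_cancel_right, h.ln.sq y D.hy]

/-- squares of elements of `K_z¹` -/
theorem inK_sq' {k : G} (hk : InK V cf z k) : ∃ d ∈ kk V cf z, d ∈ kk V cf y ∧ k * k = d * d := by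
  obtain ⟨w, hw, h1, h2⟩ := D.inK_dec hk
  refine ⟨k * w, h1, h2, ?_⟩
  have hkw := D.KW hk.1 hw
  calc k * k = k * k * (w * w) := by rw [D.fam.sqz w hw, mul_one]
    _ = k * (k * w) * w := by group
    _ = k * (w * k) * w := by rw [hkw]
    _ = (k * w) * (k * w) := by group

end Dat

/-- the group generated by the squares of `K_p¹` -/
def FF1 (V : Subgroup G) (cf : G → Subgroup G) (p : G) : Subgroup G :=
  closure {x | ∃ k, InK V cf p k ∧ x = k * k}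

namespace Dat

variable {T V : Subgroup G} {z : G} {cf : G → Subgroup G} {y : G} [Finite G] (D : Dat T V z cf y)
include D

theorem FF1_le {p q : G} (hp : p ∈ V) (hp1 : p ≠ 1) (hq : q ∈ V) (hq1 : q ≠ 1) : FF1 V cf p ≤ FF1 V cf q := by
  by_cases hqp : q = p
  · rw [hqp]
  refine closure_le _ |>.mpr ?_
  rintro x ⟨k, hk, rfl⟩
  obtain ⟨T', D'⟩ := D.at hp hp1 hq hq1 hqp
  obtain ⟨T'', D''⟩ := D.at hq hq1 hp hp1 (Ne.symm hqp)
  obtain ⟨d, hd, hdq, e⟩ := D'.inK_sq' hk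
  rw [e]
  exact subset_closure ⟨d, D''.inK_of hdq hd, rfl⟩

/-- `K_z¹` has exponent 2. -/
theorem inK_sq {k : G} (hk : InK V cf z k) : k * k = 1 := by
  have h := D.fam
  have hz := D.hz
  have hz1 := D.hz1
  have hb : FF1 V cf z = ⊥ := by
    refine h.nl ?_ ?_ ?_
    · refine D.two.to_le (closure_le _ |>.mpr ?_)
      rintro x ⟨k, hk, rfl⟩
      exact mul_mem (h.kk_le_cent hk.1) (h.kk_le_cent hk.1)
    · refine le_normalizer_of_forall fun g hg x hx => ?_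
      have h1 : g * x * g⁻¹ ∈ FF1 V cf (g * z * g⁻¹) := by
        induction hx using closure_induction with
        | mem x hx =>
          obtain ⟨k, hk, rfl⟩ := hx
          exact subset_closure ⟨g * k * g⁻¹, h.inK_conj hg hz hz1 hk, by group⟩
        | one => simp
        | mul a b _ _ ha hb =>
          have e : g * (a * b) * g⁻¹ = (g * a * g⁻¹) * (g * b * g⁻¹) := by group
          rw [e]
          exact mul_mem ha hb
        | inv a _ ha =>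
          have e : g * a⁻¹ * g⁻¹ = (g * a * g⁻¹)⁻¹ := by group
          rw [e]
          exact inv_mem ha
      exact D.FF1_le (h.conj_pt hg hz) (Fam.conj_ne hz1) hz hz1 h1
    · refine le_normalizer_of_forall fun g hg x hx => ?_
      induction hx using closure_induction with
      | mem x hx =>
        obtain ⟨k, hk, rfl⟩ := hx
        exact subset_closure ⟨g * k * g⁻¹, h.inK_conj' hz hz1 hg hk, by group⟩
      | one => simp
      | mul a b _ _ ha hb =>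
        have e : g * (a * b) * g⁻¹ = (g * a * g⁻¹) * (g * b * g⁻¹) := by group
        rw [e]
        exact mul_mem ha hb
      | inv a _ ha =>
        have e : g * a⁻¹ * g⁻¹ = (g * a * g⁻¹)⁻¹ := by group
        rw [e]
        exact inv_mem ha
  have h1 : k * k ∈ FF1 V cf z := subset_closure ⟨k, hk, rfl⟩
  rw [hb] at h1
  exact mem_bot.mp h1

end Dat

end Cfsg.Agent.Omega.NO3S.Fit

end

section


/-!
# Text #13963 (helper311), section 4: (4.4)

`RR V cf p` : the elements of `K_p` which centralise `X_p` modulo `⟨p⟩`.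
* `Dat.exists_R` : `K_z¹ = W_z R_z`;
* `Dat.W_R` : `W_z ∩ R_z = ⟨z⟩`;
* `Dat.R_cent` : `R_z` centralises `X_z`;
* `Dat.D_R` : `K_z ∩ K_y = I R_z`.
-/

set_option autoImplicit false
set_option linter.unusedSectionVars false

namespace Cfsg.Agent.Omega.NO3S.Fit

open Subgroup Cfsg Cfsg.Agent.ZN Cfsg.Agent.MinSimple.Geo Cfsg.Agent.Omega.CaseL
open Cfsg.Agent.Omega.NO3S.Fit.PlaneForm (cm cm_eq_one cm_inv)
open Cfsg.Agent.ZN.Block (conj_mem_of_normalizer conj_mem_of_normalizer' le_normalizer_of_forall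
  mem_normalizer_of)

universe u

variable {G : Type u} [Group G]

theorem commute_step {Γ : Type*} [Group Γ] {t t' r q : Γ} (h1 : t * r = r * t) (h2 : q * r = r * q)
    (h3 : t * t' = q * (t' * t)) (h5 : q * cm t' r = cm t' r * q) : t * cm t' r = cm t' r * t := by
  have e0 : t' * r * t'⁻¹ = cm t' r * r := by unfold cm; group
  have e1 : t * r * t⁻¹ = r := by rw [h1, mul_inv_cancel_right]
  have e2 : t * (cm t' r * r) * t⁻¹ = cm t' r * r := by
    calc t * (cm t' r * r) * t⁻¹ = (t * t') * r * (t * t')⁻¹ := by rw [← e0]; group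
      _ = q * t' * (t * r * t⁻¹) * t'⁻¹ * q⁻¹ := by rw [h3]; group
      _ = q * (t' * r * t'⁻¹) * q⁻¹ := by rw [e1]; group
      _ = (q * cm t' r) * r * q⁻¹ := by rw [e0]; group
      _ = cm t' r * (q * r) * q⁻¹ := by rw [h5]; group
      _ = cm t' r * r := by rw [h2]; group
  have e3 : t * cm t' r * t⁻¹ = cm t' r := by
    have : t * (cm t' r * r) * t⁻¹ = (t * cm t' r * t⁻¹) * (t * r * t⁻¹) := by group
    rw [this, e1] at e2
    exact mul_right_cancel e2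
  exact mul_inv_eq_iff_eq_mul.mp e3

theorem commute_step2 {Γ : Type*} [Group Γ] {x t r : Γ} (h1 : t * r = r * t)
    (h2 : (x⁻¹ * t * x) * r = r * (x⁻¹ * t * x)) : t * cm x r = cm x r * t := by
  have h3 : t * r⁻¹ = r⁻¹ * t := by
    rw [mul_inv_eq_iff_eq_mul, mul_assoc, h1, inv_mul_cancel_left]
  calc t * cm x r = x * ((x⁻¹ * t * x) * r) * x⁻¹ * r⁻¹ := by unfold cm; group
    _ = x * r * x⁻¹ * (t * r⁻¹) := by rw [h2]; group
    _ = cm x r * t := by rw [h3]; unfold cm; group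

/-- the elements of `K_p` which centralise `X_p` modulo `⟨p⟩` -/
def RR (V : Subgroup G) (cf : G → Subgroup G) (p : G) : Subgroup G where
  carrier := {r | r ∈ kk V cf p ∧ r * p = p * r ∧ ∀ x ∈ XX V cf p, cm r x ∈ zpowers p}
  one_mem' := ⟨one_mem _, by rw [one_mul, mul_one], fun x _ => by
    rw [cm_eq_one.mpr (by rw [one_mul, mul_one])]; exact one_mem _⟩
  mul_mem' := by
    rintro r r' ⟨h1, h2, h3⟩ ⟨h4, h5, h6⟩
    refine ⟨mul_mem h1 h4, mul_comm_of h2 h5, fun x hx => ?_⟩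
    rw [cm_mul_left]
    refine mul_mem ?_ (h3 x hx)
    obtain ⟨n, hn⟩ := mem_zpowers_iff.mp (h6 x hx)
    rw [← hn]
    have : Commute r (p ^ n) := (show Commute r p from h2).zpow_right n
    rw [this.eq, mul_inv_cancel_right]
    exact zpow_mem (mem_zpowers _) n
  inv_mem' := by
    rintro r ⟨h1, h2, h3⟩
    refine ⟨inv_mem h1, inv_comm_of h2, fun x hx => ?_⟩
    have e : cm r⁻¹ x = r⁻¹ * (cm r x)⁻¹ * r⁻¹⁻¹ := by unfold cm; group
    rw [e]
    obtain ⟨n, hn⟩ := mem_zpowers_iff.mp (inv_mem (h3 x hx))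
    rw [← hn]
    have : Commute r⁻¹ (p ^ n) := (show Commute r⁻¹ p from inv_comm_of h2).zpow_right n
    rw [this.eq, mul_inv_cancel_right]
    exact zpow_mem (mem_zpowers _) n

namespace Fam

variable {T V : Subgroup G} {z : G} {cf : G → Subgroup G}

theorem conj_RR (h : Fam T V z cf) {g p r : G} (hg : g ∈ normalizer (V : Set G)) (hp : p ∈ V) (hp1 : p ≠ 1)
    (hr : r ∈ RR V cf p) : g * r * g⁻¹ ∈ RR V cf (g * p * g⁻¹) := by
  obtain ⟨h1, h2, h3⟩ := hr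
  refine ⟨h.conj_kk hg hp hp1 h1, ?_, fun x hx => ?_⟩
  · calc g * r * g⁻¹ * (g * p * g⁻¹) = g * (r * p) * g⁻¹ := by group
      _ = g * p * g⁻¹ * (g * r * g⁻¹) := by rw [h2]; group
  · have h4 : g⁻¹ * x * g ∈ XX V cf p := by
      have := h.conj_XX (inv_mem hg) (h.conj_pt hg hp) (conj_ne hp1) hx
      have e1 : g⁻¹ * (g * p * g⁻¹) * g⁻¹⁻¹ = p := by group
      rwa [e1, inv_inv] at this
    have e : cm (g * r * g⁻¹) x = g * cm r (g⁻¹ * x * g) * g⁻¹ := by unfold cm; group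
    obtain ⟨n, hn⟩ := mem_zpowers_iff.mp (h3 _ h4)
    rw [e, ← hn, ← conj_zpow]
    exact zpow_mem (mem_zpowers _) n

theorem cf_norm_RR (h : Fam T V z cf) {p : G} (hp : p ∈ V) (hp1 : p ≠ 1) :
    cf p ≤ normalizer ((RR V cf p : Subgroup G) : Set G) := by
  refine le_normalizer_of_forall fun c hc r hr => ?_
  obtain ⟨h1, h2, h3⟩ := hr
  have hcp := h.cf_comm hp hp1 hc
  refine ⟨conj_mem_of_normalizer h.cf_norm_kk hc h1, mul_comm_of (mul_comm_of hcp h2) (inv_comm_of hcp),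
    fun x hx => ?_⟩
  have h4 : c⁻¹ * x * c ∈ XX V cf p := conj_mem_of_normalizer' h.cf_norm_XX hc hx
  have e : cm (c * r * c⁻¹) x = c * cm r (c⁻¹ * x * c) * c⁻¹ := by unfold cm; group
  obtain ⟨n, hn⟩ := mem_zpowers_iff.mp (h3 _ h4)
  rw [e, ← hn]
  have : Commute c (p ^ n) := (show Commute c p from hcp).zpow_right n
  rw [this.eq, mul_inv_cancel_right]
  exact zpow_mem (mem_zpowers _) n

end Fam

namespace Dat

variable {T V : Subgroup G} {z : G} {cf : G → Subgroup G} {y : G} [Finite G] (D : Dat T V z cf y)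
include D

/-- commuting modulo `⟨z⟩` -/
theorem exists_quo : ∃ (Γ : Type u) (_ : Group Γ) (ψ : cf z →* Γ),
    ∀ a b : cf z, ψ a * ψ b = ψ b * ψ a ↔ cm (a : G) b ∈ zpowers z := by
  have hN : ((zpowers z).subgroupOf (cf z)).Normal := by
    constructor
    intro x hx c
    rw [mem_subgroupOf] at hx ⊢
    exact D.conj_Z c.2 hx
  refine ⟨cf z ⧸ (zpowers z).subgroupOf (cf z), inferInstance, QuotientGroup.mk' _, fun a b => ?_⟩
  have e : (QuotientGroup.mk' ((zpowers z).subgroupOf (cf z))) (a * b * a⁻¹ * b⁻¹) = 1 ↔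
      cm (a : G) b ∈ zpowers z := by
    rw [QuotientGroup.mk'_apply, QuotientGroup.eq_one_iff, mem_subgroupOf]
    rfl
  rw [← e, map_mul, map_mul, map_mul, map_inv, map_inv, mul_inv_eq_one, mul_inv_eq_iff_eq_mul]

/-- `K_z¹ = W_z R_z` -/
theorem exists_R {k : G} (hk : InK V cf z k) : ∃ w ∈ ww V cf z, k * w ∈ RR V cf z := by
  have h := D.fam
  have hz := D.hz
  have hz1 := D.hz1
  obtain ⟨t, ht, ⟨n, hn, htn⟩, htf, htx⟩ := D.tt
  have htc := h.XX_le_cf hz hz1 ht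
  have hkc : k ∈ cf z := h.cent_le_cf hz hz1 (h.kk_le_cent hk.1)
  -- `(k t)^i = k^i w t^i`
  have key : ∀ i : ℕ, ∃ w ∈ ww V cf z, (k * t) ^ i = k ^ i * w * t ^ i := by
    intro i
    induction i with
    | zero => exact ⟨1, one_mem _, by simp⟩
    | succ i ih =>
      obtain ⟨w, hw, e⟩ := ih
      have hu : cm (t ^ i) k ∈ ww V cf z := D.com_XK hk.1 (pow_mem ht i)
      refine ⟨w * cm (t ^ i) k, mul_mem hw hu, ?_⟩
      have e1 : t ^ i * k = cm (t ^ i) k * k * t ^ i := by unfold cm; group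
      have e2 : w * cm (t ^ i) k * k = k * (w * cm (t ^ i) k) := (D.KW hk.1 (mul_mem hw hu)).symm
      calc (k * t) ^ (i + 1) = k ^ i * w * (t ^ i * k) * t := by rw [pow_succ, e]; group
        _ = k ^ i * (w * cm (t ^ i) k * k) * t ^ i * t := by rw [e1]; group
        _ = k ^ i * (k * (w * cm (t ^ i) k)) * (t ^ i * t) := by rw [e2]; group
        _ = k ^ (i + 1) * (w * cm (t ^ i) k) * t ^ (i + 1) := by
          rw [pow_succ k i, pow_succ t i]; group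
  obtain ⟨w, hw, e⟩ := key n
  have hkk := D.inK_sq hk
  have hkn : k ^ n = k := by
    obtain ⟨j, rfl⟩ := hn
    rw [pow_succ, pow_mul, pow_two, hkk, one_pow, one_mul]
  rw [hkn] at e
  refine ⟨w, hw, ?_⟩
  set r := k * w with hr
  have hrK : r ∈ kk V cf z := mul_mem hk.1 (h.ww_le_kk hz hz1 hw)
  have hrc : r ∈ cf z := h.cent_le_cf hz hz1 (h.kk_le_cent hrK)
  have hrk : k * r = r * k := by
    rw [hr, mul_assoc, ← D.KW hk.1 hw]
  have hrX : ∀ q ∈ qq V cf z, q ∈ XX V cf z → cm r q ∈ zpowers z := by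
    intro q hq hqX
    rw [hr, cm_mul_left]
    exact mul_mem (D.conj_Z hkc (D.mem_Z.mpr (h.cm_qq hz hz1 hw hq))) (D.mem_Z.mpr (D.inK_QX hk hq hqX))
  -- `r` commutes with `t` modulo `⟨z⟩`
  have hrt : cm t r ∈ zpowers z := by
    have e1 : r = (k * t) ^ n * (t ^ n)⁻¹ := by rw [e]; group
    have e2 : t * r * t⁻¹ = k⁻¹ * r * (t ^ n * k * (t ^ n)⁻¹) := by
      have e3 : (t * k) ^ n = t * (k * t) ^ n * t⁻¹ := by
        rw [← conj_pow]
        congr 1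
        group
      have e4 : (t * k) ^ n = k⁻¹ * (k * t) ^ n * k := by
        have : k⁻¹ * (k * t) ^ n * k = k⁻¹ * (k * t) ^ n * k⁻¹⁻¹ := by rw [inv_inv]
        rw [this, ← conj_pow]
        congr 1
        group
      have e5 : (k * t) ^ n = r * t ^ n := e
      calc t * r * t⁻¹ = t * (k * t) ^ n * t⁻¹ * (t ^ n)⁻¹ := by
            have e6 : (t ^ n)⁻¹ * t⁻¹ = t⁻¹ * (t ^ n)⁻¹ := by
              have : Commute (t ^ n)⁻¹ t⁻¹ := ((Commute.refl t).pow_left n).inv_inv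
              exact this.eq
            calc t * r * t⁻¹ = t * (k * t) ^ n * ((t ^ n)⁻¹ * t⁻¹) := by rw [e5]; group
              _ = t * (k * t) ^ n * t⁻¹ * (t ^ n)⁻¹ := by rw [e6]; group
        _ = k⁻¹ * (k * t) ^ n * k * (t ^ n)⁻¹ := by rw [← e3, e4]
        _ = k⁻¹ * r * (t ^ n * k * (t ^ n)⁻¹) := by rw [e5]; group
    have e7 : t ^ n * k * (t ^ n)⁻¹ = cm (t ^ n) k * k := by unfold cm; group
    have e8 : cm (t ^ n) k ∈ zpowers z := by
      rw [← cm_inv]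
      exact inv_mem (D.mem_Z.mpr (D.inK_QX hk htn (pow_mem ht n)))
    have e9 : cm t r = k⁻¹ * r * cm (t ^ n) k * r⁻¹ * k := by
      have : cm t r = t * r * t⁻¹ * r⁻¹ := rfl
      rw [this, e2, e7]
      calc k⁻¹ * r * (cm (t ^ n) k * k) * r⁻¹ = k⁻¹ * r * cm (t ^ n) k * (k * r⁻¹) := by group
        _ = k⁻¹ * r * cm (t ^ n) k * (r⁻¹ * k) := by
          have : k * r⁻¹ = r⁻¹ * k := by
            rw [mul_inv_eq_iff_eq_mul, mul_assoc, hrk, inv_mul_cancel_left]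
          rw [this]
        _ = k⁻¹ * r * cm (t ^ n) k * r⁻¹ * k := by group
    have e10 : k⁻¹ * r * cm (t ^ n) k * r⁻¹ * k = (k⁻¹ * r) * cm (t ^ n) k * (k⁻¹ * r)⁻¹ := by group
    rw [e9, e10]
    exact D.conj_Z (mul_mem (inv_mem hkc) hrc) e8
  refine ⟨hrK, (h.V_comm hz (h.kk_le_cent hrK)).symm, ?_⟩
  obtain ⟨Γ, _, ψ, hψ⟩ := D.exists_quo
  -- all conjugates of `t` commute with `r` modulo `⟨z⟩`
  have hconj : ∀ x ∈ XX V cf z, cm (x⁻¹ * t * x) r ∈ zpowers z := by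
    intro x hx
    have hxc := h.XX_le_cf hz hz1 hx
    have ht'X : x⁻¹ * t * x ∈ XX V cf z := mul_mem (mul_mem (inv_mem hx) ht) hx
    set t' := x⁻¹ * t * x with ht'
    have ht'c := h.XX_le_cf hz hz1 ht'X
    have hwt : cm t' r ∈ ww V cf z := D.com_XK hrK ht'X
    have hwc := h.ww_le_cf hz hz1 hwt
    have hqQ := htx x hxc
    have hqX : cm t t' ∈ XX V cf z := mul_mem (mul_mem (mul_mem ht ht'X) (inv_mem ht)) (inv_mem ht'X)
    rw [D.mem_Z]
    refine htf _ hwt ?_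
    rw [← D.mem_Z]
    have g1 : ψ ⟨t, htc⟩ * ψ ⟨r, hrc⟩ = ψ ⟨r, hrc⟩ * ψ ⟨t, htc⟩ := (hψ ⟨t, htc⟩ ⟨r, hrc⟩).mpr hrt
    have g2 : ψ ⟨cm t t', hqQ.1⟩ * ψ ⟨r, hrc⟩ = ψ ⟨r, hrc⟩ * ψ ⟨cm t t', hqQ.1⟩ := by
      refine (hψ ⟨cm t t', hqQ.1⟩ ⟨r, hrc⟩).mpr ?_
      change cm (cm t t') r ∈ zpowers z
      rw [← cm_inv]
      exact inv_mem (hrX _ hqQ hqX)
    have g3 : ψ ⟨t, htc⟩ * ψ ⟨t', ht'c⟩ = ψ ⟨cm t t', hqQ.1⟩ * (ψ ⟨t', ht'c⟩ * ψ ⟨t, htc⟩) := by
      rw [← map_mul, ← map_mul, ← map_mul]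
      congr 1
      ext
      change t * t' = cm t t' * (t' * t)
      unfold cm; group
    have g4 : cm (ψ ⟨t', ht'c⟩) (ψ ⟨r, hrc⟩) = ψ ⟨cm t' r, hwc⟩ := by
      unfold cm
      rw [← map_inv, ← map_inv, ← map_mul, ← map_mul, ← map_mul]
      rfl
    have g5 : ψ ⟨cm t t', hqQ.1⟩ * cm (ψ ⟨t', ht'c⟩) (ψ ⟨r, hrc⟩) =
        cm (ψ ⟨t', ht'c⟩) (ψ ⟨r, hrc⟩) * ψ ⟨cm t t', hqQ.1⟩ := by
      rw [g4]
      refine (hψ ⟨cm t t', hqQ.1⟩ ⟨cm t' r, hwc⟩).mpr ?_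
      exact D.mem_Z.mpr (h.cm_qw hz hwt hqQ)
    have g6 := commute_step g1 g2 g3 g5
    rw [g4] at g6
    exact (hψ ⟨t, htc⟩ ⟨cm t' r, hwc⟩).mp g6
  intro x hx
  have hxc := h.XX_le_cf hz hz1 hx
  rw [← cm_inv]
  refine inv_mem ?_
  have hwx : cm x r ∈ ww V cf z := D.com_XK hrK hx
  have hwc := h.ww_le_cf hz hz1 hwx
  rw [D.mem_Z]
  refine htf _ hwx ?_
  rw [← D.mem_Z]
  have g1 : ψ ⟨t, htc⟩ * ψ ⟨r, hrc⟩ = ψ ⟨r, hrc⟩ * ψ ⟨t, htc⟩ := (hψ ⟨t, htc⟩ ⟨r, hrc⟩).mpr hrt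
  have g2 : ((ψ ⟨x, hxc⟩)⁻¹ * ψ ⟨t, htc⟩ * ψ ⟨x, hxc⟩) * ψ ⟨r, hrc⟩ =
      ψ ⟨r, hrc⟩ * ((ψ ⟨x, hxc⟩)⁻¹ * ψ ⟨t, htc⟩ * ψ ⟨x, hxc⟩) := by
    rw [← map_inv, ← map_mul, ← map_mul]
    exact (hψ _ _).mpr (hconj x hx)
  have g3 := commute_step2 g1 g2
  have g4 : cm (ψ ⟨x, hxc⟩) (ψ ⟨r, hrc⟩) = ψ ⟨cm x r, hwc⟩ := by
    unfold cm
    rw [← map_inv, ← map_inv, ← map_mul, ← map_mul, ← map_mul]
    rfl
  rw [g4] at g3
  exact (hψ ⟨t, htc⟩ ⟨cm x r, hwc⟩).mp g3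

/-- `W_z ∩ R_z = ⟨z⟩` -/
theorem W_R {w : G} (hw : w ∈ ww V cf z) (hwR : w ∈ RR V cf z) : w = 1 ∨ w = z := by
  obtain ⟨t, ht, -, htf, -⟩ := D.tt
  refine htf w hw (D.mem_Z.mp ?_)
  rw [← cm_inv]
  exact inv_mem (hwR.2.2 t ht)

theorem R_inK {r : G} (hr : r ∈ RR V cf z) : InK V cf z r :=
  ⟨hr.1, fun o ho => D.mem_Z.mp (hr.2.2 o (OO_le_XX V cf z ho))⟩

/-- `R_z ≤ K_y` -/
theorem R_le_kk {r : G} (hr : r ∈ RR V cf z) : r ∈ kk V cf y := by
  have h := D.fam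
  have hz := D.hz
  have hz1 := D.hz1
  obtain ⟨w, hw, h1, h2⟩ := D.inK_dec (D.R_inK hr)
  have hwr : r = (r * w) * w := by rw [mul_assoc, h.sqz w hw, mul_one]
  -- `[w, g] = [r, g]` for `g ∈ W_y`
  have h3 : ∀ g ∈ ww V cf y, cm r g = (r * w) * cm w g * (r * w)⁻¹ := by
    intro g hg
    have e1 : cm (r * w) g = 1 := cm_eq_one.mpr (mem_centralizer_iff.mp h2 g hg).symm
    have e2 : cm r g = cm (r * w * w) g := by rw [← hwr]
    rw [e2, cm_mul_left, e1, mul_one]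
  have hrwc : r * w ∈ cf z := h.cent_le_cf hz hz1 (h.kk_le_cent h1)
  have h4 : w ∈ jj V cf := by
    refine D.jj_of hw fun g hg => ?_
    rw [← D.mem_Z]
    have h5 : cm r g ∈ zpowers z := hr.2.2 g (mem_XX' D.hy D.hy1 hg)
    have e : cm w g = (r * w)⁻¹ * cm r g * (r * w)⁻¹⁻¹ := by rw [h3 g hg]; group
    rw [e]
    exact D.conj_Z (inv_mem hrwc) h5
  have h6 : w ∈ kk V cf y := h.ww_le_kk D.hy D.hy1 (Fam.jj_le D.hy D.hy1 h4)
  rw [hwr]
  exact mul_mem h2 h6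

theorem R_le_kk' {r q : G} (hr : r ∈ RR V cf z) (hq : q ∈ V) (hq1 : q ≠ 1) : r ∈ kk V cf q := by
  by_cases hqz : q = z
  · rw [hqz]; exact hr.1
  · obtain ⟨T', D'⟩ := D.at D.hz D.hz1 hq hq1 hqz
    exact D'.R_le_kk hr

/-- `R_z` centralises `X_z` -/
theorem R_cent {r x : G} (hr : r ∈ RR V cf z) (hx : x ∈ XX V cf z) : r * x = x * r := by
  have h := D.fam
  have hz := D.hz
  have hz1 := D.hz1
  induction hx using closure_induction with
  | mem x hx =>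
    obtain ⟨c, hc, q, hq, hq1, g, hg, rfl⟩ := hx
    have h1 : c⁻¹ * r * c ∈ RR V cf z := conj_mem_of_normalizer' (h.cf_norm_RR hz hz1) hc hr
    have h2 := mem_centralizer_iff.mp (D.R_le_kk' h1 hq hq1) g hg
    calc r * (c * g * c⁻¹) = c * ((c⁻¹ * r * c) * g) * c⁻¹ := by group
      _ = c * (g * (c⁻¹ * r * c)) * c⁻¹ := by rw [h2]
      _ = c * g * c⁻¹ * r := by group
  | one => rw [mul_one, one_mul]
  | mul a b _ _ ha hb => rw [← mul_assoc, ha, mul_assoc, hb, mul_assoc]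
  | inv a _ ha => exact (show Commute r a from ha).inv_right

/-- `K_z ∩ K_y = I R_z` -/
theorem D_R {d : G} : (d ∈ kk V cf z ∧ d ∈ kk V cf y) ↔ ∃ e ∈ jj V cf, d * e ∈ RR V cf z := by
  have h := D.fam
  have hz := D.hz
  have hz1 := D.hz1
  constructor
  · rintro ⟨h1, h2⟩
    obtain ⟨w, hw, hR⟩ := D.exists_R (D.inK_of h1 h2)
    refine ⟨w, ?_, hR⟩
    refine D.jj_of_cent hz hz1 D.hy D.hy1 D.hyz hw ?_
    have h3 := mul_mem (inv_mem h2) (D.R_le_kk hR)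
    rwa [inv_mul_cancel_left] at h3
  · rintro ⟨e, he, hR⟩
    have hez : e ∈ kk V cf z := h.ww_le_kk hz hz1 (Fam.jj_le hz hz1 he)
    have hey : e ∈ kk V cf y := h.ww_le_kk D.hy D.hy1 (Fam.jj_le D.hy D.hy1 he)
    constructor
    · have := mul_mem hR.1 (inv_mem hez)
      rwa [mul_inv_cancel_right] at this
    · have := mul_mem (D.R_le_kk hR) (inv_mem hey)
      rwa [mul_inv_cancel_right] at this

end Dat

end Cfsg.Agent.Omega.NO3S.Fit

end

section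


/-!
# Text #13963 (helper311), section 4: (4.5)

* `Dat.kk_inf` : `K_z ∩ K_y = I`;
* `Dat.inK_iff` : `K_z¹ = W_z`;
* `Dat.card_jj` : `|I| = 8`.
-/

set_option autoImplicit false
set_option linter.unusedSectionVars false

namespace Cfsg.Agent.Omega.NO3S.Fit

open Subgroup Cfsg Cfsg.Agent.ZN Cfsg.Agent.MinSimple.Geo Cfsg.Agent.Omega.CaseL
open Cfsg.Agent.Omega.NO3S.Fit.PlaneForm (cm cm_eq_one cm_inv)
open Cfsg.Agent.ZN.Block (conj_mem_of_normalizer conj_mem_of_normalizer' le_normalizer_of_forall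
  mem_normalizer_of)

universe u

variable {G : Type u} [Group G]

namespace Dat

variable {T V : Subgroup G} {z : G} {cf : G → Subgroup G} {y : G} [Finite G] (D : Dat T V z cf y)
include D

/-- `K_p ∩ K_q` is the same for all pairs of points -/
theorem D_R' {p d : G} (hp : p ∈ V) (hp1 : p ≠ 1) :
    (∃ e ∈ jj V cf, d * e ∈ RR V cf p) ↔ ∃ e ∈ jj V cf, d * e ∈ RR V cf z := by
  by_cases hpz : p = z
  · rw [hpz]
  · obtain ⟨T1, D1⟩ := D.at hp hp1 D.hz D.hz1 (Ne.symm hpz)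
    obtain ⟨T2, D2⟩ := D.at D.hz D.hz1 hp hp1 hpz
    rw [← D1.D_R, ← D2.D_R, and_comm]

theorem p_R {p : G} (hp : p ∈ V) (hp1 : p ≠ 1) : p ∈ RR V cf p := by
  have h := D.fam
  refine ⟨h.V_le_kk hp hp1 hp, rfl, fun x hx => ?_⟩
  rw [cm_eq_one.mpr (h.cf_comm hp hp1 (h.XX_le_cf hp hp1 hx)).symm]
  exact one_mem _

theorem W_R' {p w : G} (hp : p ∈ V) (hp1 : p ≠ 1) (hw : w ∈ ww V cf p) (hwR : w ∈ RR V cf p) :
    w = 1 ∨ w = p := by
  obtain ⟨q, hq, hq1, hqp⟩ := D.fam.exists_q hp hp1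
  obtain ⟨T', D'⟩ := D.at hp hp1 hq hq1 hqp
  exact D'.W_R hw hwR

/-- elements of `V` outside `⟨p⟩` differ by elements of `⟨p⟩` -/
theorem V_two {p u v : G} (hp : p ∈ V) (hp1 : p ≠ 1) (hu : u ∈ V) (hv : v ∈ V) (hu' : ¬ (u = 1 ∨ u = p))
    (hv' : ¬ (v = 1 ∨ v = p)) : u * v = 1 ∨ u * v = p := by
  have h := D.fam
  push Not at hu' hv'
  have huu := h.ln.sq u hu
  rcases h.ln.four hp hu hp1 hu'.1 (Ne.symm hu'.2) hv with e | e | e | e
  · exact absurd e hv'.1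
  · exact absurd e hv'.2
  · left; rw [e, huu]
  · right
    rw [e, h.ln.comm hp hu, ← mul_assoc, huu, one_mul]

/-- the shift lemma -/
theorem shift {p d u : G} (hp : p ∈ V) (hp1 : p ≠ 1) (hd : ∃ v ∈ V, d * v ∈ RR V cf p) (hu : u ∈ V) :
    ((u = 1 ∨ u = p) → (d * u ∈ RR V cf p ↔ d ∈ RR V cf p)) ∧
      (¬ (u = 1 ∨ u = p) → (d * u ∈ RR V cf p ↔ d ∉ RR V cf p)) := by
  have h := D.fam
  have hpR := D.p_R hp hp1
  have hin : ∀ {u : G}, (u = 1 ∨ u = p) → u ∈ RR V cf p := by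
    rintro u (e | e) <;> rw [e]
    · exact one_mem _
    · exact hpR
  refine ⟨fun hu' => ?_, fun hu' => ?_⟩
  · exact Subgroup.mul_mem_cancel_right _ (hin hu')
  · constructor
    · intro h1 h2
      have h3 : u ∈ RR V cf p := (Subgroup.mul_mem_cancel_left _ h2).mp h1
      exact hu' (D.W_R' hp hp1 (h.V_le hu) h3)
    · intro h1
      obtain ⟨v, hv, hvR⟩ := hd
      have hv' : ¬ (v = 1 ∨ v = p) := by
        intro e
        exact h1 ((Subgroup.mul_mem_cancel_right _ (hin e)).mp hvR)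
      have h2 := hin (D.V_two hp hp1 hv hu hv' hu')
      have e : d * u = (d * v) * (v * u) := by
        have hvv := h.ln.sq v hv
        calc d * u = d * (v * v) * u := by rw [hvv, mul_one]
          _ = (d * v) * (v * u) := by group
      rw [e]
      exact mul_mem hvR h2

/-- `R_x ∩ R_y ∩ R_s = 1` -/
theorem inf_R {r : G} (hr : ∀ p ∈ V, p ≠ 1 → r ∈ RR V cf p) : r = 1 := by
  have h := D.fam
  have hz := D.hz
  have hz1 := D.hz1
  let R0 : Subgroup G :=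
    { carrier := {r | ∀ p ∈ V, p ≠ 1 → r ∈ RR V cf p}
      one_mem' := fun _ _ _ => one_mem _
      mul_mem' := fun ha hb p hp hp1 => mul_mem (ha p hp hp1) (hb p hp hp1)
      inv_mem' := fun ha p hp hp1 => inv_mem (ha p hp hp1) }
  have hb : R0 = ⊥ := by
    have hV : normalizer (V : Set G) ≤ normalizer (R0 : Set G) := by
      refine le_normalizer_of_forall fun g hg r hr p hp hp1 => ?_
      have h1 := h.conj_RR hg (h.conj_pt' hg hp) (Fam.conj_ne' hp1) (hr _ (h.conj_pt' hg hp) (Fam.conj_ne' hp1))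
      have e : g * (g⁻¹ * p * g) * g⁻¹ = p := by group
      rwa [e] at h1
    refine h.nl ?_ hV ?_
    · refine D.two.to_le fun r hr => ?_
      exact h.kk_le_cent (hr z hz hz1).1
    · refine le_normalizer_of_forall fun c hc r hr => ?_
      obtain ⟨x, hx, n, hn, -, rfl⟩ := D.gen hc
      have h1 : n * r * n⁻¹ ∈ R0 := conj_mem_of_normalizer hV hn hr
      have h2 := D.R_cent (h1 z hz hz1) hx
      have e : x * n * r * (x * n)⁻¹ = n * r * n⁻¹ := by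
        calc x * n * r * (x * n)⁻¹ = x * (n * r * n⁻¹) * x⁻¹ := by group
          _ = n * r * n⁻¹ := by rw [← h2]; group
      rw [e]
      exact h1
  have h1 : r ∈ R0 := hr
  rw [hb] at h1
  exact mem_bot.mp h1

theorem sq_of {d : G} (hd : ∃ e ∈ jj V cf, d * e ∈ RR V cf z) : d * d = 1 := by
  obtain ⟨h1, h2⟩ := D.D_R.mpr hd
  exact D.inK_sq (D.inK_of h1 h2)

/-- an involution in `C_G(T)` -/
theorem soc_of {f : G} (hf : f * f = 1) (hc : ∀ t ∈ T, t * f * t⁻¹ = f) : f = 1 ∨ f = z := by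
  have h := D.fam
  have hfT : f ∈ T := by
    have h1 : zpowers f ≤ T := by
      refine h.le_T (isPGroup_zpowers hf) (le_normalizer_of_forall fun t ht x hx => ?_)
      obtain ⟨n, rfl⟩ := mem_zpowers_iff.mp hx
      rw [← conj_zpow, hc t ht]
      exact zpow_mem (mem_zpowers _) n
    exact h1 (mem_zpowers f)
  exact h.ln.soc f hfT hf fun s hs => comm_of_conj_eq (hc s hs)

/-- the three points -/
theorem cases3 {Pr : G → Prop} (h1 : Pr z) (h2 : Pr y) (h3 : Pr (z * y)) : ∀ p ∈ V, p ≠ 1 → Pr p := by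
  intro p hp hp1
  rcases D.fam.ln.four D.hz D.hy D.hz1 D.hy1 (Ne.symm D.hyz) hp with e | e | e | e
  · exact absurd e hp1
  · rwa [e]
  · rwa [e]
  · rwa [e]

theorem hs : z * y ∈ V := mul_mem D.hz D.hy

theorem hs1 : z * y ≠ 1 := D.fam.mul_ne_one D.hy (Ne.symm D.hyz)

/-- no element of `∩ R_p V` is outside all `R_p` -/
theorem no_odd {f : G} (hD : ∃ e ∈ jj V cf, f * e ∈ RR V cf z)
    (hV : ∀ p ∈ V, p ≠ 1 → ∃ v ∈ V, f * v ∈ RR V cf p) (hn : ∀ p ∈ V, p ≠ 1 → f ∉ RR V cf p) : False := by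
  have h := D.fam
  have hz := D.hz
  have hz1 := D.hz1
  have hc : ∀ t ∈ T, t * f * t⁻¹ = f := by
    intro t ht
    have htV := h.ln.T_norm ht
    have key : ∀ p ∈ V, p ≠ 1 → (t * f * t⁻¹) * f⁻¹ ∈ RR V cf p := by
      intro p hp hp1
      -- `f v ∈ R_p`, `f' v' ∈ R_p`
      obtain ⟨v, hv, hvR⟩ := hV p hp hp1
      have hp' := h.conj_pt' htV hp
      have hp1' : t⁻¹ * p * t ≠ 1 := Fam.conj_ne' hp1
      have ep : t * (t⁻¹ * p * t) * t⁻¹ = p := by group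
      obtain ⟨v', hv', hvR'⟩ := hV _ hp' hp1'
      have h1 := h.conj_RR htV hp' hp1' hvR'
      rw [ep] at h1
      have e1 : t * (f * v') * t⁻¹ = (t * f * t⁻¹) * (t * v' * t⁻¹) := by group
      rw [e1] at h1
      have hpR := D.p_R hp hp1
      have hin : ∀ {u : G}, (u = 1 ∨ u = p) → u ∈ RR V cf p := by
        rintro u (e | e) <;> rw [e]
        · exact one_mem _
        · exact hpR
      have hnv : ¬ (v = 1 ∨ v = p) := fun e =>
        hn p hp hp1 ((Subgroup.mul_mem_cancel_right _ (hin e)).mp hvR)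
      have hnv' : ¬ (t * v' * t⁻¹ = 1 ∨ t * v' * t⁻¹ = p) := by
        intro e
        have h2 := (Subgroup.mul_mem_cancel_right _ (hin e)).mp h1
        have h3 := h.conj_RR (inv_mem htV) hp hp1 h2
        have e2 : t⁻¹ * (t * f * t⁻¹) * t⁻¹⁻¹ = f := by group
        have e3 : t⁻¹ * p * t⁻¹⁻¹ = t⁻¹ * p * t := by rw [inv_inv]
        rw [e2, e3] at h3
        exact hn _ hp' hp1' h3
      have h4 := hin (D.V_two hp hp1 (h.conj_pt htV hv') hv hnv' hnv)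
      set v'' := t * v' * t⁻¹ with hv''
      have hvv'' : v''⁻¹ = v'' := h.ln.inv_eq (h.conj_pt htV hv')
      have e5 : (t * f * t⁻¹) * f⁻¹ = ((t * f * t⁻¹) * v'') * (v'' * v) * (f * v)⁻¹ := by
        calc (t * f * t⁻¹) * f⁻¹ = (t * f * t⁻¹) * (v'' * v''⁻¹) * (v * v⁻¹) * f⁻¹ := by group
          _ = ((t * f * t⁻¹) * v'') * (v'' * v) * (f * v)⁻¹ := by rw [hvv'']; group
      rw [e5]
      exact mul_mem (mul_mem h1 h4) (inv_mem hvR)
    have := D.inf_R key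
    exact mul_inv_eq_one.mp this
  rcases D.soc_of (D.sq_of hD) hc with e | e
  · exact hn z hz hz1 (by rw [e]; exact one_mem _)
  · exact hn z hz hz1 (by rw [e]; exact D.p_R hz hz1)

/-- `∩ R_p V = V` -/
theorem claim1 {d : G} (hD : ∃ e ∈ jj V cf, d * e ∈ RR V cf z)
    (hV : ∀ p ∈ V, p ≠ 1 → ∃ v ∈ V, d * v ∈ RR V cf p) : d ∈ V := by
  classical
  have h := D.fam
  have hz := D.hz
  have hz1 := D.hz1
  have hy := D.hy
  have hy1 := D.hy1
  have hs := D.hs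
  have hs1 := D.hs1
  have hyz := D.hyz
  -- `u ∈ V`: the element `d u`
  have hDu : ∀ u ∈ V, ∃ e ∈ jj V cf, (d * u) * e ∈ RR V cf z := by
    intro u hu
    obtain ⟨e, he, heR⟩ := hD
    refine ⟨u⁻¹ * e, mul_mem (inv_mem (h.V_le_jj hu)) he, ?_⟩
    have : d * u * (u⁻¹ * e) = d * e := by group
    rwa [this]
  have hVu : ∀ u ∈ V, ∀ p ∈ V, p ≠ 1 → ∃ v ∈ V, (d * u) * v ∈ RR V cf p := by
    intro u hu p hp hp1
    obtain ⟨v, hv, hvR⟩ := hV p hp hp1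
    refine ⟨u⁻¹ * v, mul_mem (inv_mem hu) hv, ?_⟩
    have : d * u * (u⁻¹ * v) = d * v := by group
    rwa [this]
  have one : ∀ u ∈ V, (∀ p ∈ V, p ≠ 1 → d * u ∈ RR V cf p) → d ∈ V := by
    intro u hu hu'
    have := D.inf_R hu'
    have e : d = u⁻¹ := eq_inv_of_mul_eq_one_left this
    rw [e]; exact inv_mem hu
  have zero : ∀ u ∈ V, ¬ (∀ p ∈ V, p ≠ 1 → d * u ∉ RR V cf p) := fun u hu hu' =>
    D.no_odd (hDu u hu) (hVu u hu) hu'
  have ney : z ≠ z * y := fun e => hy1 (by simpa using e)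
  have nez : y ≠ z * y := fun e => hz1 (by simpa using e)
  have sz := fun u (hu : u ∈ V) => D.shift hz hz1 (hV z hz hz1) hu
  have sy := fun u (hu : u ∈ V) => D.shift hy hy1 (hV y hy hy1) hu
  have ss := fun u (hu : u ∈ V) => D.shift hs hs1 (hV _ hs hs1) hu
  -- the effect of `z`, `y`, `z y`
  have zz := (sz z hz).1 (Or.inr rfl)
  have zy := (sy z hz).2 (by push Not; exact ⟨hz1, Ne.symm hyz⟩)
  have zs := (ss z hz).2 (by push Not; exact ⟨hz1, ney⟩)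
  have yz := (sz y hy).2 (by push Not; exact ⟨hy1, hyz⟩)
  have yy := (sy y hy).1 (Or.inr rfl)
  have ys := (ss y hy).2 (by push Not; exact ⟨hy1, nez⟩)
  have xz := (sz _ hs).2 (by push Not; exact ⟨hs1, Ne.symm ney⟩)
  have xy := (sy _ hs).2 (by push Not; exact ⟨hs1, Ne.symm nez⟩)
  have xs := (ss _ hs).1 (Or.inr rfl)
  have one1 : (∀ p ∈ V, p ≠ 1 → d ∈ RR V cf p) → d ∈ V := fun hh => one 1 (one_mem _) (by rwa [mul_one])
  have zero1 : ¬ (∀ p ∈ V, p ≠ 1 → d ∉ RR V cf p) := fun hh => zero 1 (one_mem _) (by rwa [mul_one])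
  by_cases a1 : d ∈ RR V cf z <;> by_cases a2 : d ∈ RR V cf y <;> by_cases a3 : d ∈ RR V cf (z * y)
  · exact one1 (D.cases3 a1 a2 a3)
  · -- F at `s`
    exfalso
    exact zero _ hs (D.cases3 (fun e => xz.mp e a1) (fun e => xy.mp e a2) (fun e => a3 (xs.mp e)))
  · exfalso
    exact zero _ hy (D.cases3 (fun e => yz.mp e a1) (fun e => a2 (yy.mp e)) (fun e => ys.mp e a3))
  · exact one _ hz (D.cases3 (zz.mpr a1) (zy.mpr a2) (zs.mpr a3))
  · exfalso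
    exact zero _ hz (D.cases3 (fun e => a1 (zz.mp e)) (fun e => zy.mp e a2) (fun e => zs.mp e a3))
  · exact one _ hy (D.cases3 (yz.mpr a1) (yy.mpr a2) (ys.mpr a3))
  · exact one _ hs (D.cases3 (xz.mpr a1) (xy.mpr a2) (xs.mpr a3))
  · exact absurd (D.cases3 a1 a2 a3) zero1

/-- membership of products in `R_p V` -/
theorem RV_mul {p a b : G} (hp : p ∈ V) (hp1 : p ≠ 1) (ha : a ∈ RR V cf p) {v : G} (hv : v ∈ V)
    (hb : b ∈ RR V cf p) : ∃ u ∈ V, (a * v * b⁻¹) * u ∈ RR V cf p := by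
  have h := D.fam
  refine ⟨v⁻¹, inv_mem hv, ?_⟩
  have hbV := h.kk_le_cent hb.1
  have e : v * b⁻¹ = b⁻¹ * v := by
    have := h.V_comm hv hbV
    rw [mul_inv_eq_iff_eq_mul, mul_assoc, this, inv_mul_cancel_left]
  have : a * v * b⁻¹ * v⁻¹ = a * b⁻¹ := by rw [mul_assoc a v, e]; group
  rw [this]
  exact mul_mem ha (inv_mem hb)

/-- two points out of three -/
theorem claim2 {τ : G} (hD : ∃ e ∈ jj V cf, τ * e ∈ RR V cf z) (h1 : ∃ v ∈ V, τ * v ∈ RR V cf y)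
    (h2 : ∃ v ∈ V, τ * v ∈ RR V cf (z * y)) : ∃ v ∈ V, τ * v ∈ RR V cf z := by
  by_contra hcon
  have h := D.fam
  have hz := D.hz
  have hz1 := D.hz1
  have hy := D.hy
  have hy1 := D.hy1
  have hs := D.hs
  have hs1 := D.hs1
  have hyz := D.hyz
  have ney : z ≠ z * y := fun e => hy1 (by simpa using e)
  have nez : y ≠ z * y := fun e => hz1 (by simpa using e)
  -- `t ∈ R_y ∩ R_s`
  obtain ⟨u, hu, huy, hus⟩ : ∃ u ∈ V, τ * u ∈ RR V cf y ∧ τ * u ∈ RR V cf (z * y) := by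
    obtain ⟨u, hu, huy⟩ := h1
    by_cases hus : τ * u ∈ RR V cf (z * y)
    · exact ⟨u, hu, huy, hus⟩
    · have h2' : ∃ v ∈ V, (τ * u) * v ∈ RR V cf (z * y) := by
        obtain ⟨v, hv, hvR⟩ := h2
        refine ⟨u⁻¹ * v, mul_mem (inv_mem hu) hv, ?_⟩
        have : τ * u * (u⁻¹ * v) = τ * v := by group
        rwa [this]
      have h3 := (D.shift hs hs1 h2' hy).2 (by push Not; exact ⟨hy1, nez⟩)
      refine ⟨u * y, mul_mem hu hy, ?_, ?_⟩
      · rw [← mul_assoc]; exact mul_mem huy (D.p_R hy hy1)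
      · rw [← mul_assoc]; exact h3.mpr hus
  set t := τ * u with ht
  have htz : ¬ ∃ v ∈ V, t * v ∈ RR V cf z := by
    rintro ⟨v, hv, hvR⟩
    refine hcon ⟨u * v, mul_mem hu hv, ?_⟩
    rwa [← mul_assoc]
  have hDt : ∀ t : G, t ∈ RR V cf y → ∃ e ∈ jj V cf, t * e ∈ RR V cf z := fun t ht =>
    (D.D_R' hy hy1).mp ⟨1, one_mem _, by rwa [mul_one]⟩
  have hjj2 : ∀ e ∈ jj V cf, e⁻¹ = e := fun e he => h.inv_ww hz hz1 (Fam.jj_le hz hz1 he)
  -- `t` is fixed by `T`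
  have hc : ∀ g ∈ T, g * t * g⁻¹ = t := by
    intro g hg
    have hgV := h.ln.T_norm hg
    have hgz := h.ln.z_comm (h.ln.T_le hg)
    have egz : g * z * g⁻¹ = z := conj_eq_of_comm hgz
    have esplit : g * (z * y) * g⁻¹ = z * (g * y * g⁻¹) := by
      calc g * (z * y) * g⁻¹ = (g * z * g⁻¹) * (g * y * g⁻¹) := by group
        _ = z * (g * y * g⁻¹) := by rw [egz]
    obtain ⟨hty, hts⟩ : g * t * g⁻¹ ∈ RR V cf y ∧ g * t * g⁻¹ ∈ RR V cf (z * y) := by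
      have c1 := h.conj_RR hgV hy hy1 huy
      have c2 := h.conj_RR hgV hs hs1 hus
      rw [esplit] at c2
      rcases h.ln.conj_cases hz hy hz1 hgz hgV with e | e
      · rw [e] at c1 c2
        exact ⟨c1, c2⟩
      · rw [e] at c1 c2
        have e2 : z * (z * y) = y := by rw [← mul_assoc, h.ln.zz, one_mul]
        rw [e2] at c2
        exact ⟨c2, c1⟩
    have htz' : ¬ ∃ v ∈ V, (g * t * g⁻¹) * v ∈ RR V cf z := by
      rintro ⟨v, hv, hvR⟩
      apply htz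
      have c3 := h.conj_RR (inv_mem hgV) hz hz1 hvR
      have e3 : g⁻¹ * z * g⁻¹⁻¹ = z := by
        rw [inv_inv]
        calc g⁻¹ * z * g = g⁻¹ * (g * z * g⁻¹) * g := by rw [egz]
          _ = z := by group
      have e4 : g⁻¹ * (g * t * g⁻¹ * v) * g⁻¹⁻¹ = t * (g⁻¹ * v * g) := by group
      rw [e3, e4] at c3
      exact ⟨_, h.conj_pt' hgV hv, c3⟩
    set t' := g * t * g⁻¹ with ht'
    obtain ⟨e, he, heR⟩ := hDt t huy
    obtain ⟨e', he', heR'⟩ := hDt t' hty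
    have heV : e ∉ V := fun hV => htz ⟨e, hV, heR⟩
    have heV' : e' ∉ V := fun hV => htz' ⟨e', hV, heR'⟩
    have hee := D.jj_mul he' he heV' heV
    have e5 : t' * t⁻¹ = (t' * e') * (e' * e) * (t * e)⁻¹ := by
      calc t' * t⁻¹ = t' * (e' * e'⁻¹) * (e * e⁻¹) * t⁻¹ := by group
        _ = (t' * e') * (e' * e) * (t * e)⁻¹ := by rw [hjj2 e' he']; group
    have hRyV : ∃ v ∈ V, (t' * t⁻¹) * v ∈ RR V cf z := by
      rw [e5]
      exact D.RV_mul hz hz1 heR' hee heR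
    have hty' : t' * t⁻¹ ∈ RR V cf y := mul_mem hty (inv_mem huy)
    have hts' : t' * t⁻¹ ∈ RR V cf (z * y) := mul_mem hts (inv_mem hus)
    have h6 : t' * t⁻¹ ∈ V := D.claim1 (hDt _ hty')
      (D.cases3 hRyV ⟨1, one_mem _, by rwa [mul_one]⟩ ⟨1, one_mem _, by rwa [mul_one]⟩)
    have h7 := D.W_R' hy hy1 (h.V_le h6) hty'
    have h8 := D.W_R' hs hs1 (h.V_le h6) hts'
    have h9 : t' * t⁻¹ = 1 := by
      rcases h7 with e7 | e7
      · exact e7
      · rcases h8 with e8 | e8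
        · exact e8
        · exact absurd (e7.symm.trans e8) nez
    exact mul_inv_eq_one.mp h9
  apply htz
  rcases D.soc_of (D.sq_of (hDt t huy)) hc with e | e
  · exact ⟨1, one_mem _, by rw [e, one_mul]; exact one_mem _⟩
  · exact ⟨1, one_mem _, by rw [e, mul_one]; exact D.p_R hz hz1⟩

/-- the flip lemma -/
theorem flip {p τ e : G} (hp : p ∈ V) (hp1 : p ≠ 1) (hD : ∃ e ∈ jj V cf, τ * e ∈ RR V cf z)
    (he : e ∈ jj V cf) (heV : e ∉ V) :
    (∃ v ∈ V, (τ * e) * v ∈ RR V cf p) ↔ ¬ ∃ v ∈ V, τ * v ∈ RR V cf p := by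
  have h := D.fam
  have hz := D.hz
  have hz1 := D.hz1
  have hjj2 : ∀ e ∈ jj V cf, e⁻¹ = e := fun e he => h.inv_ww hz hz1 (Fam.jj_le hz hz1 he)
  constructor
  · rintro ⟨v, hv, hvR⟩ ⟨u, hu, huR⟩
    have h1 : (τ * u)⁻¹ * (τ * e * v) ∈ RR V cf p := mul_mem (inv_mem huR) hvR
    have e1 : (τ * u)⁻¹ * (τ * e * v) = u⁻¹ * e * v := by group
    rw [e1] at h1
    have h2 : u⁻¹ * e * v ∈ jj V cf := mul_mem (mul_mem (inv_mem (h.V_le_jj hu)) he) (h.V_le_jj hv)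
    have h3 : u⁻¹ * e * v ∈ V := by
      rcases D.W_R' hp hp1 (Fam.jj_le hp hp1 h2) h1 with e2 | e2 <;> rw [e2]
      · exact one_mem _
      · exact hp
    apply heV
    have := mul_mem (mul_mem hu h3) (inv_mem hv)
    have e4 : u * (u⁻¹ * e * v) * v⁻¹ = e := by group
    rwa [e4] at this
  · intro hn
    obtain ⟨e', he', heR'⟩ := (D.D_R' hp hp1).mpr hD
    have heV' : e' ∉ V := fun hV => hn ⟨e', hV, heR'⟩
    refine ⟨e * e', D.jj_mul he he' heV heV', ?_⟩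
    have : τ * e * (e * e') = τ * e' := by
      calc τ * e * (e * e') = τ * (e * e) * e' := by group
        _ = τ * e' := by rw [mul_eq_one_iff_inv_eq.mpr (hjj2 e he), mul_one]
    rwa [this]

/-- **(4.5)** `K_z ∩ K_y = I` -/
theorem kk_inf : kk V cf z ⊓ kk V cf y = jj V cf := by
  classical
  have h := D.fam
  have hz := D.hz
  have hz1 := D.hz1
  have hy := D.hy
  have hy1 := D.hy1
  have hs := D.hs
  have hs1 := D.hs1
  have hyz := D.hyz
  have ney : z ≠ z * y := fun e => hy1 (by simpa using e)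
  have nez : y ≠ z * y := fun e => hz1 (by simpa using e)
  refine le_antisymm ?_ fun e he => mem_inf.mpr ⟨h.ww_le_kk hz hz1 (Fam.jj_le hz hz1 he),
    h.ww_le_kk hy hy1 (Fam.jj_le hy hy1 he)⟩
  rintro τ ⟨hτ1, hτ2⟩
  have hD : ∃ e ∈ jj V cf, τ * e ∈ RR V cf z := D.D_R.mp ⟨hτ1, hτ2⟩
  obtain ⟨e, he, heV⟩ := D.exists_jj
  have hDe : ∃ e' ∈ jj V cf, (τ * e) * e' ∈ RR V cf z := by
    obtain ⟨e', he', heR'⟩ := hD
    refine ⟨e⁻¹ * e', mul_mem (inv_mem he) he', ?_⟩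
    have : τ * e * (e⁻¹ * e') = τ * e' := by group
    rwa [this]
  obtain ⟨T1, D1⟩ := D.at hy hy1 hz hz1 (Ne.symm hyz)
  obtain ⟨T2, D2⟩ := D.at hs hs1 hz hz1 ney
  have eyz : y * z = z * y := h.ln.comm hy hz
  have esz : (z * y) * z = y := by
    rw [mul_assoc, eyz, ← mul_assoc, h.ln.zz, one_mul]
  -- two out of three
  have c1 : ∀ τ, (∃ e ∈ jj V cf, τ * e ∈ RR V cf z) → (∃ v ∈ V, τ * v ∈ RR V cf y) →
      (∃ v ∈ V, τ * v ∈ RR V cf (z * y)) → ∃ v ∈ V, τ * v ∈ RR V cf z := fun τ a b c => D.claim2 a b c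
  have c2 : ∀ τ, (∃ e ∈ jj V cf, τ * e ∈ RR V cf z) → (∃ v ∈ V, τ * v ∈ RR V cf z) →
      (∃ v ∈ V, τ * v ∈ RR V cf (z * y)) → ∃ v ∈ V, τ * v ∈ RR V cf y := by
    intro τ a b c
    exact D1.claim2 ((D.D_R' hy hy1).mpr a) b (by rw [eyz]; exact c)
  have c3 : ∀ τ, (∃ e ∈ jj V cf, τ * e ∈ RR V cf z) → (∃ v ∈ V, τ * v ∈ RR V cf z) →
      (∃ v ∈ V, τ * v ∈ RR V cf y) → ∃ v ∈ V, τ * v ∈ RR V cf (z * y) := by
    intro τ a b c
    exact D2.claim2 ((D.D_R' hs hs1).mpr a) b (by rw [esz]; exact c)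
  have f1 := D.flip hz hz1 hD he heV
  have f2 := D.flip hy hy1 hD he heV
  have f3 := D.flip hs hs1 hD he heV
  have all : ∀ τ, (∃ e ∈ jj V cf, τ * e ∈ RR V cf z) → (∃ v ∈ V, τ * v ∈ RR V cf z) →
      (∃ v ∈ V, τ * v ∈ RR V cf y) → (∃ v ∈ V, τ * v ∈ RR V cf (z * y)) → τ ∈ V :=
    fun τ a b c d => D.claim1 a (D.cases3 b c d)
  have fin : τ * e ∈ V → τ ∈ jj V cf := by
    intro hV
    have := mul_mem (h.V_le_jj hV) (inv_mem he)
    rwa [mul_inv_cancel_right] at this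
  by_cases b1 : ∃ v ∈ V, τ * v ∈ RR V cf z <;> by_cases b2 : ∃ v ∈ V, τ * v ∈ RR V cf y <;>
    by_cases b3 : ∃ v ∈ V, τ * v ∈ RR V cf (z * y)
  · exact h.V_le_jj (all τ hD b1 b2 b3)
  · exact absurd (c3 τ hD b1 b2) b3
  · exact absurd (c2 τ hD b1 b3) b2
  · exact absurd b1 (f1.mp (c1 _ hDe (f2.mpr b2) (f3.mpr b3)))
  · exact absurd (c1 τ hD b2 b3) b1
  · exact absurd b2 (f2.mp (c2 _ hDe (f1.mpr b1) (f3.mpr b3)))
  · exact absurd b3 (f3.mp (c3 _ hDe (f1.mpr b1) (f2.mpr b2)))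
  · exact fin (all _ hDe (f1.mpr b1) (f2.mpr b2) (f3.mpr b3))

/-- `K_p ∩ K_q = I` for all pairs of points -/
theorem kk_inf' : ∀ p ∈ V, p ≠ 1 → ∀ q ∈ V, q ≠ 1 → q ≠ p → kk V cf p ⊓ kk V cf q = jj V cf := by
  intro p hp hp1 q hq hq1 hqp
  obtain ⟨T', D'⟩ := D.at hp hp1 hq hq1 hqp
  exact D'.kk_inf

/-- `K_z¹ = W_z` -/
theorem inK_iff {k : G} : InK V cf z k ↔ k ∈ ww V cf z := by
  have h := D.fam
  have hz := D.hz
  have hz1 := D.hz1
  constructor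
  · intro hk
    obtain ⟨w, hw, h1, h2⟩ := D.inK_dec hk
    have h3 : k * w ∈ jj V cf := by rw [← D.kk_inf]; exact mem_inf.mpr ⟨h1, h2⟩
    have := mul_mem (Fam.jj_le hz hz1 h3) (inv_mem hw)
    rwa [mul_inv_cancel_right] at this
  · intro hk
    exact ⟨h.ww_le_kk hz hz1 hk, fun o ho => h.cm_qq hz hz1 hk (h.OO_le_qq hz hz1 ho)⟩

/-- `|I| = 8` -/
theorem card_jj : Nat.card (jj V cf) = 8 := by
  have h := D.fam
  have hz := D.hz
  have hz1 := D.hz1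
  obtain ⟨e, he, heV⟩ := D.exists_jj
  have hee : e * e = 1 := h.sqz e (Fam.jj_le hz hz1 he)
  have h1 : V.relIndex (jj V cf) = 2 := by
    rw [relIndex, index_eq_two_iff]
    refine ⟨⟨e, he⟩, fun b => ?_⟩
    rw [mem_subgroupOf, mem_subgroupOf]
    by_cases hb : (b : G) ∈ V
    · right
      refine ⟨hb, fun hbe => heV ?_⟩
      have := mul_mem (inv_mem hb) hbe
      simpa using this
    · left
      exact ⟨D.jj_mul b.2 he hb heV, hb⟩
  have h2 := Cfsg.Agent.ZN.Block.card_mul_relIndex' (h.V_le_jj)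
  rw [h1, h.ln.card_V] at h2
  omega

end Dat

end Cfsg.Agent.Omega.NO3S.Fit

end
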