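import Cfsg.Agent.Mrg.Omega.NO3S.Fit.FourTwo
import Cfsg.Agent.Mrg.Omega.NO3S.Fit.AbsMain
import Cfsg.Agent.Mrg.Omega.CaseL.Base
import Cfsg.Agent.Mrg.Omega.NO3S.Fit.Char

section


/-!
# Text #13963 (helper311), section 4: the shape T9

`NineA ⟹ Shp ⟹ Dat`.
-/

set_option autoImplicit false
set_option linter.unusedSectionVars false

namespace Cfsg.Agent.Omega.NO3S.Fit

open Subgroup Cfsg Cfsg.Agent.ZN Cfsg.Agent.MinSimple.Geo Cfsg.Agent.Omega.CaseL
open Cfsg.Agent.Omega.NO3S.Fit.PlaneForm (cm cm_eq_one cm_inv)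
open Cfsg.Agent.Omega.NO3S.Fit.Abs (NineA)
open Cfsg.Agent.ZN.Block (conj_mem_of_normalizer conj_mem_of_normalizer' le_normalizer_of_forall
  mem_normalizer_of)

universe u

variable {G : Type u} [Group G]

section abs

variable {M H : Type*} [AddCommGroup M] [Group H] [DistribMulAction H M] {v0 : M} {a d1 d2 : H} {b1 b2 : M}

namespace Nine9

/-- the block of `d1` -/
def blkN (M : Type*) [AddCommGroup M] [DistribMulAction H M] (d1 d2 : H) : AddSubgroup M where
  carrier := {m | m + d1 • m + d1 • d1 • m = 0 ∧ d2 • m = m}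
  zero_mem' := by simp
  add_mem' := by
    rintro m n ⟨h1, h2⟩ ⟨h3, h4⟩
    refine ⟨?_, by rw [smul_add, h2, h4]⟩
    have e : m + n + d1 • (m + n) + d1 • d1 • (m + n) =
        (m + d1 • m + d1 • d1 • m) + (n + d1 • n + d1 • d1 • n) := by
      rw [smul_add, smul_add]; abel
    rw [e, h1, h3, add_zero]
  neg_mem' := by
    rintro m ⟨h1, h2⟩
    refine ⟨?_, by rw [smul_neg, h2]⟩
    have e : -m + d1 • (-m) + d1 • d1 • (-m) = -(m + d1 • m + d1 • d1 • m) := by
      rw [smul_neg, smul_neg]; abel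
    rw [e, h1, neg_zero]

theorem smul_mem_blkN (c1 : d1 ^ 3 = 1) (comm : d1 * d2 = d2 * d1) {m : M} (hm : m ∈ blkN M d1 d2) :
    d1 • m ∈ blkN M d1 d2 := by
  obtain ⟨h1, h2⟩ := hm
  refine ⟨?_, ?_⟩
  · have e : d1 • m + d1 • d1 • m + d1 • d1 • d1 • m = d1 • (m + d1 • m + d1 • d1 • m) := by
      rw [smul_add, smul_add]
    rw [e, h1, smul_zero]
  · rw [← mul_smul, ← comm, mul_smul, h2]

theorem pow_smul_mem_blkN (c1 : d1 ^ 3 = 1) (comm : d1 * d2 = d2 * d1) {m : M} (hm : m ∈ blkN M d1 d2) (i : ℕ) :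
    d1 ^ i • m ∈ blkN M d1 d2 := by
  induction i with
  | zero => simpa using hm
  | succ i ih =>
    rw [pow_succ', mul_smul]
    exact smul_mem_blkN c1 comm ih

theorem pow_smul_fix {g : H} {m : M} (h : g • m = m) (i : ℕ) : g ^ i • m = m := by
  induction i with
  | zero => simp
  | succ i ih => rw [pow_succ, mul_smul, h, ih]

variable (N : NineA v0 a d1 d2 b1 b2)
include N

theorem fd (two : ∀ m : M, m + m = 0) (span : AddSubgroup.closure (Set.range fun x : H => x • v0) = ⊤) {m : M}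
    (hm : (d1 * d2) • m = m) : m = 0 := by
  have hb1 : b1 ∈ blkN M d1 d2 := ⟨N.s1, N.f2⟩
  have hb2 : b2 ∈ blkN M d2 d1 := ⟨N.s2, N.f1⟩
  have key : ∀ m : M, ∃ m1 ∈ blkN M d1 d2, ∃ m2 ∈ blkN M d2 d1, m = m1 + m2 := by
    intro m
    have hm : m ∈ AddSubgroup.closure (Set.range fun x : H => x • v0) := by rw [span]; trivial
    induction hm using AddSubgroup.closure_induction with
    | mem m hm =>
      obtain ⟨x, rfl⟩ := hm
      obtain ⟨i, j, h0, h1, rfl⟩ := N.gen x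
      have e1 : d1 ^ i • d2 ^ j • b1 = d1 ^ i • b1 := by rw [pow_smul_fix N.f2]
      have e2 : d1 ^ i • d2 ^ j • b2 = d2 ^ j • b2 := by
        have hc : Commute (d1 ^ i) (d2 ^ j) := (show Commute d1 d2 from N.comm).pow_pow i j
        rw [← mul_smul, hc.eq, mul_smul, pow_smul_fix N.f1]
      refine ⟨_, pow_smul_mem_blkN N.c1 N.comm hb1 i, _, pow_smul_mem_blkN N.c2 N.comm.symm hb2 j, ?_⟩
      change (d1 ^ i * d2 ^ j * h0) • v0 = _
      rw [mul_smul, h1, mul_smul, N.vb, smul_add, smul_add, e1, e2]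
    | zero => exact ⟨0, zero_mem _, 0, zero_mem _, by simp⟩
    | add m n _ _ hm hn =>
      obtain ⟨m1, h1, m2, h2, rfl⟩ := hm
      obtain ⟨n1, h3, n2, h4, rfl⟩ := hn
      exact ⟨m1 + n1, add_mem h1 h3, m2 + n2, add_mem h2 h4, by abel⟩
    | neg m _ hm =>
      obtain ⟨m1, h1, m2, h2, rfl⟩ := hm
      exact ⟨-m1, neg_mem h1, -m2, neg_mem h2, by abel⟩
  have fix1 : ∀ m ∈ blkN M d1 d2, d1 • m = m → m = 0 := by
    intro m hm e
    have h1 := hm.1
    rw [e, e, two, zero_add] at h1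
    exact h1
  have fix2 : ∀ m ∈ blkN M d2 d1, d2 • m = m → m = 0 := by
    intro m hm e
    have h1 := hm.1
    rw [e, e, two, zero_add] at h1
    exact h1
  obtain ⟨m1, h1, m2, h2, rfl⟩ := key m
  have e1 : (d1 * d2) • (m1 + m2) = d1 • m1 + d2 • m2 := by
    rw [smul_add, mul_smul, h1.2]
    congr 1
    rw [N.comm, mul_smul, h2.2]
  rw [e1] at hm
  -- `u := d1 m1 + m1 = d2 m2 + m2`
  have e2 : d1 • m1 + m1 = d2 • m2 + m2 := by
    calc d1 • m1 + m1 = (d1 • m1 + d2 • m2) + (d2 • m2 + m1) := by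
          have : (d1 • m1 + d2 • m2) + (d2 • m2 + m1) = d1 • m1 + m1 + (d2 • m2 + d2 • m2) := by abel
          rw [this, two, add_zero]
      _ = (m1 + m2) + (d2 • m2 + m1) := by rw [hm]
      _ = d2 • m2 + m2 + (m1 + m1) := by abel
      _ = d2 • m2 + m2 := by rw [two, add_zero]
  have u1 : d1 • m1 + m1 ∈ blkN M d1 d2 := add_mem (smul_mem_blkN N.c1 N.comm h1) h1
  have u2 : d1 • m1 + m1 ∈ blkN M d2 d1 := by
    rw [e2]; exact add_mem (smul_mem_blkN N.c2 N.comm.symm h2) h2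
  have u0 : d1 • m1 + m1 = 0 := fix1 _ u1 u2.2
  have eqs : ∀ a b : M, a + b = 0 → a = b := by
    intro a b h
    calc a = a + (b + b) := by rw [two, add_zero]
      _ = (a + b) + b := by abel
      _ = b := by rw [h, zero_add]
  have g1 : m1 = 0 := fix1 _ h1 (eqs _ _ u0)
  have g2 : m2 = 0 := fix2 _ h2 (eqs _ _ (by rw [← e2]; exact u0))
  rw [g1, g2, add_zero]

/-- an element which fixes `v0` and commutes with `d1`, `d2` is trivial -/
theorem eq_one [FaithfulSMul H M] (span : AddSubgroup.closure (Set.range fun x : H => x • v0) = ⊤) {g : H}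
    (hg : g • v0 = v0) (h1 : g * d1 = d1 * g) (h2 : g * d2 = d2 * g) : g = 1 := by
  refine FaithfulSMul.eq_of_smul_eq_smul (α := M) fun m => ?_
  rw [one_smul]
  have hm : m ∈ AddSubgroup.closure (Set.range fun x : H => x • v0) := by rw [span]; trivial
  induction hm using AddSubgroup.closure_induction with
  | mem m hm =>
    obtain ⟨x, rfl⟩ := hm
    obtain ⟨i, j, h0, h3, rfl⟩ := N.gen x
    have hc : Commute g (d1 ^ i * d2 ^ j) :=
      ((show Commute g d1 from h1).pow_right i).mul_right ((show Commute g d2 from h2).pow_right j)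
    change g • (d1 ^ i * d2 ^ j * h0) • v0 = (d1 ^ i * d2 ^ j * h0) • v0
    rw [mul_smul _ h0, h3, ← mul_smul, hc.eq, mul_smul, hg]
  | zero => exact smul_zero _
  | add m n _ _ hm hn => rw [smul_add, hm, hn]
  | neg m _ hm => rw [smul_neg, hm]

theorem comm_of_inv {g d : H} (h : g * d * g⁻¹ = d ∨ g * d * g⁻¹ = d⁻¹) : (g * g) * d = d * (g * g) := by
  have h1 : g * g * d * (g * g)⁻¹ = d := by
    have e : g * g * d * (g * g)⁻¹ = g * (g * d * g⁻¹) * g⁻¹ := by group
    rw [e]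
    rcases h with e1 | e1
    · rw [e1, e1]
    · rw [e1]
      have e2 : g * d⁻¹ * g⁻¹ = (g * d * g⁻¹)⁻¹ := by group
      rw [e2, e1, inv_inv]
  exact mul_inv_eq_iff_eq_mul.mp h1

theorem two_pow [FaithfulSMul H M] (two : ∀ m : M, m + m = 0) (ne : v0 ≠ 0)
    (span : AddSubgroup.closure (Set.range fun x : H => x • v0) = ⊤) {h0 : H} (h : h0 • v0 = v0) :
    h0 ^ 2 ^ 2 = 1 := by
  have first : ∀ g : H, g • v0 = v0 → (g • b1 = b1) → g * g = 1 := by
    intro g hg hgb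
    rcases N.st g hg with ⟨-, -, c, d⟩ | ⟨c, -⟩
    · refine eq_one N span ?_ (comm_of_inv N c) (comm_of_inv N d)
      rw [mul_smul, hg, hg]
    · exfalso
      rw [hgb] at c
      apply ne
      rw [N.vb, c, two]
  have h2 : (h0 * h0) • v0 = v0 := by rw [mul_smul, h, h]
  have h3 : (h0 * h0) • b1 = b1 := by
    rw [mul_smul]
    rcases N.st h0 h with ⟨c, -⟩ | ⟨c, d, -⟩
    · rw [c, c]
    · rw [c, d]
  have h4 := first _ h2 h3
  have e : h0 ^ 2 ^ 2 = (h0 * h0) * (h0 * h0) := by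
    simp only [pow_succ, pow_zero, one_mul, Nat.reduceMul, mul_assoc]
  rw [e, h4]

end Nine9

end abs

section shp

variable {T V : Subgroup G} {z : G} {cf : G → Subgroup G} {M H : Type u} [AddCommGroup M] [Group H]
  [DistribMulAction H M] {R : MRep V cf z M H} {y a : G} {d1 d2 : H} {b1 b2 : M}

/-- **T9 has the common shape.** -/
theorem shp_of_nine [Finite G] [FaithfulSMul H M] (h : Fam T V z cf) (hk : Fam.One1 V cf) (hy : y ∈ V)
    (hy1 : y ≠ 1) (hyz : y ≠ z) (ha : a ∈ ww V cf y) (haQ : a ∉ qq V cf z)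
    (N : NineA (R.pi y) (R.phi a) d1 d2 b1 b2) : Shp R y (closure {d1, d2}) (d1 * d2) := by
  have hz := h.ln.z_mem
  have hz1 := h.ln.z_ne
  have two := R.two h
  have span := R.span h hy hy1 hyz
  have ne := R.v0_ne h hy hy1 hyz
  have hfin : Finite H := Finite.of_surjective R.hom (R.hom_surj (T := T) h)
  have hac := h.ww_le_cf' hy hy1 hz hz1 ha
  have hd1 : d1 ∈ closure ({d1, d2} : Set H) := subset_closure (by simp)
  have hd2 : d2 ∈ closure ({d1, d2} : Set H) := subset_closure (by simp)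
  have hcom : ∀ p ∈ closure ({d1, d2} : Set H), ∃ i j : ℕ, p = d1 ^ i * d2 ^ j := by
    have hinv : ∀ d : H, d ^ 3 = 1 → ∀ i : ℕ, (d ^ i)⁻¹ = d ^ (2 * i) := by
      intro d hd i
      refine inv_eq_of_mul_eq_one_right ?_
      rw [← pow_add, show i + 2 * i = 3 * i by ring, pow_mul, hd, one_pow]
    have hc : ∀ i j : ℕ, d1 ^ i * d2 ^ j = d2 ^ j * d1 ^ i := fun i j =>
      ((show Commute d1 d2 from N.comm).pow_pow i j).eq
    intro p hp
    induction hp using closure_induction with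
    | mem x hx =>
      rcases hx with rfl | hx
      · exact ⟨1, 0, by simp⟩
      · rw [Set.mem_singleton_iff] at hx
        exact ⟨0, 1, by simp [hx]⟩
    | one => exact ⟨0, 0, by simp⟩
    | mul x x' _ _ hx hx' =>
      obtain ⟨i, j, rfl⟩ := hx
      obtain ⟨i', j', rfl⟩ := hx'
      refine ⟨i + i', j + j', ?_⟩
      calc d1 ^ i * d2 ^ j * (d1 ^ i' * d2 ^ j') = d1 ^ i * (d2 ^ j * d1 ^ i') * d2 ^ j' := by group
        _ = d1 ^ i * (d1 ^ i' * d2 ^ j) * d2 ^ j' := by rw [hc i' j]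
        _ = d1 ^ (i + i') * d2 ^ (j + j') := by rw [pow_add, pow_add]; group
    | inv x _ hx =>
      obtain ⟨i, j, rfl⟩ := hx
      refine ⟨2 * i, 2 * j, ?_⟩
      rw [mul_inv_rev, hinv d2 N.c2, hinv d1 N.c1, hc]
  have habel : ∀ p ∈ closure ({d1, d2} : Set H), ∀ q ∈ closure ({d1, d2} : Set H), p * q = q * p := by
    intro p hp q hq
    obtain ⟨i, j, rfl⟩ := hcom p hp
    obtain ⟨i', j', rfl⟩ := hcom q hq
    have hd : Commute d1 d2 := N.comm
    have : Commute (d1 ^ i * d2 ^ j) (d1 ^ i' * d2 ^ j') := by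
      refine Commute.mul_right ?_ ?_
      · exact Commute.mul_left ((Commute.refl d1).pow_pow i i') (hd.symm.pow_pow j i')
      · exact Commute.mul_left (hd.pow_pow i j') ((Commute.refl d2).pow_pow j j')
    exact this.eq
  have hcube : ∀ p ∈ closure ({d1, d2} : Set H), p ^ 3 = 1 := by
    intro p hp
    obtain ⟨i, j, rfl⟩ := hcom p hp
    have hd : Commute (d1 ^ i) (d2 ^ j) := (show Commute d1 d2 from N.comm).pow_pow i j
    rw [hd.mul_pow, ← pow_mul, ← pow_mul, mul_comm i, mul_comm j, pow_mul, pow_mul, N.c1, N.c2, one_pow, one_pow,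
      one_mul]
  have hnor0 : ∀ h0 : H, h0 • R.pi y = R.pi y → ∀ p ∈ closure ({d1, d2} : Set H),
      h0 * p * h0⁻¹ ∈ closure ({d1, d2} : Set H) := by
    intro h0 hh p hp
    have h1 : h0 * d1 * h0⁻¹ ∈ closure ({d1, d2} : Set H) ∧ h0 * d2 * h0⁻¹ ∈ closure ({d1, d2} : Set H) := by
      rcases N.st h0 hh with ⟨-, -, c, d⟩ | ⟨-, -, c, d⟩
      · constructor
        · rcases c with e | e <;> rw [e]
          · exact hd1
          · exact inv_mem hd1
        · rcases d with e | e <;> rw [e]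
          · exact hd2
          · exact inv_mem hd2
      · constructor
        · rcases c with e | e <;> rw [e]
          · exact hd2
          · exact inv_mem hd2
        · rcases d with e | e <;> rw [e]
          · exact hd1
          · exact inv_mem hd1
    obtain ⟨i, j, rfl⟩ := hcom p hp
    have e : h0 * (d1 ^ i * d2 ^ j) * h0⁻¹ = (h0 * d1 * h0⁻¹) ^ i * (h0 * d2 * h0⁻¹) ^ j := by
      rw [conj_pow, conj_pow]; group
    rw [e]
    exact mul_mem (pow_mem h1.1 _) (pow_mem h1.2 _)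
  have hinvP : ∀ p ∈ closure ({d1, d2} : Set H), R.phi a * p * (R.phi a)⁻¹ = p⁻¹ := by
    intro p hp
    have hq1 : ∀ q ∈ closure ({d1, d2} : Set H), R.phi a * q * (R.phi a)⁻¹ = q⁻¹ := by
      intro q hq
      induction hq using closure_induction with
      | mem x hx =>
        rcases hx with rfl | hx
        · exact N.inv1
        · rw [Set.mem_singleton_iff] at hx
          rw [hx]; exact N.inv2
      | one => group
      | mul x x' hx0 hx0' hx hx' =>
        have e : R.phi a * (x * x') * (R.phi a)⁻¹ = (R.phi a * x * (R.phi a)⁻¹) * (R.phi a * x' * (R.phi a)⁻¹) := by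
          group
        rw [e, hx, hx', ← mul_inv_rev, habel x' hx0' x hx0]
      | inv x _ hx =>
        have e : R.phi a * x⁻¹ * (R.phi a)⁻¹ = (R.phi a * x * (R.phi a)⁻¹)⁻¹ := by group
        rw [e, hx]
    exact hq1 p hp
  refine
    { card := N.card, dP := mul_mem hd1 hd2, fd := fun m hm => Nine9.fd N two span hm, odd := ?_, nor := ?_
      inv := ?_, gen := ?_, two := fun h0 hh => ⟨2, Nine9.two_pow N two ne span hh⟩ }
  · have hfact : Fact (Nat.Prime 3) := ⟨Nat.prime_three⟩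
    have hp : IsPGroup 3 (closure ({d1, d2} : Set H)) := by
      rintro ⟨p, hp⟩
      refine ⟨1, Subtype.ext ?_⟩
      change p ^ 3 ^ 1 = 1
      rw [pow_one]
      exact hcube p hp
    obtain ⟨n, hn⟩ := IsPGroup.iff_card.mp hp
    rw [hn]
    exact Odd.pow (by decide)
  · intro x p hp
    obtain ⟨i, j, h0, h1, rfl⟩ := N.gen x
    have h2 := hnor0 h0 h1 p hp
    have h3 : d1 ^ i * d2 ^ j ∈ closure ({d1, d2} : Set H) := mul_mem (pow_mem hd1 _) (pow_mem hd2 _)
    have e : d1 ^ i * d2 ^ j * h0 * p * (d1 ^ i * d2 ^ j * h0)⁻¹ =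
        (d1 ^ i * d2 ^ j) * (h0 * p * h0⁻¹) * (d1 ^ i * d2 ^ j)⁻¹ := by group
    rw [e]
    exact mul_mem (mul_mem h3 h2) (inv_mem h3)
  · intro a' ha' haQ' p hp
    have hac' := h.ww_le_cf' hy hy1 hz hz1 ha'
    have h1 := hk y hy hy1 z hz hz1 (Ne.symm hyz) a' ha' a ha haQ' haQ
    have h2 : R.phi a' = R.phi a := by
      rw [R.phi_eq hac' hac, h.inv_ww hy hy1 ha]
      exact h1
    rw [h2]
    exact hinvP p hp
  · intro x
    obtain ⟨i, j, h0, h1, rfl⟩ := N.gen x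
    exact ⟨d1 ^ i * d2 ^ j, mul_mem (pow_mem hd1 _) (pow_mem hd2 _), h0, h1, rfl⟩

/-- **T9 gives `Dat`.** -/
theorem dat_of_nine [Finite G] [FaithfulSMul H M] (h : Fam T V z cf) (hk : Fam.One1 V cf) (hy : y ∈ V)
    (hy1 : y ≠ 1) (hyz : y ≠ z) (ha : a ∈ ww V cf y) (haQ : a ∉ qq V cf z)
    (N : NineA (R.pi y) (R.phi a) d1 d2 b1 b2) : Dat T V z cf y :=
  ⟨h, hy, hy1, hyz, M, H, _, _, _, ‹_›, R, _, _, shp_of_nine h hk hy hy1 hyz ha haQ N⟩

end shp

end Cfsg.Agent.Omega.NO3S.Fit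

end

section


/-!
# NO-3S, `q = 2`, `n = 1` (helper311's text #13963): (4.6), the group part

`Fam.nine_core` : `E = jj V cf`, `|E / V| = 2`, `u ∈ E - V`, `C_G(V)` a 2-group, `K_z ∩ K_y = E`, `N_G(E) ≤ N_G(V)`, an element
`f ∈ cf z ∩ C_G(u)` with `y y^f y^{f²} ∈ u⟨z⟩`, `[y^f, b] ∈ {uy, us}` for `b ∈ W_y - Q_z`, and `Q_z` separates the elements of
`W_z / ⟨z⟩`: this is impossible (`J = C_G(u)`, `R = O₂(J)`).
-/

set_option autoImplicit false
set_option linter.unusedSectionVars false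

namespace Cfsg.Agent.Omega.NO3S.Fit

open Subgroup Cfsg Cfsg.Agent.ZN Cfsg.Agent.MinSimple.Geo Cfsg.Agent.Omega.CaseL
open Cfsg.Agent.ZN.Block (conj_mem_of_normalizer conj_mem_of_normalizer' le_normalizer_of_forall
  mem_normalizer_of)
open scoped commutatorElement

universe u

variable {G : Type u} [Group G]

/-- the centralizer of an involution is 2-local -/
theorem isTwoLocal_cent {u : G} (hu2 : u * u = 1) (hu1 : u ≠ 1) : IsTwoLocal (centralizer ({u} : Set G)) := by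
  refine ⟨zpowers u, isPGroup_zpowers hu2, ?_, ?_⟩
  · rw [Ne, zpowers_eq_bot]; exact hu1
  · ext g
    rw [mem_centralizer_singleton_iff]
    constructor
    · intro hg
      refine centralizer_le_normalizer _ (mem_centralizer_iff.mpr fun x hx => ?_)
      obtain ⟨m, rfl⟩ := mem_zpowers_iff.mp hx
      exact ((show Commute g u from hg).zpow_right m).eq.symm
    · intro hg
      have h1 : g * u * g⁻¹ ∈ zpowers u := (mem_normalizer_iff.mp hg u).mp (mem_zpowers u)
      rcases (mem_zpowers_iff_of_mul_self hu2).mp h1 with e | e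
      · exact absurd (conj_eq_one_iff.mp e) hu1
      · exact comm_of_conj_eq e

/-- a solvable group generated by its derived group and a central element is generated by this element -/
theorem eq_zpowers_of_commutator {N : Subgroup G} (hs : Group.IsSolvable N) {u : G} (huN : u ∈ N)
    (hu : ∀ x ∈ N, x * u = u * x) (h : ∀ x ∈ N, ∃ d ∈ ⁅N, N⁆, ∃ c ∈ zpowers u, x = d * c) :
    ∀ x ∈ N, x ∈ zpowers u := by
  have hle : ⁅N, N⁆ ≤ ⁅⁅N, N⁆, ⁅N, N⁆⁆ := by
    rw [commutator_le]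
    intro a ha b hb
    obtain ⟨d, hd, c, hc, rfl⟩ := h a ha
    obtain ⟨d', hd', c', hc', rfl⟩ := h b hb
    have hNN : ⁅N, N⁆ ≤ N := by
      rw [commutator_le]
      intro a ha b hb
      rw [commutatorElement_def]
      exact mul_mem (mul_mem (mul_mem ha hb) (inv_mem ha)) (inv_mem hb)
    have hcen : ∀ c ∈ zpowers u, ∀ x ∈ N, Commute c x := by
      intro c hc x hx
      obtain ⟨m, rfl⟩ := mem_zpowers_iff.mp hc
      exact ((show Commute x u from hu x hx).zpow_right m).symm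
    have hcN : ∀ c ∈ zpowers u, c ∈ N := fun c hc => by
      obtain ⟨m, rfl⟩ := mem_zpowers_iff.mp hc
      exact zpow_mem huN m
    have e : ⁅d * c, d' * c'⁆ = ⁅d, d'⁆ := by
      have e1 := (hcen c hc _ (hNN hd')).eq
      have e2 := (hcen c hc _ (hcN c' hc')).eq
      have e3 := (hcen c' hc' _ (hNN hd)).eq
      have e4 := (hcen c' hc' _ (hNN hd')).eq
      rw [commutatorElement_def, commutatorElement_def, mul_inv_rev, mul_inv_rev]
      calc d * c * (d' * c') * (c⁻¹ * d⁻¹) * (c'⁻¹ * d'⁻¹)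
          = d * (c * d') * c' * c⁻¹ * d⁻¹ * c'⁻¹ * d'⁻¹ := by group
        _ = d * d' * (c * c') * c⁻¹ * d⁻¹ * c'⁻¹ * d'⁻¹ := by rw [e1]; group
        _ = d * d' * c' * (c * c⁻¹) * d⁻¹ * c'⁻¹ * d'⁻¹ := by rw [e2]; group
        _ = d * d' * (c' * d⁻¹) * c'⁻¹ * d'⁻¹ := by group
        _ = d * d' * (d⁻¹ * c') * c'⁻¹ * d'⁻¹ := by
            rw [((hcen c' hc' _ (hNN hd)).inv_right).eq]
        _ = d * d' * d⁻¹ * d'⁻¹ := by group
    rw [e]
    exact commutator_mem_commutator hd hd'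
  -- `⁅N, N⁆ = ⊥`
  have hNN : ⁅N, N⁆ ≤ N := by
    rw [commutator_le]
    intro a ha b hb
    rw [commutatorElement_def]
    exact mul_mem (mul_mem (mul_mem ha hb) (inv_mem ha)) (inv_mem hb)
  have hbot : ⁅N, N⁆ = ⊥ := by
    by_contra hne
    set D := (⁅N, N⁆).subgroupOf N with hD
    have hmap : D.map N.subtype = ⁅N, N⁆ := by rw [hD, map_subgroupOf_eq_of_le hNN]
    have hD1 : D ≠ ⊥ := by
      intro e
      rw [e, Subgroup.map_bot] at hmap
      exact hne hmap.symm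
    have hlt := Group.IsSolvable.commutator_lt_of_ne_bot hD1
    have h2 : D ≤ ⁅D, D⁆ := by
      have h3 : D.map N.subtype ≤ (⁅D, D⁆).map N.subtype := by
        rw [map_commutator, hmap]; exact hle
      exact (map_le_map_iff_of_injective N.subtype_injective).mp h3
    exact absurd h2 (not_le_of_gt hlt)
  intro x hx
  obtain ⟨d, hd, c, hc, rfl⟩ := h x hx
  rw [hbot, mem_bot] at hd
  rw [hd, one_mul]; exact hc

namespace Fam

variable {T V : Subgroup G} {z : G} {cf : G → Subgroup G}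

/-- an element of `N_G(V)` can be corrected by `C_G(V)` to centralize `u ∈ I - V`, `|I / V| = 2` -/
theorem exists_adj [Finite G] (h : Fam T V z cf) {u : G} (hu : u ∈ jj V cf) (huV : u ∉ V)
    (hjj : ∀ e ∈ jj V cf, e ∈ V ∨ e * u⁻¹ ∈ V) {g : G} (hg : g ∈ normalizer (V : Set G)) :
    ∃ c ∈ centralizer (V : Set G), c * g ∈ centralizer ({u} : Set G) := by
  have h1 : g * u * g⁻¹ ∈ jj V cf := conj_mem_of_normalizer h.normalizer_le_normalizer_jj hg hu
  have h2 : g * u * g⁻¹ * u⁻¹ ∈ V := by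
    rcases hjj _ h1 with e | e
    · exfalso
      apply huV
      have := h.conj_pt' hg e
      have e' : g⁻¹ * (g * u * g⁻¹) * g = u := by group
      rwa [e'] at this
    · exact e
  obtain ⟨c, hc, hcu⟩ := h.four_of (le_refl (jj V cf)) h.normalizer_le_normalizer_jj hu huV hjj h2
  refine ⟨c, hc, ?_⟩
  rw [mem_centralizer_singleton_iff]
  refine comm_of_conj_eq ?_
  set v := g * u * g⁻¹ * u⁻¹ with hv
  have e1 : g * u * g⁻¹ = v * u := by rw [hv]; group
  calc c * g * u * (c * g)⁻¹ = c * (g * u * g⁻¹) * c⁻¹ := by group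
    _ = (c * v * c⁻¹) * (c * u * c⁻¹) := by rw [e1]; group
    _ = v * (v * u) := by rw [conj_eq_of_comm (h.V_comm h2 hc).symm, hcu]
    _ = u := by rw [← mul_assoc, h.ln.sq v h2, one_mul]

/-- **(4.6), the group part** -/
theorem nine_core [Finite G] (h : Fam T V z cf) {y : G} (hy : y ∈ V) (hy1 : y ≠ 1) (hyz : y ≠ z) {u f : G}
    (hu : u ∈ jj V cf) (huV : u ∉ V) (hjj : ∀ e ∈ jj V cf, e ∈ V ∨ e * u⁻¹ ∈ V) (hf : f ∈ cf z)
    (hfu : f * u = u * f)
    (hprod : y * (f * y * f⁻¹) * (f * (f * y * f⁻¹) * f⁻¹) = u ∨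
      y * (f * y * f⁻¹) * (f * (f * y * f⁻¹) * f⁻¹) = z * u)
    (hP1 : ∀ b ∈ ww V cf y, b ∉ qq V cf z → (f * y * f⁻¹) * b * (f * y * f⁻¹)⁻¹ * b⁻¹ = y * u ∨
      (f * y * f⁻¹) * b * (f * y * f⁻¹)⁻¹ * b⁻¹ = z * (y * u))
    (hP2 : f * y * f⁻¹ ∉ qq V cf y)
    (hdual : ∀ w ∈ ww V cf z, w = 1 ∨ w = z ∨ w = u ∨ w = z * u ∨
      ∃ q ∈ qq V cf z, q * u = u * q ∧ q * w * q⁻¹ = z * w)
    (hCV : IsPGroup 2 (centralizer (V : Set G))) (hKK : kk V cf z ⊓ kk V cf y ≤ jj V cf)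
    (h36 : ∀ g ∈ normalizer ((jj V cf : Subgroup G) : Set G), g ∈ normalizer (V : Set G)) : False := by
  classical
  have hfact : Fact (Nat.Prime 2) := ⟨Nat.prime_two⟩
  have hz := h.ln.z_mem
  have hz1 := h.ln.z_ne
  have hzy := Ne.symm hyz
  set J := centralizer ({u} : Set G) with hJ
  have hJm : ∀ {g : G}, g ∈ J ↔ g * u = u * g := mem_centralizer_singleton_iff
  have huz := Fam.jj_le (cf := cf) hz hz1 hu
  have huu : u * u = 1 := h.sq hz hz1 u huz
  have hu1 : u ≠ 1 := fun e => huV (by rw [e]; exact one_mem _)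
  have huJ : u ∈ J := hJm.mpr rfl
  set Jl := J ⊓ normalizer (V : Set G) with hJl
  set Tu := Jl ⊓ centralizer ({z} : Set G) with hTu
  set R := o2 J with hR
  have hRJ : R ≤ J := ZN.o2_le J
  have hR2 : IsPGroup 2 R := ZN.isPGroup_o2 J
  have hRn : J ≤ normalizer (R : Set G) := ZN.le_normalizer_o2 J
  have hRconj : ∀ {g r : G}, g ∈ J → r ∈ R → g * r * g⁻¹ ∈ R := fun hg hr => conj_mem_of_normalizer hRn hg hr
  have hRconj' : ∀ {g r : G}, g ∈ J → r ∈ R → g⁻¹ * r * g ∈ R := fun hg hr => conj_mem_of_normalizer' hRn hg hr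
  -- transitivity of `Jl`
  have htrans : ∀ {p q p' q' : G}, p ∈ V → p ≠ 1 → q ∈ V → q ≠ 1 → q ≠ p → p' ∈ V → p' ≠ 1 → q' ∈ V → q' ≠ 1 →
      q' ≠ p' → ∃ g ∈ Jl, g * p * g⁻¹ = p' ∧ g * q * g⁻¹ = q' := by
    intro p q p' q' hp hp1 hq hq1 hqp hp' hp1' hq' hq1' hqp'
    obtain ⟨g, hg, e1, e2⟩ := h.trans2 hp hp1 hq hq1 hqp hp' hp1' hq' hq1' hqp'
    obtain ⟨c, hc, hcg⟩ := h.exists_adj hu huV hjj hg
    refine ⟨c * g, mem_inf.mpr ⟨hcg, mul_mem (centralizer_le_normalizer _ hc) hg⟩, ?_, ?_⟩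
    · calc c * g * p * (c * g)⁻¹ = c * (g * p * g⁻¹) * c⁻¹ := by group
        _ = p' := by rw [e1, conj_eq_of_comm (h.V_comm hp' hc).symm]
    · calc c * g * q * (c * g)⁻¹ = c * (g * q * g⁻¹) * c⁻¹ := by group
        _ = q' := by rw [e2, conj_eq_of_comm (h.V_comm hq' hc).symm]
  have htrans1 : ∀ {p p' : G}, p ∈ V → p ≠ 1 → p' ∈ V → p' ≠ 1 → ∃ g ∈ Jl, g * p * g⁻¹ = p' := by
    intro p p' hp hp1 hp' hp1'
    obtain ⟨q, hq, hq1, hqp⟩ := h.exists_q hp hp1
    obtain ⟨q', hq', hq1', hqp'⟩ := h.exists_q hp' hp1'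
    obtain ⟨g, hg, e, -⟩ := htrans hp hp1 hq hq1 hqp hp' hp1' hq' hq1' hqp'
    exact ⟨g, hg, e⟩
  -- a 2-subgroup normal in `Jl` centralizes `V`
  have hnorm2 : ∀ D : Subgroup G, D ≤ Jl → IsPGroup 2 D → (∀ g ∈ Jl, ∀ d ∈ D, g * d * g⁻¹ ∈ D) →
      D ≤ centralizer (V : Set G) := by
    intro D hD hD2 hDn
    obtain ⟨c, hc, hcT⟩ := exists_cj_le_of_sylow h.ln.T_norm h.ln.two h.ln.T_syl' (hD.trans inf_le_right) hD2
    have hp : c⁻¹ * z * c ∈ V := h.conj_pt' hc hz
    have hp1 : c⁻¹ * z * c ≠ 1 := conj_ne' hz1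
    have h1 : ∀ d ∈ D, d * (c⁻¹ * z * c) = (c⁻¹ * z * c) * d := by
      intro d hd
      have h2 : c * d * c⁻¹ ∈ T := hcT (conj_mem_cj hd)
      have h3 := h.ln.z_comm (h.ln.T_le h2)
      calc d * (c⁻¹ * z * c) = c⁻¹ * ((c * d * c⁻¹) * z) * c := by group
        _ = c⁻¹ * (z * (c * d * c⁻¹)) * c := by rw [h3]
        _ = (c⁻¹ * z * c) * d := by group
    intro d hd
    rw [mem_centralizer_iff]
    intro v hv
    by_cases hv1 : v = 1
    · rw [hv1]; simp
    obtain ⟨g, hg, e⟩ := htrans1 hp hp1 hv hv1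
    have h2 : g⁻¹ * d * g ∈ D := by
      have := hDn g⁻¹ (inv_mem hg) d hd
      rwa [inv_inv] at this
    have h3 := h1 _ h2
    calc v * d = g * ((c⁻¹ * z * c) * (g⁻¹ * d * g)) * g⁻¹ := by rw [← e]; group
      _ = g * ((g⁻¹ * d * g) * (c⁻¹ * z * c)) * g⁻¹ := by rw [h3]
      _ = d * (g * (c⁻¹ * z * c) * g⁻¹) := by group
      _ = d * v := by rw [e]
  -- `Tu` is a 2-group
  have hTuz : ∀ {t : G}, t ∈ Tu → t * z = z * t := fun ht => mem_centralizer_singleton_iff.mp ht.2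
  have hTu2 : IsPGroup 2 Tu := by
    rintro ⟨t, ht⟩
    have htt : t * t ∈ centralizer (V : Set G) := by
      by_cases htV : t ∈ centralizer (V : Set G)
      · exact mul_mem htV htV
      · have hi : t⁻¹ ∉ centralizer (V : Set G) := fun e => htV (by simpa using inv_mem e)
        have := h.coset_of hz hz1 (inv_mem ht.1.2) (inv_comm_of (hTuz ht)) hi ht.1.2 (hTuz ht) htV
        rwa [inv_inv] at this
    obtain ⟨k, hk⟩ := hCV ⟨t * t, htt⟩
    refine ⟨k + 1, Subtype.ext ?_⟩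
    have hk' : (t * t) ^ 2 ^ k = 1 := congrArg Subtype.val hk
    change t ^ 2 ^ (k + 1) = 1
    rw [pow_succ', pow_mul, pow_two, hk']
  have hWTu : ∀ p ∈ V, p ≠ 1 → ww V cf p ≤ Tu := by
    intro p hp hp1 w hw
    have hwV := h.ww_le_cent hp hp1 hw
    refine mem_inf.mpr ⟨mem_inf.mpr ⟨hJm.mpr ?_, centralizer_le_normalizer _ hwV⟩, h.cent_le_cs hz hwV⟩
    exact h.comm hp hp1 w hw u (Fam.jj_le hp hp1 hu)
  have hjTu : jj V cf ≤ Tu := (Fam.jj_le hz hz1).trans (hWTu z hz hz1)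
  -- `[E, Tu] ≤ ⟨z⟩`
  have hE : ∀ e ∈ jj V cf, ∀ t ∈ Tu, t * e * t⁻¹ = e ∨ t * e * t⁻¹ = z * e := by
    intro e he t ht
    have htu : t * u * t⁻¹ = u := conj_eq_of_comm (hJm.mp ht.1.1)
    have hV : ∀ v ∈ V, t * v * t⁻¹ = v ∨ t * v * t⁻¹ = z * v := by
      intro v hv
      by_cases hv1 : v = 1
      · left; rw [hv1]; group
      exact h.ln.conj_cases hz hv hz1 (hTuz ht) ht.1.2
    rcases hjj e he with h1 | h1
    · exact hV e h1
    · have e1 : e = (e * u⁻¹) * u := by group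
      have e2 : t * e * t⁻¹ = (t * (e * u⁻¹) * t⁻¹) * u := by
        conv_lhs => rw [e1]
        calc t * ((e * u⁻¹) * u) * t⁻¹ = (t * (e * u⁻¹) * t⁻¹) * (t * u * t⁻¹) := by group
          _ = _ := by rw [htu]
      rcases hV _ h1 with e3 | e3
      · left; rw [e2, e3]; group
      · right; rw [e2, e3]; group
  -- (a) `V ∩ R = 1`
  have hVR : ∀ p ∈ V, p ∈ R → p = 1 := by
    intro p hp hpR
    by_contra hp1
    have hVR : V ≤ R := by
      intro v hv
      by_cases hv1 : v = 1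
      · rw [hv1]; exact one_mem _
      obtain ⟨g, hg, rfl⟩ := htrans1 hp hp1 hv hv1
      exact hRconj hg.1 hpR
    set N := wf V J with hN
    have hNR : N ≤ R := wf_le fun c hc x hx => by
      rw [mem_cj] at hx
      have := hRconj hc (hVR hx)
      have e : c * (c⁻¹ * x * c) * c⁻¹ = x := by group
      rwa [e] at this
    have hVN : V ≤ N := V_le_wf V J
    have hNconj : ∀ {g n : G}, g ∈ J → n ∈ N → g * n * g⁻¹ ∈ N := fun hg hn => conj_mem_wf hg hn
    have hN2 : IsPGroup 2 N := hR2.to_le hNR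
    have hfJ : f ∈ J := hJm.mpr hfu
    have hy2N : f * y * f⁻¹ ∈ N := hNconj hfJ (hVN hy)
    have hy3N : f * (f * y * f⁻¹) * f⁻¹ ∈ N := hNconj hfJ hy2N
    have huN : u ∈ N := by
      have h1 := mul_mem (mul_mem (hVN hy) hy2N) hy3N
      rcases hprod with e | e
      · rwa [e] at h1
      · rw [e] at h1
        have h2 := mul_mem (hVN hz) h1
        rwa [← mul_assoc, h.ln.zz, one_mul] at h2
    -- the commutator `[y2, y2^g] = u s`
    obtain ⟨g, hg, e1, e2⟩ := htrans hz hz1 hy hy1 hyz hy hy1 hz hz1 hzy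
    have hgu : g * u * g⁻¹ = u := conj_eq_of_comm (hJm.mp hg.1)
    have hgu' : g⁻¹ * u * g = u := by
      calc g⁻¹ * u * g = g⁻¹ * (g * u * g⁻¹) * g := by rw [hgu]
        _ = u := by group
    set y2 := f * y * f⁻¹ with hy2
    have hy2W : y2 ∈ ww V cf z := conj_mem_wf hf (h.V_le hy)
    have hy2' : g * y2 * g⁻¹ ∈ ww V cf y := by
      have := h.conj_ww hg.2 hz hz1 hy2W
      rwa [e1] at this
    have hnq : g * y2 * g⁻¹ ∉ qq V cf z := by
      intro e
      apply hP2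
      have h3 := h.conj_qq (inv_mem hg.2) hz hz1 e
      have e3 : g⁻¹ * z * g⁻¹⁻¹ = y := by rw [← e2]; group
      have e4 : g⁻¹ * (g * y2 * g⁻¹) * g⁻¹⁻¹ = y2 := by group
      rwa [e3, e4] at h3
    have hc1 := hP1 _ hy2' hnq
    -- the same with `g⁻¹ y2 g`
    have hy2'' : g⁻¹ * y2 * g ∈ ww V cf y := by
      have := h.conj_ww (inv_mem hg.2) hz hz1 hy2W
      have e3 : g⁻¹ * z * g⁻¹⁻¹ = y := by rw [← e2]; group
      rwa [e3, inv_inv] at this
    have hnq' : g⁻¹ * y2 * g ∉ qq V cf z := by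
      intro e
      apply hP2
      have h3 := h.conj_qq hg.2 hz hz1 e
      have e4 : g * (g⁻¹ * y2 * g) * g⁻¹ = y2 := by group
      rwa [e1, e4] at h3
    have hc2 := hP1 _ hy2'' hnq'
    -- conjugate by `g`
    have hgy : g * (y * u) * g⁻¹ = z * u := by
      calc g * (y * u) * g⁻¹ = (g * y * g⁻¹) * (g * u * g⁻¹) := by group
        _ = z * u := by rw [e2, hgu]
    have hgzy : g * (z * (y * u)) * g⁻¹ = y * (z * u) := by
      calc g * (z * (y * u)) * g⁻¹ = (g * z * g⁻¹) * (g * (y * u) * g⁻¹) := by group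
        _ = y * (z * u) := by rw [e1, hgy]
    have hc3 : (g * y2 * g⁻¹) * y2 * (g * y2 * g⁻¹)⁻¹ * y2⁻¹ = z * u ∨
        (g * y2 * g⁻¹) * y2 * (g * y2 * g⁻¹)⁻¹ * y2⁻¹ = y * (z * u) := by
      have e5 : (g * y2 * g⁻¹) * y2 * (g * y2 * g⁻¹)⁻¹ * y2⁻¹ =
          g * (y2 * (g⁻¹ * y2 * g) * y2⁻¹ * (g⁻¹ * y2 * g)⁻¹) * g⁻¹ := by group
      rcases hc2 with e | e
      · left; rw [e5, e, hgy]
      · right; rw [e5, e, hgzy]
    have hinv : (g * y2 * g⁻¹) * y2 * (g * y2 * g⁻¹)⁻¹ * y2⁻¹ =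
        (y2 * (g * y2 * g⁻¹) * y2⁻¹ * (g * y2 * g⁻¹)⁻¹)⁻¹ := by group
    have hVu : ∀ v ∈ V, v * u = u * v := fun v hv => h.comm hz hz1 v (h.V_le hv) u huz
    have hsqv : ∀ v ∈ V, (v * u)⁻¹ = v * u := by
      intro v hv
      rw [mul_inv_rev, inv_eq_self huu, h.ln.inv_eq hv, hVu v hv]
    have hs : y2 * (g * y2 * g⁻¹) * y2⁻¹ * (g * y2 * g⁻¹)⁻¹ = z * (y * u) := by
      rcases hc1 with e | e
      · exfalso
        rw [hinv, e, hsqv y hy] at hc3
        rcases hc3 with e' | e'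
        · exact hyz (mul_right_cancel e')
        · have : u = z * u := by
            have := mul_left_cancel (a := y) (b := u) (c := z * u) e'
            exact this
          exact hz1 (by simpa using this.symm)
      · exact e
    -- `S = ⁅N, N⁆ ⟨u⟩`
    have hNJ : N ≤ J := hNR.trans hRJ
    have hNN : ⁅N, N⁆ ≤ N := by
      rw [commutator_le]
      intro a ha b hb
      rw [commutatorElement_def]
      exact mul_mem (mul_mem (mul_mem ha hb) (inv_mem ha)) (inv_mem hb)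
    have hcen : ∀ c ∈ zpowers u, ∀ d ∈ N, c * d = d * c := by
      intro c hc d hd
      obtain ⟨m, rfl⟩ := mem_zpowers_iff.mp hc
      exact ((show Commute d u from hJm.mp (hNJ hd)).zpow_right m).eq.symm
    let S : Subgroup G :=
      { carrier := {x | ∃ d ∈ ⁅N, N⁆, ∃ c ∈ zpowers u, x = d * c}
        mul_mem' := by
          rintro _ _ ⟨d, hd, c, hc, rfl⟩ ⟨d', hd', c', hc', rfl⟩
          refine ⟨d * d', mul_mem hd hd', c * c', mul_mem hc hc', ?_⟩
          calc d * c * (d' * c') = d * (c * d') * c' := by group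
            _ = d * d' * (c * c') := by rw [hcen c hc d' (hNN hd')]; group
        one_mem' := ⟨1, one_mem _, 1, one_mem _, by rw [one_mul]⟩
        inv_mem' := by
          rintro _ ⟨d, hd, c, hc, rfl⟩
          refine ⟨d⁻¹, inv_mem hd, c⁻¹, inv_mem hc, ?_⟩
          rw [mul_inv_rev, hcen _ (inv_mem hc) _ (inv_mem (hNN hd))] }
    have hNS' : ⁅N, N⁆ ≤ S := fun x hx => ⟨x, hx, 1, one_mem _, by rw [mul_one]⟩
    have huS : zpowers u ≤ S := fun x hx => ⟨1, one_mem _, x, hx, by rw [one_mul]⟩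
    have hcomS : z * (y * u) ∈ ⁅N, N⁆ := by
      rw [← hs]
      have := commutator_mem_commutator hy2N (hNconj hg.1 hy2N)
      rwa [commutatorElement_def] at this
    have hsS : z * y ∈ S := by
      have h1 : z * (y * u) * u ∈ S := mul_mem (hNS' hcomS) (huS (mem_zpowers u))
      have e : z * (y * u) * u = z * y := by
        calc z * (y * u) * u = z * y * (u * u) := by group
          _ = z * y := by rw [huu, mul_one]
      rwa [e] at h1
    have hSn : ∀ {g x : G}, g ∈ J → x ∈ S → g * x * g⁻¹ ∈ S := by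
      rintro g _ hg ⟨d, hd, c, hc, rfl⟩
      have hle : ⁅N, N⁆ ≤ cj g⁻¹ ⁅N, N⁆ := by
        rw [commutator_le]
        intro a ha b hb
        rw [mem_cj, inv_inv]
        have e : g * ⁅a, b⁆ * g⁻¹ = ⁅g * a * g⁻¹, g * b * g⁻¹⁆ := by
          rw [commutatorElement_def, commutatorElement_def]; group
        rw [e]
        exact commutator_mem_commutator (hNconj hg ha) (hNconj hg hb)
      have h1 := mem_cj.mp (hle hd)
      rw [inv_inv] at h1
      refine ⟨_, h1, c, hc, ?_⟩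
      have h2 : g * c * g⁻¹ = c := by
        obtain ⟨m, rfl⟩ := mem_zpowers_iff.mp hc
        exact conj_eq_of_comm ((show Commute g u from hJm.mp hg).zpow_right m).eq
      calc g * (d * c) * g⁻¹ = (g * d * g⁻¹) * (g * c * g⁻¹) := by group
        _ = _ := by rw [h2]
    have hsV : z * y ∈ V := mul_mem hz hy
    have hs1 : z * y ≠ 1 := h.mul_ne_one hy hzy
    have hVS : V ≤ S := by
      intro v hv
      by_cases hv1 : v = 1
      · rw [hv1]; exact one_mem _
      obtain ⟨g, hg, rfl⟩ := htrans1 hsV hs1 hv hv1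
      exact hSn hg.1 hsS
    have hNS : N ≤ S := wf_le fun c hc x hx => by
      rw [mem_cj] at hx
      have := hSn hc (hVS hx)
      have e : c * (c⁻¹ * x * c) * c⁻¹ = x := by group
      rwa [e] at this
    have hsol : Group.IsSolvable N := by
      have : Group.IsNilpotent N := hN2.isNilpotent
      infer_instance
    have hall := eq_zpowers_of_commutator hsol huN (fun x hx => hJm.mp (hNJ hx)) (fun x hx => hNS hx)
    rcases (mem_zpowers_iff_of_mul_self huu).mp (hall z (hVN hz)) with e | e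
    · exact hz1 e
    · exact huV (by rw [← e]; exact hz)
  have hVR' : ∀ p ∈ V, p ≠ 1 → p ∉ R := fun p hp hp1 e => hp1 (hVR p hp e)
  -- `u ∈ R`, `C_J(R) ≤ R`
  have huR : u ∈ R := by
    have h1 : zpowers u ≤ o2 J := by
      refine ZN.le_o2 ?_ (isPGroup_zpowers huu) ?_
      · rw [zpowers_le]; exact huJ
      · refine le_normalizer_of_forall fun g hg x hx => ?_
        obtain ⟨m, rfl⟩ := mem_zpowers_iff.mp hx
        rw [conj_eq_of_comm ((show Commute g u from hJm.mp hg).zpow_right m).eq]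
        exact hx
    exact h1 (mem_zpowers u)
  have hCJR : ∀ x ∈ J, (∀ r ∈ R, r * x = x * r) → x ∈ R := by
    intro x hx hxR
    exact inf_centralizer_o2_le h.ln.charTwo (isTwoLocal_cent huu hu1) ⟨hx, mem_centralizer_iff.mpr hxR⟩
  -- `R ∩ Jl ≤ C_G(V)`
  have hR0 : R ⊓ Jl ≤ centralizer (V : Set G) := by
    refine hnorm2 (R ⊓ Jl) inf_le_right (hR2.to_le inf_le_left) fun g hg d hd => ?_
    exact mem_inf.mpr ⟨hRconj hg.1 hd.1, mul_mem (mul_mem hg hd.2) (inv_mem hg)⟩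
  have hVJ : V ≤ J := fun v hv => hJm.mpr (h.comm hz hz1 v (h.V_le hv) u huz)
  have hRnot : ¬ R ≤ Jl := by
    intro hle
    refine hVR' z hz hz1 (hCJR z (hVJ hz) fun r hr => ?_)
    exact (h.V_comm hz (hR0 ⟨hr, hle hr⟩)).symm
  -- `t ∈ N_R(Tu) - Tu`
  obtain ⟨t, htR, htn, htT⟩ : ∃ t ∈ R, t ∈ normalizer (Tu : Set G) ∧ t ∉ Tu := by
    have hTuJ : Tu ≤ J := inf_le_left.trans inf_le_left
    have hP : IsPGroup 2 ↥(R ⊔ Tu) := hR2.to_sup_of_normal_left' hTu2 (hTuJ.trans hRn)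
    have hlt : Tu.subgroupOf (R ⊔ Tu) < ⊤ := by
      refine lt_of_le_of_ne le_top fun e => hRnot ?_
      have := subgroupOf_eq_top.mp e
      exact (le_sup_left.trans this).trans inf_le_left
    have : Group.IsNilpotent ↥(R ⊔ Tu) := hP.isNilpotent
    have h1 := Group.normalizerCondition_of_isNilpotent (G := ↥(R ⊔ Tu)) _ hlt
    obtain ⟨x, hx, hxT⟩ := SetLike.exists_of_lt h1
    have hTle : Tu ≤ R ⊔ Tu := le_sup_right
    have hxn : (x : G) ∈ normalizer (Tu : Set G) := by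
      rw [mem_normalizer_iff] at hx ⊢
      intro t
      constructor
      · intro ht
        have := (hx ⟨t, hTle ht⟩).mp (mem_subgroupOf.mpr ht)
        exact mem_subgroupOf.mp this
      · intro ht
        have h2 : (x : G) * t * (x : G)⁻¹ ∈ R ⊔ Tu := hTle ht
        have h3 : t ∈ R ⊔ Tu := by
          have := mul_mem (mul_mem (inv_mem x.2) h2) x.2
          have e : (x : G)⁻¹ * (x * t * (x : G)⁻¹) * x = t := by group
          rwa [e] at this
        have := (hx ⟨t, h3⟩).mpr (mem_subgroupOf.mpr ht)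
        exact mem_subgroupOf.mp this
    -- `x = r τ`
    obtain ⟨r, hr, τ, hτ, e⟩ : ∃ r ∈ R, ∃ τ ∈ Tu, (x : G) = r * τ := by
      let Q : Subgroup G :=
        { carrier := {g | ∃ r ∈ R, ∃ τ ∈ Tu, g = r * τ}
          mul_mem' := by
            rintro _ _ ⟨r, hr, τ, hτ, rfl⟩ ⟨r', hr', τ', hτ', rfl⟩
            refine ⟨r * (τ * r' * τ⁻¹), mul_mem hr (hRconj (hTuJ hτ) hr'), τ * τ', mul_mem hτ hτ', by group⟩
          one_mem' := ⟨1, one_mem _, 1, one_mem _, by rw [one_mul]⟩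
          inv_mem' := by
            rintro _ ⟨r, hr, τ, hτ, rfl⟩
            refine ⟨τ⁻¹ * r⁻¹ * τ, hRconj' (hTuJ hτ) (inv_mem hr), τ⁻¹, inv_mem hτ, by group⟩ }
      have hQ : R ⊔ Tu ≤ Q := sup_le (fun r hr => ⟨r, hr, 1, one_mem _, by rw [mul_one]⟩)
        (fun τ hτ => ⟨1, one_mem _, τ, hτ, by rw [one_mul]⟩)
      exact hQ x.2
    refine ⟨r, hr, ?_, ?_⟩
    · have e1 : r = x * τ⁻¹ := by rw [e]; group
      rw [e1]
      exact mul_mem hxn (inv_mem (le_normalizer hτ))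
    · intro hrT
      apply hxT
      rw [mem_subgroupOf, e]
      exact mul_mem hrT hτ
  have htJ : t ∈ J := hRJ htR
  -- (b)
  have hbz : ∀ w ∈ ww V cf z, w ∈ R → w = 1 ∨ w = u := by
    intro w hw hwR
    rcases hdual w hw with e | e | e | e | ⟨q, hq, hqu, e⟩
    · exact Or.inl e
    · exact absurd (by rw [← e]; exact hwR) (hVR' z hz hz1)
    · exact Or.inr e
    · exfalso
      apply hVR' z hz hz1
      have h1 := mul_mem hwR huR
      rw [e] at h1
      have e2 : z * u * u = z := by rw [mul_assoc, huu, mul_one]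
      rwa [e2] at h1
    · exfalso
      apply hVR' z hz hz1
      have h1 := mul_mem (hRconj (hJm.mpr hqu) hwR) (inv_mem hwR)
      rw [e] at h1
      have e2 : z * w * w⁻¹ = z := by group
      rwa [e2] at h1
  have hb : ∀ p ∈ V, p ≠ 1 → ∀ w ∈ ww V cf p, w ∈ R → w = 1 ∨ w = u := by
    intro p hp hp1 w hw hwR
    obtain ⟨g, hg, e⟩ := htrans1 hp hp1 hz hz1
    have h1 := h.conj_ww hg.2 hp hp1 hw
    rw [e] at h1
    rcases hbz _ h1 (hRconj hg.1 hwR) with e1 | e1
    · exact Or.inl (conj_eq_one_iff.mp e1)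
    · right
      have h2 : g * u * g⁻¹ = u := conj_eq_of_comm (hJm.mp hg.1)
      rw [← h2] at e1
      have := mul_right_cancel e1
      exact mul_left_cancel this
  -- (c)
  have hWJ : ∀ p ∈ V, p ≠ 1 → ww V cf p ≤ J := fun p hp hp1 => (hWTu p hp hp1).trans (inf_le_left.trans inf_le_left)
  have hc : ∀ e ∈ jj V cf, ∀ p ∈ V, p ≠ 1 → ∀ w ∈ ww V cf p, w * (t * e * t⁻¹) = (t * e * t⁻¹) * w := by
    intro e he p hp hp1 w hw
    set r := t * e * t⁻¹ * e⁻¹ with hr
    have heT := hjTu he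
    have hrT : r ∈ Tu := mul_mem ((mem_normalizer_iff.mp htn e).mp heT) (inv_mem heT)
    have heJ : e ∈ J := heT.1.1
    have hrR : r ∈ R := by
      have e1 : r = t * (e * t⁻¹ * e⁻¹) := by rw [hr]; group
      rw [e1]
      exact mul_mem htR (hRconj heJ (inv_mem htR))
    have hrV : r ∈ centralizer (V : Set G) := hR0 ⟨hrR, hrT.1⟩
    have hew : e * w = w * e := h.comm hp hp1 e (Fam.jj_le hp hp1 he) w hw
    have e' : t * e * t⁻¹ = r * e := by rw [hr]; group
    -- `[r, w] ∈ R ∩ W_p`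
    have h1 : r * w * r⁻¹ * w⁻¹ ∈ ww V cf p :=
      mul_mem (conj_mem_of_normalizer (h.cent_norm hp hp1) hrV hw) (inv_mem hw)
    have h2 : r * w * r⁻¹ * w⁻¹ ∈ R := by
      have e1 : r * w * r⁻¹ * w⁻¹ = r * (w * r⁻¹ * w⁻¹) := by group
      rw [e1]
      exact mul_mem hrR (hRconj (hWJ p hp hp1 hw) (inv_mem hrR))
    have h3 : (t * e * t⁻¹) * w * (t * e * t⁻¹)⁻¹ * w⁻¹ = r * w * r⁻¹ * w⁻¹ := by
      rw [e']
      calc r * e * w * (r * e)⁻¹ * w⁻¹ = r * (e * w) * e⁻¹ * r⁻¹ * w⁻¹ := by group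
        _ = r * w * r⁻¹ * w⁻¹ := by rw [hew]; group
    -- `[e^t, w] ∈ ⟨z⟩^t`
    have hwT := hWTu p hp hp1 hw
    have hwT' : t⁻¹ * w * t ∈ Tu := (mem_normalizer_iff''.mp htn w).mp hwT
    have h4 : (t * e * t⁻¹) * w * (t * e * t⁻¹)⁻¹ * w⁻¹ =
        t * (e * ((t⁻¹ * w * t) * e⁻¹ * (t⁻¹ * w * t)⁻¹)) * t⁻¹ := by group
    have hee : e⁻¹ = e := h.inv_ww hz hz1 (Fam.jj_le hz hz1 he)
    have heee : e * e = 1 := h.sq hz hz1 e (Fam.jj_le hz hz1 he)
    have h5 : (t * e * t⁻¹) * w * (t * e * t⁻¹)⁻¹ * w⁻¹ = 1 := by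
      rcases hE e he _ hwT' with e1 | e1
      · rw [h4, hee, e1, heee]; group
      · have e2 : (t * e * t⁻¹) * w * (t * e * t⁻¹)⁻¹ * w⁻¹ = t * z * t⁻¹ := by
          have hez : e * z = z * e := h.comm hz hz1 e (Fam.jj_le hz hz1 he) z (h.V_le hz)
          have e3 : e * (z * e) = z := by
            rw [← mul_assoc, hez, mul_assoc, heee, mul_one]
          rw [h4, hee, e1, e3]
        rcases hb p hp hp1 _ h1 h2 with e3 | e3
        · rw [h3, e3]
        · exfalso
          rw [h3, e3] at e2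
          -- `u = t z t⁻¹`
          have htu : t * u * t⁻¹ = u := conj_eq_of_comm (hJm.mp htJ)
          rw [← htu] at e2
          have e4 : u = z := mul_left_cancel (mul_right_cancel e2)
          exact huV (by rw [e4]; exact hz)
    have h6 := mul_inv_eq_one.mp h5
    exact (mul_inv_eq_iff_eq_mul.mp h6).symm
  -- `t ∈ N_G(E)`
  have htE : t ∈ normalizer ((jj V cf : Subgroup G) : Set G) := by
    have hle : cj t (jj V cf) ≤ jj V cf := by
      intro x hx
      rw [mem_cj] at hx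
      have e1 : x = t * (t⁻¹ * x * t) * t⁻¹ := by group
      refine hKK (mem_inf.mpr ⟨mem_centralizer_iff.mpr fun w hw => ?_, mem_centralizer_iff.mpr fun w hw => ?_⟩)
      · rw [e1]; exact hc _ hx z hz hz1 w hw
      · rw [e1]; exact hc _ hx y hy hy1 w hw
    rw [mem_normalizer_iff_cj]
    exact eq_of_le_of_card_ge hle (by rw [card_cj])
  have htV := h36 t htE
  have ht0 : t ∈ centralizer (V : Set G) := hR0 ⟨htR, mem_inf.mpr ⟨htJ, htV⟩⟩
  exact htT (mem_inf.mpr ⟨mem_inf.mpr ⟨htJ, htV⟩, h.cent_le_cs hz ht0⟩)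

end Fam

end Cfsg.Agent.Omega.NO3S.Fit

end

section


/-!
# NO-3S, `q = 2`, `n = 1` (helper311's text #13963): (4.6), T9 is impossible

`Fam.nine_false` : from `Abs.NineA`, `C_G(V)` a 2-group, `K_z ∩ K_y ≤ jj V cf` and `N_G(jj V cf) ≤ N_G(V)`.
-/

set_option autoImplicit false
set_option linter.unusedSectionVars false

namespace Cfsg.Agent.Omega.NO3S.Fit

open Subgroup Cfsg Cfsg.Agent.ZN Cfsg.Agent.MinSimple.Geo Cfsg.Agent.Omega.CaseL
open Cfsg.Agent.Omega.NO3S.Fit.Abs (br fx)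
open Cfsg.Agent.ZN.Block (conj_mem_of_normalizer conj_mem_of_normalizer' le_normalizer_of_forall
  mem_normalizer_of)

universe u

namespace Abs.NineA

variable {H M : Type*} [Group H] [AddCommGroup M] [DistribMulAction H M] {v0 : M} {a d1 d2 : H} {b1 b2 : M}

theorem symm (N : NineA v0 a d1 d2 b1 b2) : NineA v0 a d2 d1 b2 b1 where
  card := N.card
  vb := by rw [N.vb, add_comm]
  f1 := N.f2
  f2 := N.f1
  s1 := N.s2
  s2 := N.s1
  n1 := N.n2
  n2 := N.n1
  comm := N.comm.symm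
  c1 := N.c2
  c2 := N.c1
  inv1 := N.inv2
  inv2 := N.inv1
  fa1 := N.fa2
  fa2 := N.fa1
  gen := by
    intro x
    obtain ⟨i, j, h0, hh, e⟩ := N.gen x
    refine ⟨j, i, h0, hh, ?_⟩
    rw [e]
    have : Commute d1 d2 := N.comm
    rw [(this.pow_pow i j).eq]
  st := by
    intro h0 hh
    rcases N.st h0 hh with ⟨e1, e2, e3, e4⟩ | ⟨e1, e2, e3, e4⟩
    · exact Or.inl ⟨e2, e1, e4, e3⟩
    · exact Or.inr ⟨e2, e1, e4, e3⟩
  sw := by
    obtain ⟨h0, hh, e1, e2⟩ := N.sw
    exact ⟨h0, hh, e2, e1⟩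

theorem odd1 (N : NineA v0 a d1 d2 b1 b2) : Odd (orderOf d1) :=
  Odd.of_dvd_nat (by decide : Odd 3) (orderOf_dvd_of_pow_eq_one N.c1)

theorem b1_ne (N : NineA v0 a d1 d2 b1 b2) : b1 ≠ 0 := by
  intro e
  apply N.n1
  rw [e, smul_zero]

theorem b1_mem (N : NineA v0 a d1 d2 b1 b2) (two : ∀ m : M, m + m = 0) : b1 ∈ br M d1 := by
  refine ⟨d1 • b1, ?_⟩
  have h1 := N.s1
  have h2 : b1 = -(d1 • b1 + d1 • d1 • b1) := by
    rw [← add_eq_zero_iff_eq_neg, ← add_assoc]; exact h1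
  rw [neg_eq two] at h2
  rw [sub_eq two, add_comm]
  exact h2.symm

theorem card_mul {x : H} [Finite M] : Nat.card (fx M x) * Nat.card (br M x) = Nat.card M := by
  let f : M →+ M :=
    { toFun := fun m => x • m - m
      map_zero' := by simp
      map_add' := fun m n => by rw [smul_add]; abel }
  have h1 : Nat.card f.ker * Nat.card f.range = Nat.card M := by
    rw [← AddSubgroup.index_ker, AddSubgroup.card_mul_index]
  have h2 : f.ker = fx M x := by
    ext m
    rw [AddMonoidHom.mem_ker, mem_fx]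
    exact sub_eq_zero
  have h3 : f.range = br M x := by
    ext m
    rw [AddMonoidHom.mem_range, mem_br]
    rfl
  rw [← h2, ← h3]; exact h1

theorem three_le [Finite M] {N : AddSubgroup M} {u v : M} (hu : u ∈ N) (hv : v ∈ N) (hu0 : u ≠ 0)
    (hv0 : v ≠ 0) (huv : u ≠ v) : 3 ≤ Nat.card N := by
  classical
  have h1 : (({0, u, v} : Finset M) : Set M) ⊆ (N : Set M) := by
    intro y hy
    simp only [Finset.coe_insert, Finset.coe_singleton, Set.mem_insert_iff, Set.mem_singleton_iff] at hy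
    rcases hy with rfl | rfl | rfl
    · exact zero_mem _
    · exact hu
    · exact hv
  have h2 := Set.ncard_le_ncard h1 (Set.toFinite _)
  rw [Set.ncard_coe_finset] at h2
  have h3 : Set.ncard (N : Set M) = Nat.card N := (Nat.card_coe_set_eq _).symm
  have h4 : ({0, u, v} : Finset M).card = 3 := by
    rw [Finset.card_insert_of_notMem, Finset.card_insert_of_notMem, Finset.card_singleton]
    · simpa using huv
    · simp [hu0.symm, hv0.symm]
  omega

theorem card1 (N : NineA v0 a d1 d2 b1 b2) (two : ∀ m : M, m + m = 0) :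
    Nat.card (br M d1) = 4 ∧ Nat.card (fx M d1) = 4 := by
  have hfin : Finite M := Nat.finite_of_card_ne_zero (by rw [N.card]; decide)
  have h1 := card_mul (M := M) (x := d1)
  rw [N.card] at h1
  have h2 : 3 ≤ Nat.card (br M d1) := by
    refine three_le (N.b1_mem two) (smul_mem_br_self (N.b1_mem two)) N.b1_ne ?_ (fun e => N.n1 e.symm)
    intro e
    exact N.b1_ne ((smul_eq_zero_iff_eq d1).mp e)
  have h3 : 3 ≤ Nat.card (fx M d1) := by
    refine three_le (u := b2) (v := d2 • b2) N.f1 ?_ N.symm.b1_ne ?_ (fun e => N.n2 e.symm)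
    · rw [mem_fx, ← mul_smul, N.comm, mul_smul, N.f1]
    · intro e
      exact N.symm.b1_ne ((smul_eq_zero_iff_eq d2).mp e)
  obtain ⟨k, hk⟩ := exists_card_two_pow two (br M d1)
  obtain ⟨l, hl⟩ := exists_card_two_pow two (fx M d1)
  rw [hk, hl, ← pow_add] at h1
  rw [hk] at h2
  rw [hl] at h3
  have h4 : l + k = 4 := Nat.pow_right_injective (le_refl 2) (by simpa using h1)
  have h5 : 2 ≤ k := by
    by_contra hcon
    have : 2 ^ k ≤ 2 ^ 1 := Nat.pow_le_pow_right (by norm_num) (by omega)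
    omega
  have h6 : 2 ≤ l := by
    by_contra hcon
    have : 2 ^ l ≤ 2 ^ 1 := Nat.pow_le_pow_right (by norm_num) (by omega)
    omega
  have h7 : k = 2 := by omega
  have h8 : l = 2 := by omega
  rw [hk, hl, h7, h8]
  norm_num

theorem cases1 (N : NineA v0 a d1 d2 b1 b2) (two : ∀ m : M, m + m = 0) {m : M} (hm : m ∈ br M d1) :
    m = 0 ∨ m = b1 ∨ m = d1 • b1 ∨ m = d1 ^ 2 • b1 :=
  nat_cases two N.odd1 (N.card1 two).1 (N.b1_mem two) N.b1_ne hm

/-- `C_M(d1) = [M, d2]` -/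
theorem fx1 (N : NineA v0 a d1 d2 b1 b2) (two : ∀ m : M, m + m = 0) : br M d2 = fx M d1 := by
  have hfin : Finite M := Nat.finite_of_card_ne_zero (by rw [N.card]; decide)
  refine AddSubgroup.eq_of_le_of_card_ge ?_ (by rw [(N.card1 two).2, (N.symm.card1 two).1])
  have key : ∀ j : ℕ, d1 • d2 ^ j • b2 = d2 ^ j • b2 := by
    intro j
    have : Commute d1 d2 := N.comm
    rw [← mul_smul, (this.pow_right j).eq, mul_smul, N.f1]
  intro m hm
  rw [mem_fx]
  rcases N.symm.cases1 two hm with rfl | rfl | rfl | rfl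
  · exact smul_zero _
  · exact N.f1
  · simpa using key 1
  · exact key 2

theorem exists_dec (N : NineA v0 a d1 d2 b1 b2) (two : ∀ m : M, m + m = 0) (m : M) :
    ∃ m1 ∈ br M d1, ∃ m2 ∈ br M d2, m = m1 + m2 := by
  obtain ⟨d, hd, c, hc, rfl⟩ := exists_decomp two N.odd1 m
  exact ⟨d, hd, c, by rw [N.fx1 two]; exact hc, rfl⟩

theorem inv_sm (N : NineA v0 a d1 d2 b1 b2) : a • d1 • b1 = d1 • d1 • b1 := by
  have h1 := inv_smul_of_inv N.inv1 N.fa1
  rw [h1, inv_smul_eq_iff, ← mul_smul, ← mul_smul]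
  have : d1 * d1 * d1 = 1 := by
    have := N.c1
    rw [pow_succ, pow_two] at this
    exact this
  rw [this, one_smul]

/-- `a (d1 b1) - d1 b1 = b1` -/
theorem comm_b1 (N : NineA v0 a d1 d2 b1 b2) (two : ∀ m : M, m + m = 0) : a • d1 • b1 - d1 • b1 = b1 := by
  rw [N.inv_sm]
  have h1 := N.s1
  have h2 : b1 = -(d1 • b1 + d1 • d1 • b1) := by
    rw [← add_eq_zero_iff_eq_neg, ← add_assoc]; exact h1
  rw [neg_eq two] at h2
  rw [sub_eq two, add_comm]
  exact h2.symm

theorem fix_br1 (N : NineA v0 a d1 d2 b1 b2) (two : ∀ m : M, m + m = 0) {m : M} (hm : m ∈ br M d1)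
    (ha : a • m = m) : m = 0 ∨ m = b1 := by
  have hne : ¬ (a • d1 • b1 = d1 • b1) := by
    intro e
    have := N.comm_b1 two
    rw [e, sub_self] at this
    exact N.b1_ne this.symm
  rcases N.cases1 two hm with e | e | e | e
  · exact Or.inl e
  · exact Or.inr e
  · exfalso
    rw [e] at ha
    exact hne ha
  · exfalso
    rw [e, pow_two, mul_smul, ← N.inv_sm] at ha
    -- `a (a d1 b1) = a d1 b1`
    exact hne (smul_left_cancel a ha)

/-- `C_M(a) = {0, b1, b2, v0}` -/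
theorem fix_a (N : NineA v0 a d1 d2 b1 b2) (two : ∀ m : M, m + m = 0) {m : M} (ha : a • m = m) :
    m = 0 ∨ m = b1 ∨ m = b2 ∨ m = v0 := by
  obtain ⟨m1, h1, m2, h2, rfl⟩ := N.exists_dec two m
  have h1' : a • m1 ∈ br M d1 := smul_mem_br_of_inv N.inv1 h1
  have h2' : a • m2 ∈ br M d2 := smul_mem_br_of_inv N.inv2 h2
  have h3 : a • m1 - m1 = m2 - a • m2 := by
    rw [smul_add] at ha
    calc a • m1 - m1 = (a • m1 + a • m2) - m1 - a • m2 := by abel
      _ = m2 - a • m2 := by rw [ha]; abel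
  have h4 : a • m1 - m1 ∈ br M d1 := sub_mem h1' h1
  have h5 : a • m1 - m1 ∈ fx M d1 := by
    rw [← N.fx1 two, h3]; exact sub_mem h2 h2'
  have h6 := br_inf_fx two N.odd1 h4 h5
  rw [h6] at h3
  have e1 : a • m1 = m1 := sub_eq_zero.mp h6
  have e2 : a • m2 = m2 := (sub_eq_zero.mp h3.symm).symm
  rcases N.fix_br1 two h1 e1 with e | e <;> rcases N.symm.fix_br1 two h2 e2 with e' | e'
  · left; rw [e, e', add_zero]
  · right; right; left; rw [e, e', zero_add]
  · right; left; rw [e, e', add_zero]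
  · right; right; right; rw [e, e', N.vb]

/-- an `H`-invariant subgroup `≠ 0` contains `v0` -/
theorem irr (N : NineA v0 a d1 d2 b1 b2) (two : ∀ m : M, m + m = 0) {X : AddSubgroup M}
    (hX : ∀ x : H, ∀ m ∈ X, x • m ∈ X) {m : M} (hm : m ∈ X) (hm0 : m ≠ 0) : v0 ∈ X := by
  have key : ∀ {d1 d2 : H} {b1 b2 : M}, NineA v0 a d1 d2 b1 b2 → ∀ n ∈ X, n ∈ br M d1 → n ≠ 0 → v0 ∈ X := by
    intro d1 d2 b1 b2 N n hn hnb hn0
    have hb1 : b1 ∈ X := by
      have hc : d1 * (d1 * d1) = 1 := by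
        have := N.c1
        rw [pow_succ, pow_two] at this
        rw [← mul_assoc]; exact this
      rcases N.cases1 two hnb with e | e | e | e
      · exact absurd e hn0
      · rw [← e]; exact hn
      · have h1 := hX (d1 * d1) n hn
        rw [e, ← mul_smul, mul_assoc, hc, one_smul] at h1
        exact h1
      · have h1 := hX d1 n hn
        rw [e, pow_two, ← mul_smul, hc, one_smul] at h1
        exact h1
    obtain ⟨h0, -, e1, -⟩ := N.sw
    have hb2 : b2 ∈ X := by rw [← e1]; exact hX h0 _ hb1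
    rw [N.vb]; exact add_mem hb1 hb2
  obtain ⟨m1, h1, m2, h2, rfl⟩ := N.exists_dec two m
  by_cases hm1 : m1 = 0
  · rw [hm1, zero_add] at hm hm0
    exact key N.symm m2 hm h2 hm0
  · refine key N (d1 • (m1 + m2) - (m1 + m2)) (sub_mem (hX d1 _ hm) hm) ⟨_, rfl⟩ ?_
    intro e
    apply hm1
    refine br_inf_fx two N.odd1 h1 ?_
    have h3 : d1 • m2 = m2 := by
      have : m2 ∈ fx M d1 := by rw [← N.fx1 two]; exact h2
      exact this
    rw [smul_add, h3] at e
    have : d1 • m1 - m1 = 0 := by rw [← e]; abel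
    exact sub_eq_zero.mp this

end Abs.NineA

variable {G : Type u} [Group G]

namespace Fam

variable {T V : Subgroup G} {z : G} {cf : G → Subgroup G} {M H : Type u} [AddCommGroup M] [Group H]
  [DistribMulAction H M]

/-- **(4.6): T9 is impossible** -/
theorem nine_false [Finite G] (h : Fam T V z cf) (R : MRep V cf z M H) {y : G} (hy : y ∈ V) (hy1 : y ≠ 1)
    (hyz : y ≠ z) (hk : One1 V cf) {a : G} (ha : a ∈ ww V cf y) (haQ : a ∉ qq V cf z) {d1 d2 : H} {b1 b2 : M}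
    (N : Abs.NineA (R.pi y) (R.phi a) d1 d2 b1 b2) (hCV : IsPGroup 2 (centralizer (V : Set G)))
    (hKK : kk V cf z ⊓ kk V cf y ≤ jj V cf)
    (h36 : ∀ g ∈ normalizer ((jj V cf : Subgroup G) : Set G), g ∈ normalizer (V : Set G)) : False := by
  have hz := h.ln.z_mem
  have hz1 := h.ln.z_ne
  have hzy := Ne.symm hyz
  have two := R.two h
  have hac := h.ww_le_cf' hy hy1 hz hz1 ha
  have hyW := h.V_le (p := z) hy
  -- `u`
  obtain ⟨w1, hw1, hw1m⟩ := R.pi_surj (d1 • b1)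
  set u := a * w1 * a⁻¹ * w1⁻¹ with hu
  have huj : u ∈ jj V cf := h.comm_mem_jj hy hy1 hz hz1 hzy ha hw1
  have huz := Fam.jj_le (cf := cf) hz hz1 huj
  have hpu : R.pi u = b1 := by
    rw [hu, ← R.comm_eq h hac hw1, hw1m, N.comm_b1 two]
  have hpyu : R.pi (y * u) = b2 := by
    rw [R.pi_mul y hyW u huz, hpu, N.vb, add_comm b1, add_assoc, two, add_zero]
  have hpV : ∀ v ∈ V, R.pi v = 0 ∨ R.pi v = R.pi y := by
    intro v hv
    rcases h.ln.four hz hy hz1 hy1 hzy hv with e | e | e | e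
    · left; rw [e, R.pi_one h]
    · left; rw [e, R.pi_z h]
    · right; rw [e]
    · right; rw [e, R.pi_mul z h.z_mem_ww y hyW, R.pi_z h, zero_add]
  have hb1v : b1 ≠ R.pi y := by
    intro e
    rw [N.vb, left_eq_add] at e
    exact N.symm.b1_ne e
  have hb2v : b2 ≠ R.pi y := by
    intro e
    rw [N.vb, right_eq_add] at e
    exact N.b1_ne e
  have huV : u ∉ V := by
    intro hV
    rcases hpV u hV with e | e
    · rw [hpu] at e; exact N.b1_ne e
    · rw [hpu] at e; exact hb1v e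
  have hVof : ∀ w ∈ ww V cf z, R.pi w = 0 ∨ R.pi w = R.pi y → w ∈ V := by
    rintro w hw (e | e)
    · rcases (R.pi_ker w hw).mp e with e | e <;> rw [e]
      · exact one_mem _
      · exact hz
    · rcases (R.pi_eq h hw hyW).mp e with e | e <;> rw [e]
      · exact hy
      · exact mul_mem hz hy
  have huinv : u⁻¹ = u := h.inv_ww hz hz1 huz
  have hjj : ∀ e ∈ jj V cf, e ∈ V ∨ e * u⁻¹ ∈ V := by
    intro e he
    have hez := Fam.jj_le (cf := cf) hz hz1 he
    have h1 : R.phi a • R.pi e = R.pi e := by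
      rw [R.act a hac e hez, conj_eq_of_comm (h.comm hy hy1 a ha e (Fam.jj_le hy hy1 he))]
    rcases N.fix_a two h1 with e1 | e1 | e1 | e1
    · exact Or.inl (hVof e hez (Or.inl e1))
    · right
      rw [huinv]
      exact hVof _ (mul_mem hez huz) (Or.inl (by rw [R.pi_mul e hez u huz, e1, hpu, two]))
    · right
      rw [huinv]
      refine hVof _ (mul_mem hez huz) (Or.inr ?_)
      rw [R.pi_mul e hez u huz, e1, hpu, N.vb, add_comm]
    · exact Or.inl (hVof e hez (Or.inr e1))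
  -- `f`
  obtain ⟨f', hf', hfd'⟩ := R.phi_surj d2
  have hpow : ∀ c ∈ cf z, ∀ k : ℕ, R.phi (c ^ k) = R.phi c ^ k := by
    intro c hc k
    exact map_pow R.hom ⟨c, hc⟩ k
  set f := f' ^ 4 with hfd
  have hf : f ∈ cf z := pow_mem hf' 4
  have hphif : R.phi f = d2 := by
    rw [hfd, hpow f' hf', hfd', pow_succ, N.c2, one_mul]
  have hfu : f * u = u * f := by
    have h1 : f' * u * f'⁻¹ = u ∨ f' * u * f'⁻¹ = z * u := by
      have h2 := R.act f' hf' u huz
      rw [hfd', hpu, N.f2, ← hpu] at h2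
      exact (R.pi_eq h (conj_mem_wf hf' huz) huz).mp h2.symm
    have h2 : (f' * f') * u = u * (f' * f') := by
      rcases h1 with e | e
      · have := comm_of_conj_eq e
        rw [mul_assoc, this, ← mul_assoc, this, mul_assoc]
      · refine comm_of_conj_eq ?_
        have hfz : f' * z * f'⁻¹ = z := conj_eq_of_comm (h.cf_comm hz hz1 hf')
        calc f' * f' * u * (f' * f')⁻¹ = f' * (f' * u * f'⁻¹) * f'⁻¹ := by group
          _ = f' * (z * u) * f'⁻¹ := by rw [e]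
          _ = (f' * z * f'⁻¹) * (f' * u * f'⁻¹) := by group
          _ = (z * z) * u := by rw [hfz, e, mul_assoc]
          _ = u := by rw [h.ln.zz, one_mul]
    have h3 : f = (f' * f') * (f' * f') := by
      rw [hfd]; simp only [pow_succ, pow_zero, one_mul, mul_assoc]
    rw [h3]
    exact mul_comm_of h2 h2
  set y2 := f * y * f⁻¹ with hy2
  have hy2W : y2 ∈ ww V cf z := conj_mem_wf hf hyW
  have hpy2 : R.pi y2 = b1 + d2 • b2 := by
    rw [hy2, ← R.act f hf y hyW, hphif, N.vb, smul_add, N.f2]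
  have hy3W : f * y2 * f⁻¹ ∈ ww V cf z := conj_mem_wf hf hy2W
  have hpy3 : R.pi (f * y2 * f⁻¹) = b1 + d2 • d2 • b2 := by
    rw [← R.act f hf y2 hy2W, hphif, hpy2, smul_add, N.f2]
  have hprod : y * y2 * (f * y2 * f⁻¹) = u ∨ y * y2 * (f * y2 * f⁻¹) = z * u := by
    refine (R.pi_eq h (mul_mem (mul_mem hyW hy2W) hy3W) huz).mp ?_
    rw [R.pi_mul _ (mul_mem hyW hy2W) _ hy3W, R.pi_mul y hyW _ hy2W, hpy2, hpy3, hpu, N.vb]
    have h1 : b1 + b2 + (b1 + d2 • b2) + (b1 + d2 • d2 • b2) =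
        b1 + (b1 + b1) + (b2 + d2 • b2 + d2 • d2 • b2) := by abel
    rw [h1, two, N.s2, add_zero, add_zero]
  have hphib : ∀ b ∈ ww V cf y, b ∉ qq V cf z → R.phi b = R.phi a := by
    intro b hb hbQ
    have h1 := hk y hy hy1 z hz hz1 hzy b hb a ha hbQ haQ
    rw [R.phi_eq (h.ww_le_cf' hy hy1 hz hz1 hb) hac, h.inv_ww hy hy1 ha]
    exact h1
  have hcmb : ∀ b ∈ ww V cf y, b ∉ qq V cf z → R.pi (y2 * b * y2⁻¹ * b⁻¹) = b2 := by
    intro b hb hbQ
    have hbc := h.ww_le_cf' hy hy1 hz hz1 hb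
    have h1 := R.comm_eq h hbc hy2W
    rw [hphib b hb hbQ, hpy2, smul_add, N.fa1] at h1
    have h2 : b1 + R.phi a • d2 • b2 - (b1 + d2 • b2) = R.phi a • d2 • b2 - d2 • b2 := by abel
    rw [h2, N.symm.comm_b1 two] at h1
    have h3 : y2 * b * y2⁻¹ * b⁻¹ = (b * y2 * b⁻¹ * y2⁻¹)⁻¹ := by group
    have h4 : b * y2 * b⁻¹ * y2⁻¹ ∈ ww V cf z := mul_mem (conj_mem_wf hbc hy2W) (inv_mem hy2W)
    rw [h3, R.pi_inv h h4, ← h1, Abs.neg_eq two]
  have hcmW : ∀ b ∈ ww V cf y, y2 * b * y2⁻¹ * b⁻¹ ∈ ww V cf z := by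
    intro b hb
    exact (h.comm_mem hz hz1 hy hy1 hy2W hb).1
  have hP1 : ∀ b ∈ ww V cf y, b ∉ qq V cf z → y2 * b * y2⁻¹ * b⁻¹ = y * u ∨
      y2 * b * y2⁻¹ * b⁻¹ = z * (y * u) := by
    intro b hb hbQ
    refine (R.pi_eq h (hcmW b hb) (mul_mem hyW huz)).mp ?_
    rw [hcmb b hb hbQ, hpyu]
  have hP2 : y2 ∉ qq V cf y := by
    intro hq
    have h1 := hcmb a ha haQ
    rcases h.qq_cases hy hq ha with e | e
    · rw [e, mul_inv_cancel, R.pi_one h] at h1
      exact N.symm.b1_ne h1.symm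
    · rw [e, mul_assoc, mul_inv_cancel, mul_one] at h1
      exact hb2v h1.symm
  -- `Q_z` separates
  let X : AddSubgroup M :=
    { carrier := {m | ∃ w ∈ ww V cf z, R.pi w = m ∧ ∀ q ∈ qq V cf z, q * w = w * q}
      zero_mem' := ⟨1, one_mem _, R.pi_one h, fun q _ => by rw [mul_one, one_mul]⟩
      add_mem' := by
        rintro _ _ ⟨w, hw, rfl, h1⟩ ⟨w', hw', rfl, h2⟩
        exact ⟨w * w', mul_mem hw hw', R.pi_mul w hw w' hw', fun q hq => comm_mul_of (h1 q hq) (h2 q hq)⟩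
      neg_mem' := by
        rintro _ ⟨w, hw, rfl, h1⟩
        exact ⟨w⁻¹, inv_mem hw, R.pi_inv h hw, fun q hq => (inv_comm_of (h1 q hq).symm).symm⟩ }
  have hXinv : ∀ x : H, ∀ m ∈ X, x • m ∈ X := by
    rintro x _ ⟨w, hw, rfl, h1⟩
    obtain ⟨c, hc, rfl⟩ := R.phi_surj x
    refine ⟨c * w * c⁻¹, conj_mem_wf hc hw, (R.act c hc w hw).symm, fun q hq => ?_⟩
    have h2 := h1 _ (conj_mem_of_normalizer' (h.cf_norm_qq hz hz1) hc hq)
    calc q * (c * w * c⁻¹) = c * ((c⁻¹ * q * c) * w) * c⁻¹ := by group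
      _ = c * (w * (c⁻¹ * q * c)) * c⁻¹ := by rw [h2]
      _ = c * w * c⁻¹ * q := by group
  have hX0 : ∀ w ∈ ww V cf z, (∀ q ∈ qq V cf z, q * w = w * q) → R.pi w = 0 := by
    intro w hw hc
    by_contra hne
    obtain ⟨w', hw', e, h1⟩ := N.irr two hXinv ⟨w, hw, rfl, hc⟩ hne
    obtain ⟨k, hk, hk1⟩ := h.exists_mover hz hz1
    have h2 := h.move hz hz1 hy hy1 hyz hk hk1
    have h3 : k * y = y * k := by
      rcases (R.pi_eq h hyW hw').mp e.symm with e1 | e1
      · rw [e1]; exact h1 k hk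
      · rw [e1]
        exact comm_mul_of (h.qq_p hk) (h1 k hk)
    rw [conj_eq_of_comm h3] at h2
    exact hz1 (by simpa using h2.symm)
  have hsep : ∀ w ∈ ww V cf z, R.pi w ≠ 0 → ∃ q ∈ qq V cf z, q * w * q⁻¹ = z * w := by
    intro w hw hne
    by_contra hcon
    push Not at hcon
    exact hne (hX0 w hw fun q hq => comm_of_conj_eq ((h.qq_cases hz hq hw).resolve_right (hcon q hq)))
  have hdual : ∀ w ∈ ww V cf z, w = 1 ∨ w = z ∨ w = u ∨ w = z * u ∨
      ∃ q ∈ qq V cf z, q * u = u * q ∧ q * w * q⁻¹ = z * w := by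
    intro w hw
    by_cases h0 : R.pi w = 0
    · rcases (R.pi_ker w hw).mp h0 with e | e
      · exact Or.inl e
      · exact Or.inr (Or.inl e)
    by_cases h1 : R.pi w = R.pi u
    · rcases (R.pi_eq h hw huz).mp h1 with e | e
      · exact Or.inr (Or.inr (Or.inl e))
      · exact Or.inr (Or.inr (Or.inr (Or.inl e)))
    right; right; right; right
    have hwu : w * u ∈ ww V cf z := mul_mem hw huz
    have h2 : R.pi (w * u) ≠ 0 := by
      rw [R.pi_mul w hw u huz]
      intro e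
      apply h1
      have := eq_neg_of_add_eq_zero_left e
      rwa [Abs.neg_eq two] at this
    obtain ⟨q1, hq1, e1⟩ := hsep w hw h0
    obtain ⟨q2, hq2, e2⟩ := hsep (w * u) hwu h2
    have e2' : (q2 * w * q2⁻¹) * (q2 * u * q2⁻¹) = z * (w * u) := by rw [← e2]; group
    rcases h.qq_cases hz hq1 huz with f1 | f1
    · exact ⟨q1, hq1, comm_of_conj_eq f1, e1⟩
    rcases h.qq_cases hz hq2 huz with f2 | f2
    · refine ⟨q2, hq2, comm_of_conj_eq f2, ?_⟩
      rw [f2] at e2'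
      have e2'' : q2 * w * q2⁻¹ * u = z * w * u := by rw [e2', mul_assoc]
      exact mul_right_cancel e2''
    · -- `q1 q2`
      have hzu : z * u = u * z := h.comm hz hz1 z h.z_mem_ww u huz
      have e3 : q2 * w * q2⁻¹ = w := by
        rcases h.qq_cases hz hq2 hw with e | e
        · exact e
        · exfalso
          rw [e, f2] at e2'
          have hzw : w * z = z * w := h.comm hz hz1 w hw z h.z_mem_ww
          have : z * w * (z * u) = w * u := by
            calc z * w * (z * u) = z * (w * z) * u := by group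
              _ = (z * z) * w * u := by rw [hzw]; group
              _ = w * u := by rw [h.ln.zz, one_mul]
          rw [this] at e2'
          exact hz1 (by simpa using e2'.symm)
      have hq1z : q1 * z * q1⁻¹ = z := conj_eq_of_comm (h.qq_p hq1)
      refine ⟨q1 * q2, mul_mem hq1 hq2, comm_of_conj_eq ?_, ?_⟩
      · calc q1 * q2 * u * (q1 * q2)⁻¹ = q1 * (q2 * u * q2⁻¹) * q1⁻¹ := by group
          _ = q1 * (z * u) * q1⁻¹ := by rw [f2]
          _ = (q1 * z * q1⁻¹) * (q1 * u * q1⁻¹) := by group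
          _ = (z * z) * u := by rw [hq1z, f1, mul_assoc]
          _ = u := by rw [h.ln.zz, one_mul]
      · calc q1 * q2 * w * (q1 * q2)⁻¹ = q1 * (q2 * w * q2⁻¹) * q1⁻¹ := by group
          _ = z * w := by rw [e3, e1]
  exact h.nine_core hy hy1 hyz huj huV hjj hf hfu hprod hP1 hP2 hdual hCV hKK h36

end Fam

end Cfsg.Agent.Omega.NO3S.Fit

end
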