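import Cfsg.Agent.Mrg.Omega.NO3S.Fit.Ctxt
import Cfsg.Agent.Mrg.Omega.NO3S.Fit.AbsMain
import Cfsg.Agent.Mrg.Omega.NO3S.Fit.FiveTri
import Cfsg.Agent.Mrg.Omega.TitsAmal.Main
import Cfsg.Agent.Mrg.Omega.NO3S.Fit.PlaneAct
import Cfsg.Agent.Mrg.Omega.NO3S.Fit.Char
import Cfsg.Agent.Mrg.Omega.NO3S.Fit.AbsNat

section


/-!
# NO-3S, `q = 2`, `n = 1` (helper311's text #13963): the case T5, from the module to the Tits group

* `Cmp.down` : the comparison of a subfamily as helper204's `Abs.Down`;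
* `Fam.five_glue` : the output (T5) of the main theorem of section 3 for the full family ⟹ known.
-/

set_option autoImplicit false
set_option linter.unusedSectionVars false

namespace Cfsg.Agent.Omega.NO3S.Fit

open Subgroup Cfsg Cfsg.Agent.ZN Cfsg.Agent.MinSimple.Geo Cfsg.Agent.Omega.CaseL
open Cfsg.Agent.ZN.Block (conj_mem_of_normalizer conj_mem_of_normalizer' le_normalizer_of_forall
  mem_normalizer_of)

universe u

variable {G : Type u} [Group G] {T V : Subgroup G} {z : G} {cf : G → Subgroup G}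
variable {M H M' H' : Type u} [AddCommGroup M] [Group H] [DistribMulAction H M]
  [AddCommGroup M'] [Group H'] [DistribMulAction H' M']

open Classical in
/-- the comparison as `Abs.Down` -/
noncomputable def Cmp.down {R : MRep V cf z M H} {y : G} {K : Subgroup H}
    {R' : MRep V (subf V z (R.pre K)) z M' H'} {θ : M' →+ M} {κ : K →* H'} (c : Cmp R y K R' θ κ)
    {D : AddSubgroup M} (hD : spn K (R.pi y) = D) : Abs.Down K D H' M' where
  io := θ
  rho := fun x => if hx : x ∈ K then κ ⟨x, hx⟩ else 1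
  io_add := map_add θ
  io_inj := c.inj
  io_mem := fun m => hD ▸ c.mem_range m
  io_surj := fun m hm => (c.range m).mpr (hD ▸ hm)
  rho_mul := by
    intro g hg h hh
    rw [dif_pos hg, dif_pos hh, dif_pos (mul_mem hg hh), ← map_mul]
    rfl
  rho_surj := by
    intro x
    obtain ⟨k, rfl⟩ := c.surj x
    exact ⟨k, k.2, by rw [dif_pos k.2]⟩
  act := by
    intro h hh m
    rw [dif_pos hh, c.act]

theorem Cmp.down_io {R : MRep V cf z M H} {y : G} {K : Subgroup H}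
    {R' : MRep V (subf V z (R.pre K)) z M' H'} {θ : M' →+ M} {κ : K →* H'} (c : Cmp R y K R' θ κ)
    {D : AddSubgroup M} (hD : spn K (R.pi y) = D) : (c.down hD).io = θ := rfl

theorem Cmp.down_rho {R : MRep V cf z M H} {y : G} {K : Subgroup H}
    {R' : MRep V (subf V z (R.pre K)) z M' H'} {θ : M' →+ M} {κ : K →* H'} (c : Cmp R y K R' θ κ)
    {D : AddSubgroup M} (hD : spn K (R.pi y) = D) {g : G} (hg : g ∈ R.pre K) :
    (c.down hD).rho (R.phi g) = R'.phi g := by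
  have h1 := (R.mem_pre.mp hg).2
  have h2 : (c.down hD).rho (R.phi g) = κ ⟨R.phi g, h1⟩ := dif_pos h1
  rw [h2]
  exact c.phi g hg

namespace Fam

/-- **the case T5** -/
theorem five_glue [Finite G] [Finite M] [Finite H] [FaithfulSMul H M] (h : Fam T V z cfull)
    (hk : One1 V cfull) (R : MRep V cfull z M H) {y : G} (hy : y ∈ V) (hy1 : y ≠ 1) (hyz : y ≠ z) {w : G}
    (hw : w ∈ ww V cfull y) (hwz : w ∉ qq V cfull z) (h4 : Nat.card (Abs.br M (R.phi w)) = 4)
    {p : ℕ} (hp : p.Prime) {F : Subgroup H} (hFn : F.Normal) (hF : IsPGroup p F) {d : H}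
    (hC : Abs.Cyc M (R.phi w) F d) (K : Abs.T5 (R.pi y) (R.phi w) d) (hs : IsSimpleGroup G) :
    IsKnownSimple' G := by
  have hz := h.ln.z_mem
  have hz1 := h.ln.z_ne
  have ctx := h.ctx hk R hy hy1 hyz hw hwz
  set D := Abs.cyc (R.pi y) d K.nor with hDd
  have hK : ∀ x : H, x • R.pi y = R.pi y → x ∈ D := fun x hx => Abs.stab_le_cyc K.nor hx
  have hsp : spn D (R.pi y) = Abs.br M d := by rw [spn_eq_sp, K.sp_eq]
  have hodd : Odd (orderOf d) := K.odd
  have hd1 : d ≠ 1 := by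
    rintro rfl
    exact K.ne (one_smul _ _)
  -- `p = 5`
  have hod : orderOf d = 5 := by
    rcases (Nat.dvd_prime (by norm_num)).mp (orderOf_dvd_of_pow_eq_one K.five) with e | e
    · exact absurd (orderOf_eq_one_iff.mp e) hd1
    · exact e
  have hp5 : p = 5 := by
    have hfact : Fact p.Prime := ⟨hp⟩
    obtain ⟨k, hk'⟩ := IsPGroup.iff_orderOf.mp hF ⟨d, hC.mem⟩
    rw [Subgroup.orderOf_mk, hod] at hk'
    have h1 : (5 : ℕ).Prime := by norm_num
    rw [hk'] at h1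
    exact ((Nat.Prime.pow_eq_iff (by norm_num : Nat.Prime 5)).mp hk'.symm).1
  subst hp5
  -- the subfamily
  have h' : Fam T V z (subf V z (R.pre D)) := by
    refine h.subfam hk R hy hy1 hyz hw hK ?_
    obtain ⟨b, hb, hb0, hbv⟩ := Abs.exists_ne_ne_of_card h4 (u := R.pi y)
    have hb' : b ∈ Abs.cx M (R.phi w) d := by rw [K.cxe]; exact hb
    obtain ⟨n, hn, e⟩ := Abs.cx_le_br ctx.two ctx.sq hodd K.inv hb'
    refine ⟨n, by rw [hsp]; exact hn, ?_, ?_⟩
    · rw [e]; exact hb0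
    · rw [e]; exact hbv
  obtain ⟨M', H', _, _, _, _, _, _, ⟨R'⟩⟩ := h'.exists_mrep
  obtain ⟨θ, κ, c⟩ := exists_cmp R h hy hy1 hyz hK R' h'
  have E5 := K.fiveA ctx hDd (c.down hsp) (v0' := R'.pi y) (c.pi_y hy)
  have h64 : Nat.card (kk V (subf V z (R.pre D)) z) ≤ 64 :=
    R'.card_kk_five h' hy hy1 hyz E5.card E5.d5 E5.fd E5.gen E5.nd
  have hFd : ∀ f ∈ F, f * d * f⁻¹ ∈ zpowers d := by
    intro f hf
    have : f * d * f⁻¹ = d := by rw [hC.cen f hf]; group
    rw [this]; exact mem_zpowers d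
  have h2 : ∃ x : H, x * d * x⁻¹ = d ^ 2 := by
    obtain ⟨x, -, hx⟩ := K.frob
    exact ⟨x, hx⟩
  exact h.five_known R hy hy1 hyz ctx.sq K.five K.inv K.card (K.le ctx.v0_mem) hC.mem hF hFn hFd h2
    (ctx.pl h4) (R.le_pre h hy hy1 hyz hK) (R.pre_le D) h64 (index_ne_two hs h.ln.card_V)

end Fam

end Cfsg.Agent.Omega.NO3S.Fit

end

section


/-!
# NO-3S, `q = 2`, `n = 1` (helper311's text #13963): the case T9, from the module to the subfamily

`Fam.nine_data` : the output (T9) of the main theorem of section 3 for a family gives the subfamily of `H1` with its representation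
`R'`, the data `NineA`, and `R'.phi u = a'` for every `u ∈ W'_y - Q'_z`.
-/

set_option autoImplicit false
set_option linter.unusedSectionVars false

namespace Cfsg.Agent.Omega.NO3S.Fit

open Subgroup Cfsg Cfsg.Agent.ZN Cfsg.Agent.MinSimple.Geo Cfsg.Agent.Omega.CaseL
open Cfsg.Agent.ZN.Block (conj_mem_of_normalizer conj_mem_of_normalizer' le_normalizer_of_forall
  mem_normalizer_of)

universe u

variable {G : Type u} [Group G] {T V : Subgroup G} {z : G} {cf : G → Subgroup G}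
variable {M H : Type u} [AddCommGroup M] [Group H] [DistribMulAction H M]

namespace Fam

theorem subf_le (h : Fam T V z cf) {C : Subgroup G}
    (hC : normalizer (V : Set G) ⊓ centralizer ({z} : Set G) ≤ C) (hC' : C ≤ cf z) {p : G} (hp : p ∈ V)
    (hp1 : p ≠ 1) : subf V z C p ≤ cf p := by
  obtain ⟨g, hg, rfl⟩ := h.ln.trans p hp hp1
  rw [subf_eq hC hg, ← h.cj_cf g hg z h.ln.z_mem h.ln.z_ne]
  exact cj_mono hC'

theorem ww_subf_le (h : Fam T V z cf) {C : Subgroup G}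
    (hC : normalizer (V : Set G) ⊓ centralizer ({z} : Set G) ≤ C) (hC' : C ≤ cf z) {p : G} (hp : p ∈ V)
    (hp1 : p ≠ 1) : ww V (subf V z C) p ≤ ww V cf p := wf_mono (h.subf_le hC hC' hp hp1)

/-- `Q_z ∩ C ≤ Q'_z` -/
theorem mem_qq_subf (h : Fam T V z cf) {C : Subgroup G}
    (hC : normalizer (V : Set G) ⊓ centralizer ({z} : Set G) ≤ C) (hC' : C ≤ cf z) {u : G} (hu : u ∈ C)
    (huq : u ∈ qq V cf z) : u ∈ qq V (subf V z C) z := by
  refine ⟨by rw [subf_z hC]; exact hu, huq.2.1, fun w hw => huq.2.2 w ?_⟩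
  exact h.ww_subf_le hC hC' h.ln.z_mem h.ln.z_ne hw

/-- `R'.phi u = ρ(a)` for `u ∈ W'_y - Q'_z` -/
theorem phi_subf [Finite G] (h : Fam T V z cf) (hk : One1 V cf) (R : MRep V cf z M H) {y : G} (hy : y ∈ V)
    (hy1 : y ≠ 1) (hyz : y ≠ z) {w : G} (hw : w ∈ ww V cf y) (hwz : w ∉ qq V cf z) {C : Subgroup G}
    (hC : normalizer (V : Set G) ⊓ centralizer ({z} : Set G) ≤ C) (hC' : C ≤ cf z) {u : G}
    (hu : u ∈ ww V (subf V z C) y) (huz : u ∉ qq V (subf V z C) z) :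
    u ∈ C ∧ R.phi u = R.phi w := by
  have hz := h.ln.z_mem
  have hz1 := h.ln.z_ne
  have huy := h.ww_subf_le hC hC' hy hy1 hu
  have hucV := h.ww_le_cent hy hy1 huy
  have huC : u ∈ C := hC (mem_inf.mpr ⟨centralizer_le_normalizer _ hucV, h.cent_le_cs hz hucV⟩)
  refine ⟨huC, ?_⟩
  have huq : u ∉ qq V cf z := fun e => huz (h.mem_qq_subf hC hC' huC e)
  have h1 := hk y hy hy1 z hz hz1 (Ne.symm hyz) u huy w hw huq hwz
  have huc := hC' huC
  have hwc := h.ww_le_cf' hy hy1 hz hz1 hw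
  have h2 : R.phi u * R.phi w = 1 := by
    rw [← R.phi_mul u huc w hwc]
    exact (R.phi_ker _ (mul_mem huc hwc)).mpr h1
  have h3 := R.sq_A h hy hy1 hw
  calc R.phi u = R.phi u * (R.phi w * R.phi w) := by rw [h3, mul_one]
    _ = R.phi w := by rw [← mul_assoc, h2, one_mul]

/-- **the data of the case T9** -/
theorem nine_data [Finite G] [Finite M] [Finite H] [FaithfulSMul H M] (h : Fam T V z cf)
    (hk : One1 V cf) (R : MRep V cf z M H) {y : G} (hy : y ∈ V) (hy1 : y ≠ 1) (hyz : y ≠ z) {w : G}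
    (hw : w ∈ ww V cf y) (hwz : w ∉ qq V cf z) {H1 : Subgroup H} {d1 d2 : H} {b1 b2 : M}
    (K : Abs.T9 (R.pi y) (R.phi w) (R.img T) H1 d1 d2 b1 b2) :
    Fam T V z (subf V z (R.pre H1)) ∧
    ∃ (M' H' : Type u) (_ : AddCommGroup M') (_ : Finite M') (_ : Group H') (_ : Finite H')
      (_ : DistribMulAction H' M') (_ : FaithfulSMul H' M') (R' : MRep V (subf V z (R.pre H1)) z M' H')
      (a' d1' d2' : H') (b1' b2' : M'), Abs.NineA (R'.pi y) a' d1' d2' b1' b2' ∧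
        ∀ u ∈ ww V (subf V z (R.pre H1)) y, u ∉ qq V (subf V z (R.pre H1)) z → R'.phi u = a' := by
  have hz := h.ln.z_mem
  have hz1 := h.ln.z_ne
  have ctx := h.ctx hk R hy hy1 hyz hw hwz
  have hK : ∀ x : H, x • R.pi y = R.pi y → x ∈ H1 := K.stab_le
  have hsp : spn H1 (R.pi y) = Abs.sp H1 (R.pi y) := spn_eq_sp _ _
  have h' : Fam T V z (subf V z (R.pre H1)) := by
    refine h.subfam hk R hy hy1 hyz hw hK ⟨d1 • b1, ?_, ?_, ?_⟩
    · rw [hsp, K.sp_eq ctx.two]
      exact AddSubgroup.mem_sup_left (Abs.smul_mem_blk' d1 b1)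
    · rw [K.a1, K.d11, add_sub_cancel_right]
      exact K.b10
    · rw [K.a1, K.d11, add_sub_cancel_right]
      intro e
      apply K.b20
      have h1 := K.sum
      rw [e] at h1
      exact add_eq_left.mp h1
  refine ⟨h', ?_⟩
  obtain ⟨M', H', i1, i2, i3, i4, i5, i6, ⟨R'⟩⟩ := h'.exists_mrep
  obtain ⟨θ, κ, c⟩ := exists_cmp R h hy hy1 hyz hK R' h'
  obtain ⟨d1', d2', b1', b2', hN⟩ := K.nineA ctx (c.down hsp) (v0' := R'.pi y) (c.pi_y hy)
  refine ⟨M', H', i1, i2, i3, i4, i5, i6, R', (c.down hsp).rho (R.phi w), d1', d2', b1', b2', hN, ?_⟩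
  intro u hu huz
  obtain ⟨h1, h2⟩ := h.phi_subf hk R hy hy1 hyz hw hwz (R.le_pre h hy hy1 hyz hK) (R.pre_le H1) hu huz
  rw [← c.down_rho hsp h1, h2]

end Fam

end Cfsg.Agent.Omega.NO3S.Fit

end

section


/-!
# Text #13963 (helper311), section 4: the common shape of T5 and T9, module facts

`Shp R y P d`: `|M| = 16`, `P ⊴ H` has odd order and is inverted by the image of `W_y`, `C_M(d) = 0` for some
`d ∈ P`, `H = P · Stab(v0)` and `Stab(v0)` is a 2-group.
-/

set_option autoImplicit false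
set_option linter.unusedSectionVars false

namespace Cfsg.Agent.Omega.NO3S.Fit

open Subgroup Cfsg Cfsg.Agent.ZN Cfsg.Agent.MinSimple.Geo Cfsg.Agent.Omega.CaseL
open Cfsg.Agent.Omega.NO3S.Fit.PlaneForm (cm cm_eq_one cm_inv)
open Cfsg.Agent.Omega.NO3S.Fit.Abs (br fx cx)
open Cfsg.Agent.ZN.Block (conj_mem_of_normalizer conj_mem_of_normalizer' le_normalizer_of_forall
  mem_normalizer_of)

universe u

variable {G : Type u} [Group G]

/-- the common shape of T5 and T9 -/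
structure Shp {V : Subgroup G} {cf : G → Subgroup G} {z : G} {M H : Type u} [AddCommGroup M] [Group H]
    [DistribMulAction H M] (R : MRep V cf z M H) (y : G) (P : Subgroup H) (d : H) : Prop where
  card : Nat.card M = 16
  dP : d ∈ P
  fd : ∀ m : M, d • m = m → m = 0
  odd : Odd (Nat.card P)
  nor : ∀ x : H, ∀ p ∈ P, x * p * x⁻¹ ∈ P
  inv : ∀ a ∈ ww V cf y, a ∉ qq V cf z → ∀ p ∈ P, R.phi a * p * (R.phi a)⁻¹ = p⁻¹
  gen : ∀ x : H, ∃ p ∈ P, ∃ h0 : H, h0 • R.pi y = R.pi y ∧ x = p * h0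
  two : ∀ h0 : H, h0 • R.pi y = R.pi y → ∃ k : ℕ, h0 ^ 2 ^ k = 1

/-! ### Conjugation by `N_G(V)` -/

section conj

variable {T V : Subgroup G} {z : G} {cf : G → Subgroup G}

theorem Fam.mem_ww_conj (h : Fam T V z cf) {g p x : G} (hg : g ∈ normalizer (V : Set G)) (hp : p ∈ V)
    (hp1 : p ≠ 1) : x ∈ ww V cf (g * p * g⁻¹) ↔ g⁻¹ * x * g ∈ ww V cf p := by
  rw [← h.cj_ww hg hp hp1, mem_cj]

theorem Fam.mem_cf_conj (h : Fam T V z cf) {g p x : G} (hg : g ∈ normalizer (V : Set G)) (hp : p ∈ V)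
    (hp1 : p ≠ 1) : x ∈ cf (g * p * g⁻¹) ↔ g⁻¹ * x * g ∈ cf p := by
  rw [← h.cj_cf g hg p hp hp1, mem_cj]

theorem Fam.mem_qq_conj (h : Fam T V z cf) {g p x : G} (hg : g ∈ normalizer (V : Set G)) (hp : p ∈ V)
    (hp1 : p ≠ 1) : x ∈ qq V cf (g * p * g⁻¹) ↔ g⁻¹ * x * g ∈ qq V cf p := by
  rw [← h.cj_qq hg hp hp1, mem_cj]

/-- the module at `g z g⁻¹` -/
def MRep.cjr {M H : Type u} [AddCommGroup M] [Group H] [DistribMulAction H M] (R : MRep V cf z M H)
    (h : Fam T V z cf) {g : G} (hg : g ∈ normalizer (V : Set G)) : MRep V cf (g * z * g⁻¹) M H where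
  pi x := R.pi (g⁻¹ * x * g)
  phi x := R.phi (g⁻¹ * x * g)
  pi_mul := by
    intro a ha b hb
    rw [h.mem_ww_conj hg h.ln.z_mem h.ln.z_ne] at ha hb
    rw [← R.pi_mul _ ha _ hb]
    congr 1; group
  pi_surj := by
    intro m
    obtain ⟨w, hw, rfl⟩ := R.pi_surj m
    refine ⟨g * w * g⁻¹, ?_, ?_⟩
    · rw [h.mem_ww_conj hg h.ln.z_mem h.ln.z_ne]
      have : g⁻¹ * (g * w * g⁻¹) * g = w := by group
      rwa [this]
    · congr 1; group
  pi_ker := by
    intro w hw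
    rw [h.mem_ww_conj hg h.ln.z_mem h.ln.z_ne] at hw
    rw [R.pi_ker _ hw]
    constructor
    · rintro (e | e)
      · left
        have : w = g * (g⁻¹ * w * g) * g⁻¹ := by group
        rw [this, e]; group
      · right
        rw [← e]; group
    · rintro (e | e)
      · left; rw [e]; group
      · right; rw [e]; group
  phi_mul := by
    intro a ha b hb
    rw [h.mem_cf_conj hg h.ln.z_mem h.ln.z_ne] at ha hb
    rw [← R.phi_mul _ ha _ hb]
    congr 1; group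
  phi_surj := by
    intro x
    obtain ⟨w, hw, rfl⟩ := R.phi_surj x
    refine ⟨g * w * g⁻¹, ?_, ?_⟩
    · rw [h.mem_cf_conj hg h.ln.z_mem h.ln.z_ne]
      have : g⁻¹ * (g * w * g⁻¹) * g = w := by group
      rwa [this]
    · congr 1; group
  phi_ker := by
    intro c hc
    rw [h.mem_cf_conj hg h.ln.z_mem h.ln.z_ne] at hc
    rw [h.mem_qq_conj hg h.ln.z_mem h.ln.z_ne, R.phi_ker _ hc]
  act := by
    intro c hc w hw
    rw [h.mem_cf_conj hg h.ln.z_mem h.ln.z_ne] at hc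
    rw [h.mem_ww_conj hg h.ln.z_mem h.ln.z_ne] at hw
    rw [R.act _ hc _ hw]
    congr 1; group

theorem MRep.cjr_pi {M H : Type u} [AddCommGroup M] [Group H] [DistribMulAction H M] (R : MRep V cf z M H)
    (h : Fam T V z cf) {g : G} (hg : g ∈ normalizer (V : Set G)) (x : G) :
    (R.cjr h hg).pi x = R.pi (g⁻¹ * x * g) := rfl

theorem MRep.cjr_phi {M H : Type u} [AddCommGroup M] [Group H] [DistribMulAction H M] (R : MRep V cf z M H)
    (h : Fam T V z cf) {g : G} (hg : g ∈ normalizer (V : Set G)) (x : G) :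
    (R.cjr h hg).phi x = R.phi (g⁻¹ * x * g) := rfl

theorem Shp.cjs {M H : Type u} [AddCommGroup M] [Group H] [DistribMulAction H M] {R : MRep V cf z M H}
    {y : G} {P : Subgroup H} {d : H} (S : Shp R y P d) (h : Fam T V z cf) (hy : y ∈ V) (hy1 : y ≠ 1) {g : G}
    (hg : g ∈ normalizer (V : Set G)) : Shp (R.cjr h hg) (g * y * g⁻¹) P d := by
  have e : g⁻¹ * (g * y * g⁻¹) * g = y := by group
  refine
    { card := S.card, dP := S.dP, fd := S.fd, odd := S.odd, nor := S.nor, inv := ?_, gen := ?_, two := ?_ }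
  · intro a ha haQ p hp
    rw [h.mem_ww_conj hg hy hy1] at ha
    rw [h.mem_qq_conj hg h.ln.z_mem h.ln.z_ne] at haQ
    exact S.inv _ ha haQ p hp
  · intro x
    obtain ⟨p, hp, h0, h1, h2⟩ := S.gen x
    refine ⟨p, hp, h0, ?_, h2⟩
    rw [R.cjr_pi h hg, e]
    exact h1
  · intro h0 h1
    rw [R.cjr_pi h hg, e] at h1
    exact S.two h0 h1

/-- the situation of section 4 -/
structure Dat (T V : Subgroup G) (z : G) (cf : G → Subgroup G) (y : G) : Prop where
  fam : Fam T V z cf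
  hy : y ∈ V
  hy1 : y ≠ 1
  hyz : y ≠ z
  shp : ∃ (M H : Type u) (_ : AddCommGroup M) (_ : Group H) (_ : DistribMulAction H M)
    (_ : FaithfulSMul H M) (R : MRep V cf z M H) (P : Subgroup H) (d : H), Shp R y P d

/-- the same at every pair of points -/
theorem Dat.at {y : G} (D : Dat T V z cf y) {p q : G} (hp : p ∈ V) (hp1 : p ≠ 1) (hq : q ∈ V) (hq1 : q ≠ 1)
    (hqp : q ≠ p) : ∃ T', Dat T' V p cf q := by
  have h := D.fam
  obtain ⟨g, hg, e1, e2⟩ := h.trans2 h.ln.z_mem h.ln.z_ne D.hy D.hy1 D.hyz hp hp1 hq hq1 hqp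
  obtain ⟨M, H, _, _, _, _, R, P, d, S⟩ := D.shp
  subst e1
  subst e2
  exact ⟨cj g T, h.conj hg, hq, hq1, hqp, M, H, _, _, _, ‹_›, R.cjr h hg, P, d, S.cjs h D.hy D.hy1 hg⟩

end conj

/-! ### Module facts -/

section module

variable {T V : Subgroup G} {z : G} {cf : G → Subgroup G} {M H : Type u} [AddCommGroup M] [Group H]
  [DistribMulAction H M] {R : MRep V cf z M H} {y : G} {P : Subgroup H} {d : H}

namespace Shp

theorem finM (S : Shp R y P d) : Finite M := Nat.finite_of_card_ne_zero (by rw [S.card]; decide)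

theorem odd_of (S : Shp R y P d) {p : H} (hp : p ∈ P) : Odd (orderOf p) := by
  have h1 : orderOf p ∣ Nat.card P := by
    have := orderOf_dvd_natCard (⟨p, hp⟩ : P)
    rwa [Subgroup.orderOf_mk] at this
  exact S.odd.of_dvd_nat h1

variable [Finite G] (S : Shp R y P d) (h : Fam T V z cf) (hy : y ∈ V) (hy1 : y ≠ 1) (hyz : y ≠ z)
include S h hy hy1 hyz

/-- `k = 1` -/
theorem one1 [FaithfulSMul H M] : Fam.One1 V cf := by
  have hz := h.ln.z_mem
  have hz1 := h.ln.z_ne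
  refine h.one1_of hy hy1 hz hz1 (Ne.symm hyz) fun w hw w' hw' hwQ hwQ' => ?_
  have hwc := h.ww_le_cf' hy hy1 hz hz1 hw
  have hwc' := h.ww_le_cf' hy hy1 hz hz1 hw'
  have hww : w * w' ∈ ww V cf y := mul_mem hw hw'
  have hwwc := h.ww_le_cf' hy hy1 hz hz1 hww
  have two := R.two h
  rw [← R.phi_ker _ hwwc]
  have hcd : R.phi (w * w') * d = d * R.phi (w * w') := by
    have e1 := S.inv w hw hwQ d S.dP
    have e2 := S.inv w' hw' hwQ' d S.dP
    rw [R.phi_mul w hwc w' hwc']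
    have e3 : R.phi w * R.phi w' * d * (R.phi w * R.phi w')⁻¹ = d := by
      calc R.phi w * R.phi w' * d * (R.phi w * R.phi w')⁻¹ =
            R.phi w * (R.phi w' * d * (R.phi w')⁻¹) * (R.phi w)⁻¹ := by group
        _ = (R.phi w * d * (R.phi w)⁻¹)⁻¹ := by rw [e2]; group
        _ = d := by rw [e1, inv_inv]
    exact mul_inv_eq_iff_eq_mul.mp e3
  have hdo := S.odd_of S.dP
  refine FaithfulSMul.eq_of_smul_eq_smul (α := M) fun m => ?_
  rw [one_smul]
  -- `n := c m - m` is fixed by `w`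
  have hq : ∀ m : M, R.phi w • (R.phi (w * w') • m - m) = R.phi (w * w') • m - m := by
    intro m
    obtain ⟨v, hv, rfl⟩ := R.pi_surj m
    exact R.quad h hy hy1 hyz hw hww hv
  set n := R.phi (w * w') • m - m with hn
  have h1 : d • n = R.phi (w * w') • (d • m) - d • m := by
    rw [hn, smul_sub, ← mul_smul, ← hcd, mul_smul]
  have h2 := hq (d • m)
  rw [← h1] at h2
  have h3 : R.phi w • d • n = d⁻¹ • n := Abs.inv_smul_of_inv (S.inv w hw hwQ d S.dP) (hq m)
  have h4 : d • d • n = n := by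
    rw [← h2, h3, smul_inv_smul]
  have h5 := S.fd n (Abs.fix_of_sq hdo h4)
  exact sub_eq_zero.mp h5

theorem br_top : br M d = ⊤ := by
  have h1 := Abs.sup_br_fx (M := M) (R.two h) (S.odd_of S.dP)
  have h2 : fx M d = ⊥ := by
    rw [eq_bot_iff]
    intro m hm
    rw [AddSubgroup.mem_bot]
    exact S.fd m hm
  rwa [h2, sup_bot_eq] at h1

section a

variable {a : G} (ha : a ∈ ww V cf y) (haQ : a ∉ qq V cf z)
include ha haQ

theorem aa : R.phi a * R.phi a = 1 := R.sq_A h hy hy1 ha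

theorem card_fx : Nat.card (fx M (R.phi a)) = 4 := by
  have := S.finM
  have h1 := (Abs.card_br_eq (M := M) (R.two h) (S.aa h hy hy1 hyz ha haQ) (S.odd_of S.dP) (S.inv a ha haQ d S.dP)).1
  have h2 : cx M (R.phi a) d = fx M (R.phi a) := by
    unfold cx
    rw [S.br_top h hy hy1 hyz, top_inf_eq]
  rw [h2, S.br_top h hy hy1 hyz] at h1
  have h3 : Nat.card (⊤ : AddSubgroup M) = 16 := by
    rw [← S.card]
    exact Nat.card_congr AddSubgroup.topEquiv.toEquiv
  rw [h3] at h1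
  nlinarith

/-- `C_M(a) ≤ [M, a]` -/
theorem exists_of_fx {m : M} (hm : R.phi a • m = m) : ∃ n : M, R.phi a • n - n = m := by
  have := S.finM
  have h2 : m ∈ cx M (R.phi a) d := by
    refine ⟨?_, hm⟩
    rw [S.br_top h hy hy1 hyz]
    trivial
  obtain ⟨n, -, e⟩ := Abs.cx_le_br (M := M) (R.two h) (S.aa h hy hy1 hyz ha haQ) (S.odd_of S.dP) (S.inv a ha haQ d S.dP) h2
  exact ⟨n, e⟩

/-- (F2) -/
theorem mem_jj_of {w : G} (hw : w ∈ ww V cf z) (hwa : cm w a = 1 ∨ cm w a = z) : w ∈ jj V cf := by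
  have hz := h.ln.z_mem
  have hz1 := h.ln.z_ne
  have hac := h.ww_le_cf' hy hy1 hz hz1 ha
  have h1 : R.phi a • R.pi w = R.pi w := by
    rw [← sub_eq_zero, R.comm_eq h hac hw]
    change R.pi (cm a w) = 0
    rw [← cm_inv]
    rcases hwa with e | e
    · rw [e, inv_one, R.pi_one h]
    · rw [e, h.ln.inv_eq hz, R.pi_z h]
  obtain ⟨n, hn⟩ := S.exists_of_fx h hy hy1 hyz ha haQ h1
  obtain ⟨v, hv, rfl⟩ := R.pi_surj n
  rw [R.comm_eq h hac hv] at hn
  have h2 : a * v * a⁻¹ * v⁻¹ ∈ jj V cf := h.comm_mem_jj hy hy1 hz hz1 (Ne.symm hyz) ha hv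
  rcases (R.pi_eq h (Fam.jj_le hz hz1 h2) hw).mp hn with e | e
  · rw [← e]; exact h2
  · have e2 : w = z * (a * v * a⁻¹ * v⁻¹) := by rw [e, ← mul_assoc, h.ln.zz, one_mul]
    rw [e2]
    exact mul_mem (h.V_le_jj hz) h2

theorem fx_of_jj {u : G} (hu : u ∈ jj V cf) : R.phi a • R.pi u = R.pi u := by
  have hz := h.ln.z_mem
  have hz1 := h.ln.z_ne
  rw [R.act a (h.ww_le_cf' hy hy1 hz hz1 ha) u (Fam.jj_le hz hz1 hu),
    conj_eq_of_comm (h.comm hy hy1 a ha u (Fam.jj_le hy hy1 hu))]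

theorem mem_jj_of_fx {w : G} (hw : w ∈ ww V cf z) (hwa : R.phi a • R.pi w = R.pi w) : w ∈ jj V cf := by
  have hz := h.ln.z_mem
  have hz1 := h.ln.z_ne
  refine S.mem_jj_of h hy hy1 hyz ha haQ hw ?_
  have h1 : R.pi (a * w * a⁻¹ * w⁻¹) = 0 := by
    rw [← R.comm_eq h (h.ww_le_cf' hy hy1 hz hz1 ha) hw, hwa, sub_self]
  have h2 : a * w * a⁻¹ * w⁻¹ ∈ ww V cf z := (h.comm_mem hy hy1 hz hz1 ha hw).2
  rw [← cm_inv]
  rcases (R.pi_ker _ h2).mp h1 with e | e
  · left
    change (a * w * a⁻¹ * w⁻¹)⁻¹ = 1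
    rw [e, inv_one]
  · right
    change (a * w * a⁻¹ * w⁻¹)⁻¹ = z
    rw [e, h.ln.inv_eq hz]

theorem pi_V {v : G} (hv : v ∈ V) : R.pi v = 0 ∨ R.pi v = R.pi y := by
  rcases h.ln.four h.ln.z_mem hy h.ln.z_ne hy1 (Ne.symm hyz) hv with e | e | e | e <;> rw [e]
  · left; rw [R.pi_one h]
  · left; rw [R.pi_z h]
  · right; rfl
  · right; rw [R.pi_mul z h.z_mem_ww y (h.V_le hy), R.pi_z h, zero_add]

theorem mem_V_of_pi {w : G} (hw : w ∈ ww V cf z) (e : R.pi w = 0 ∨ R.pi w = R.pi y) : w ∈ V := by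
  rcases e with e | e
  · rcases (R.pi_ker w hw).mp e with e | e <;> rw [e]
    · exact one_mem _
    · exact h.ln.z_mem
  · rcases (R.pi_eq h hw (h.V_le hy)).mp e with e | e <;> rw [e]
    · exact hy
    · exact mul_mem h.ln.z_mem hy

/-- (F3) -/
theorem exists_jj : ∃ e ∈ jj V cf, e ∉ V := by
  obtain ⟨m, hm, hm0, hmy⟩ := Abs.exists_ne_ne_of_card (S.card_fx h hy hy1 hyz ha haQ) (u := R.pi y)
  obtain ⟨w, hw, rfl⟩ := R.pi_surj m
  refine ⟨w, S.mem_jj_of_fx h hy hy1 hyz ha haQ hw hm, fun hV => ?_⟩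
  rcases S.pi_V h hy hy1 hyz ha haQ hV with e | e
  · exact hm0 e
  · exact hmy e

/-- (F3) -/
theorem jj_mul {u v : G} (hu : u ∈ jj V cf) (hv : v ∈ jj V cf) (huV : u ∉ V) (hvV : v ∉ V) : u * v ∈ V := by
  have hz := h.ln.z_mem
  have hz1 := h.ln.z_ne
  have two := R.two h
  have huW := Fam.jj_le hz hz1 hu
  have hvW := Fam.jj_le hz hz1 hv
  have hv0 : R.pi y ≠ 0 := R.v0_ne h hy hy1 hyz
  have hu1 : R.pi u ≠ 0 ∧ R.pi u ≠ R.pi y :=
    ⟨fun e => huV (S.mem_V_of_pi h hy hy1 hyz ha haQ huW (Or.inl e)),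
      fun e => huV (S.mem_V_of_pi h hy hy1 hyz ha haQ huW (Or.inr e))⟩
  have hv1 : R.pi v ≠ 0 ∧ R.pi v ≠ R.pi y :=
    ⟨fun e => hvV (S.mem_V_of_pi h hy hy1 hyz ha haQ hvW (Or.inl e)),
      fun e => hvV (S.mem_V_of_pi h hy hy1 hyz ha haQ hvW (Or.inr e))⟩
  refine S.mem_V_of_pi h hy hy1 hyz ha haQ (mul_mem huW hvW) ?_
  rw [R.pi_mul u huW v hvW]
  rcases Abs.mem_four (S.card_fx h hy hy1 hyz ha haQ) two (S.fx_of_jj h hy hy1 hyz ha haQ (h.V_le_jj hy))
    (S.fx_of_jj h hy hy1 hyz ha haQ hu) hv0 hu1.1 (Ne.symm hu1.2)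
    (S.fx_of_jj h hy hy1 hyz ha haQ hv) with e | e | e | e
  · exact absurd e hv1.1
  · exact absurd e hv1.2
  · left; rw [e, two]
  · right
    rw [e, add_comm (R.pi y), ← add_assoc, two, zero_add]

/-- some `w ∈ W_z` with `[w, a] ∉ V` -/
theorem exists_w0 : ∃ w ∈ ww V cf z, cm w a ∉ V := by
  have hz := h.ln.z_mem
  have hz1 := h.ln.z_ne
  have hac := h.ww_le_cf' hy hy1 hz hz1 ha
  obtain ⟨e, he, heV⟩ := S.exists_jj h hy hy1 hyz ha haQ
  obtain ⟨n, hn⟩ := S.exists_of_fx h hy hy1 hyz ha haQ (S.fx_of_jj h hy hy1 hyz ha haQ he)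
  obtain ⟨v, hv, rfl⟩ := R.pi_surj n
  rw [R.comm_eq h hac hv] at hn
  refine ⟨v, hv, fun hV => heV ?_⟩
  rw [← cm_inv, inv_mem_iff] at hV
  have h2 : cm a v ∈ ww V cf z := (h.comm_mem hy hy1 hz hz1 ha hv).2
  rcases (R.pi_eq h h2 (Fam.jj_le hz hz1 he)).mp hn with e1 | e1
  · rw [← e1]; exact hV
  · have e2 : e = z * cm a v := by rw [e1, ← mul_assoc, h.ln.zz, one_mul]
    rw [e2]
    exact mul_mem hz hV

end a

end Shp

end module

end Cfsg.Agent.Omega.NO3S.Fit

end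

section


/-!
# Text #13963 (helper311), section 4: more module facts

* `Fam.ww_le_T'`;
* `Shp.mem_qq_iff` : for `w ∈ W_z`: `w ∈ Q_y ↔ [w, a] ∈ V`;
* `Shp.irr` : `M` is irreducible;
* `Shp.sseven` (S7) : an element of `C_G(V)` which centralises `I` and with `[W_z ∩ Q_y, k] ≤ ⟨y⟩` acts on `M` as
  `1` or `a`;
* `XX`, `OO`, `Shp.lift`, `Shp.gen_XX`, `Shp.ann`.
-/

set_option autoImplicit false
set_option linter.unusedSectionVars false

namespace Cfsg.Agent.Omega.NO3S.Fit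

open Subgroup Cfsg Cfsg.Agent.ZN Cfsg.Agent.MinSimple.Geo Cfsg.Agent.Omega.CaseL
open Cfsg.Agent.Omega.NO3S.Fit.PlaneForm (cm cm_eq_one cm_inv)
open Cfsg.Agent.Omega.NO3S.Fit.Abs (br fx cx)
open Cfsg.Agent.ZN.Block (conj_mem_of_normalizer conj_mem_of_normalizer' le_normalizer_of_forall
  mem_normalizer_of)

universe u

variable {G : Type u} [Group G]

/-- `X_p` -/
def XX (V : Subgroup G) (cf : G → Subgroup G) (p : G) : Subgroup G :=
  closure {x | ∃ c ∈ cf p, ∃ q ∈ V, q ≠ 1 ∧ ∃ g ∈ ww V cf q, x = c * g * c⁻¹}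

/-- `O_p` -/
def OO (V : Subgroup G) (cf : G → Subgroup G) (p : G) : Subgroup G :=
  closure {x | ∃ c ∈ cf p, ∃ q ∈ V, q ≠ 1 ∧ ∃ g ∈ ww V cf q, g ∈ qq V cf p ∧ x = c * g * c⁻¹}

section fam

variable {T V : Subgroup G} {z : G} {cf : G → Subgroup G}

theorem mem_XX {p c q g : G} (hc : c ∈ cf p) (hq : q ∈ V) (hq1 : q ≠ 1) (hg : g ∈ ww V cf q) :
    c * g * c⁻¹ ∈ XX V cf p := subset_closure ⟨c, hc, q, hq, hq1, g, hg, rfl⟩

theorem mem_OO {p c q g : G} (hc : c ∈ cf p) (hq : q ∈ V) (hq1 : q ≠ 1) (hg : g ∈ ww V cf q)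
    (hgQ : g ∈ qq V cf p) : c * g * c⁻¹ ∈ OO V cf p := subset_closure ⟨c, hc, q, hq, hq1, g, hg, hgQ, rfl⟩

theorem mem_XX' {p q g : G} (hq : q ∈ V) (hq1 : q ≠ 1) (hg : g ∈ ww V cf q) : g ∈ XX V cf p := by
  have := mem_XX (V := V) (cf := cf) (one_mem (cf p)) hq hq1 hg
  simpa using this

theorem mem_OO' {p q g : G} (hq : q ∈ V) (hq1 : q ≠ 1) (hg : g ∈ ww V cf q) (hgQ : g ∈ qq V cf p) :
    g ∈ OO V cf p := by
  have := mem_OO (V := V) (cf := cf) (one_mem (cf p)) hq hq1 hg hgQ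
  simpa using this

theorem OO_le_XX (V : Subgroup G) (cf : G → Subgroup G) (p : G) : OO V cf p ≤ XX V cf p := by
  refine closure_le _ |>.mpr ?_
  rintro x ⟨c, hc, q, hq, hq1, g, hg, -, rfl⟩
  exact mem_XX hc hq hq1 hg

namespace Fam

theorem XX_le_cf (h : Fam T V z cf) {p : G} (hp : p ∈ V) (hp1 : p ≠ 1) : XX V cf p ≤ cf p := by
  refine closure_le _ |>.mpr ?_
  rintro x ⟨c, hc, q, hq, hq1, g, hg, rfl⟩
  exact mul_mem (mul_mem hc (h.ww_le_cf' hq hq1 hp hp1 hg)) (inv_mem hc)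

theorem OO_le_qq (h : Fam T V z cf) {p : G} (hp : p ∈ V) (hp1 : p ≠ 1) : OO V cf p ≤ qq V cf p := by
  refine closure_le _ |>.mpr ?_
  rintro x ⟨c, hc, q, hq, hq1, g, hg, hgQ, rfl⟩
  exact conj_mem_of_normalizer (h.cf_norm_qq hp hp1) hc hgQ

theorem cf_norm_XX (_ : Fam T V z cf) {p : G} : cf p ≤ normalizer ((XX V cf p : Subgroup G) : Set G) := by
  refine le_normalizer_of_forall fun c hc x hx => ?_
  induction hx using closure_induction with
  | mem x hx =>
    obtain ⟨c', hc', q, hq, hq1, g, hg, rfl⟩ := hx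
    have e : c * (c' * g * c'⁻¹) * c⁻¹ = (c * c') * g * (c * c')⁻¹ := by group
    rw [e]
    exact mem_XX (mul_mem hc hc') hq hq1 hg
  | one => simp
  | mul a b _ _ ha hb =>
    have e : c * (a * b) * c⁻¹ = (c * a * c⁻¹) * (c * b * c⁻¹) := by group
    rw [e]
    exact mul_mem ha hb
  | inv a _ ha =>
    have e : c * a⁻¹ * c⁻¹ = (c * a * c⁻¹)⁻¹ := by group
    rw [e]
    exact inv_mem ha

theorem cf_norm_OO (_ : Fam T V z cf) {p : G} : cf p ≤ normalizer ((OO V cf p : Subgroup G) : Set G) := by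
  refine le_normalizer_of_forall fun c hc x hx => ?_
  induction hx using closure_induction with
  | mem x hx =>
    obtain ⟨c', hc', q, hq, hq1, g, hg, hgQ, rfl⟩ := hx
    have e : c * (c' * g * c'⁻¹) * c⁻¹ = (c * c') * g * (c * c')⁻¹ := by group
    rw [e]
    exact mem_OO (mul_mem hc hc') hq hq1 hg hgQ
  | one => simp
  | mul a b _ _ ha hb =>
    have e : c * (a * b) * c⁻¹ = (c * a * c⁻¹) * (c * b * c⁻¹) := by group
    rw [e]
    exact mul_mem ha hb
  | inv a _ ha =>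
    have e : c * a⁻¹ * c⁻¹ = (c * a * c⁻¹)⁻¹ := by group
    rw [e]
    exact inv_mem ha

theorem conj_XX (h : Fam T V z cf) {g p x : G} (hg : g ∈ normalizer (V : Set G)) (hp : p ∈ V) (hp1 : p ≠ 1)
    (hx : x ∈ XX V cf p) : g * x * g⁻¹ ∈ XX V cf (g * p * g⁻¹) := by
  induction hx using closure_induction with
  | mem x hx =>
    obtain ⟨c', hc', q, hq, hq1, w, hw, rfl⟩ := hx
    have e : g * (c' * w * c'⁻¹) * g⁻¹ = (g * c' * g⁻¹) * (g * w * g⁻¹) * (g * c' * g⁻¹)⁻¹ := by group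
    rw [e]
    exact mem_XX (h.conj_cf hg hp hp1 hc') (h.conj_pt hg hq) (conj_ne hq1) (h.conj_ww hg hq hq1 hw)
  | one => simp
  | mul a b _ _ ha hb =>
    have e : g * (a * b) * g⁻¹ = (g * a * g⁻¹) * (g * b * g⁻¹) := by group
    rw [e]
    exact mul_mem ha hb
  | inv a _ ha =>
    have e : g * a⁻¹ * g⁻¹ = (g * a * g⁻¹)⁻¹ := by group
    rw [e]
    exact inv_mem ha

theorem conj_OO (h : Fam T V z cf) {g p x : G} (hg : g ∈ normalizer (V : Set G)) (hp : p ∈ V) (hp1 : p ≠ 1)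
    (hx : x ∈ OO V cf p) : g * x * g⁻¹ ∈ OO V cf (g * p * g⁻¹) := by
  induction hx using closure_induction with
  | mem x hx =>
    obtain ⟨c', hc', q, hq, hq1, w, hw, hwQ, rfl⟩ := hx
    have e : g * (c' * w * c'⁻¹) * g⁻¹ = (g * c' * g⁻¹) * (g * w * g⁻¹) * (g * c' * g⁻¹)⁻¹ := by group
    rw [e]
    exact mem_OO (h.conj_cf hg hp hp1 hc') (h.conj_pt hg hq) (conj_ne hq1) (h.conj_ww hg hq hq1 hw)
      (h.conj_qq hg hp hp1 hwQ)
  | one => simp
  | mul a b _ _ ha hb =>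
    have e : g * (a * b) * g⁻¹ = (g * a * g⁻¹) * (g * b * g⁻¹) := by group
    rw [e]
    exact mul_mem ha hb
  | inv a _ ha =>
    have e : g * a⁻¹ * g⁻¹ = (g * a * g⁻¹)⁻¹ := by group
    rw [e]
    exact inv_mem ha

/-- all `W_p` are in `T` -/
theorem ww_le_T' [Finite G] (h : Fam T V z cf) {p : G} (hp : p ∈ V) (hp1 : p ≠ 1) : ww V cf p ≤ T := by
  have hz := h.ln.z_mem
  have hz1 := h.ln.z_ne
  by_cases hpz : p = z
  · rw [hpz]; exact h.ww_le_T
  have hzp : z * p ∈ V := mul_mem hz hp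
  have hzp1 : z * p ≠ 1 := h.mul_ne_one hp (Ne.symm hpz)
  refine le_trans le_sup_left (h.le_T (R := ww V cf p ⊔ ww V cf (z * p)) ?_ ?_)
  · exact (h.two_ww hp hp1).to_sup_of_normal_left' (h.two_ww hzp hzp1)
      ((h.ww_le_cent hzp hzp1).trans (h.cent_norm hp hp1))
  · intro t ht
    have htV := h.ln.T_norm ht
    have htz := h.ln.z_comm (h.ln.T_le ht)
    rw [mem_normalizer_iff_cj]
    have e0 : cj t (ww V cf p ⊔ ww V cf (z * p)) = cj t (ww V cf p) ⊔ cj t (ww V cf (z * p)) := map_sup _ _ _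
    have ez : t * z * t⁻¹ = z := conj_eq_of_comm htz
    have e1 : t * (z * p) * t⁻¹ = z * (t * p * t⁻¹) := by
      calc t * (z * p) * t⁻¹ = (t * z * t⁻¹) * (t * p * t⁻¹) := by group
        _ = z * (t * p * t⁻¹) := by rw [ez]
    rw [e0, h.cj_ww htV hp hp1, h.cj_ww htV hzp hzp1, e1]
    rcases h.ln.conj_cases hz hp hz1 htz htV with e | e
    · rw [e]
    · rw [e]
      have : z * (z * p) = p := by rw [← mul_assoc, h.ln.zz, one_mul]
      rw [this, sup_comm]

/-- `[w, a] ∈ V` if and only if `w ∈ Q_y` -/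
theorem mem_qq_iff (h : Fam T V z cf) (hk : One1 V cf) {y : G} (hy : y ∈ V) (hy1 : y ≠ 1) (hyz : y ≠ z)
    {a w0 : G} (ha : a ∈ ww V cf y) (hw0 : w0 ∈ ww V cf z) (hw0V : cm w0 a ∉ V) {w : G}
    (hw : w ∈ ww V cf z) : w ∈ qq V cf y ↔ cm w a ∈ V := by
  have hz := h.ln.z_mem
  have hz1 := h.ln.z_ne
  have key : ∀ w ∈ qq V cf y, cm w a ∈ V := by
    intro w hwQ
    rcases h.cm_qq' hy hwQ ha with e | e <;> rw [e]
    · exact one_mem _
    · exact hy
  refine ⟨key w, fun hwV => ?_⟩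
  by_contra hwQ
  have hw0Q : w0 ∉ qq V cf y := fun e => hw0V (key w0 e)
  have h1 := hk z hz hz1 y hy hy1 hyz w hw w0 hw0 hwQ hw0Q
  have h2 := key _ h1
  have h3 : cm w0 a ∈ ww V cf z := (h.comm_mem hz hz1 hy hy1 hw0 ha).1
  rw [cm_mul_left, h.ab w hw _ h3, mul_inv_cancel_right] at h2
  apply hw0V
  have := mul_mem h2 (inv_mem hwV)
  rwa [mul_inv_cancel_right] at this

end Fam

end fam

section module

variable {T V : Subgroup G} {z : G} {cf : G → Subgroup G} {M H : Type u} [AddCommGroup M] [Group H]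
  [DistribMulAction H M] {R : MRep V cf z M H} {y : G} {P : Subgroup H} {d : H}

namespace Shp

variable [Finite G] (S : Shp R y P d) (h : Fam T V z cf) (hy : y ∈ V) (hy1 : y ≠ 1) (hyz : y ≠ z)
include S h hy hy1 hyz

/-- `M` is irreducible. -/
theorem irr (N : AddSubgroup M) (hN : ∀ x : H, ∀ n ∈ N, x • n ∈ N) {n0 : M} (hn0 : n0 ∈ N)
    (hn1 : n0 ≠ 0) (m : M) : m ∈ N := by
  have hz := h.ln.z_mem
  have hz1 := h.ln.z_ne
  have hfM := S.finM
  have two := R.two h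
  have hfact : Fact (Nat.Prime 2) := ⟨Nat.prime_two⟩
  obtain ⟨a, ha, haQ⟩ := h.exists_not_qq hy hy1 hz hz1 (Ne.symm hyz)
  let _ : MulAction (R.img T) N :=
    { smul := fun x n => ⟨(x : H) • (n : M), hN x n n.2⟩
      one_smul := fun n => Subtype.ext (one_smul H (n : M))
      mul_smul := fun x y n => Subtype.ext (mul_smul (x : H) (y : H) (n : M)) }
  have hsm : ∀ (x : R.img T) (n : N), ((x • n : N) : M) = (x : H) • (n : M) := fun _ _ => rfl
  have hp := R.img_T_two h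
  have hdvd : 2 ∣ Nat.card N := by
    obtain ⟨k, hk⟩ := Abs.exists_card_two_pow two N
    rw [hk]
    refine dvd_pow_self 2 ?_
    rintro rfl
    rw [pow_zero] at hk
    have : Subsingleton N := (Nat.card_eq_one_iff_unique.mp hk).1
    exact hn1 (congrArg Subtype.val (Subsingleton.elim (⟨n0, hn0⟩ : N) 0))
  have h0 : (0 : N) ∈ MulAction.fixedPoints (R.img T) N := fun x => Subtype.ext (by
    rw [hsm]; exact smul_zero _)
  obtain ⟨b, hb, hb0⟩ := hp.exists_fixed_point_of_prime_dvd_card_of_fixed_point N hdvd h0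
  have hbT : ∀ x ∈ R.img T, x • (b : M) = b := fun x hx => by
    have := congrArg Subtype.val (hb ⟨x, hx⟩)
    rwa [hsm] at this
  have hb1 : (b : M) ≠ 0 := fun e => hb0 (Subtype.ext e.symm)
  obtain ⟨w, hw, hwb⟩ := R.pi_surj (b : M)
  have haT : R.phi a ∈ R.img T := (R.mem_img h.T_le_cf).mpr ⟨a, h.ww_le_T' hy hy1 ha, rfl⟩
  have hwj : w ∈ jj V cf := S.mem_jj_of_fx h hy hy1 hyz ha haQ hw (by rw [hwb]; exact hbT _ haT)
  have hv0 : R.pi y ∈ N := by
    rcases R.fixI h hy hy1 hyz hwj (by rw [hwb]; exact hbT) with e | e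
    · exact absurd (hwb.symm.trans e) hb1
    · rw [← e, hwb]; exact b.2
  have hm : m ∈ AddSubgroup.closure (Set.range fun x : H => x • R.pi y) := by
    rw [R.span h hy hy1 hyz]; trivial
  refine (AddSubgroup.closure_le N).mpr ?_ hm
  rintro _ ⟨x, rfl⟩
  exact hN x _ hv0

/-- every element of `P` has a lift in `X_z` -/
theorem lift {p : H} (hp : p ∈ P) : ∃ t ∈ XX V cf z, R.phi t = p := by
  have hz := h.ln.z_mem
  have hz1 := h.ln.z_ne
  obtain ⟨a, ha, haQ⟩ := h.exists_not_qq hy hy1 hz hz1 (Ne.symm hyz)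
  have hac := h.ww_le_cf' hy hy1 hz hz1 ha
  obtain ⟨k, hk⟩ := S.odd_of hp
  have hq : p ^ (k + 1) ∈ P := pow_mem hp _
  have hqq : p ^ (k + 1) * p ^ (k + 1) = p := by
    rw [← pow_add, show k + 1 + (k + 1) = (2 * k + 1) + 1 by ring, pow_add, ← hk, pow_orderOf_eq_one, one_mul,
      pow_one]
  obtain ⟨c, hc, hcq⟩ := R.phi_surj (p ^ (k + 1))
  have hinv := S.inv a ha haQ _ (inv_mem hq)
  refine ⟨c * a * c⁻¹ * a⁻¹, mul_mem (mem_XX hc hy hy1 ha) (inv_mem (mem_XX' hy hy1 ha)), ?_⟩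
  rw [R.phi_mul _ (mul_mem (mul_mem hc hac) (inv_mem hc)) _ (inv_mem hac),
    R.phi_mul _ (mul_mem hc hac) _ (inv_mem hc), R.phi_mul c hc a hac, R.phi_inv hc, R.phi_inv hac, hcq]
  calc p ^ (k + 1) * R.phi a * (p ^ (k + 1))⁻¹ * (R.phi a)⁻¹ =
        p ^ (k + 1) * (R.phi a * (p ^ (k + 1))⁻¹ * (R.phi a)⁻¹) := by group
    _ = p ^ (k + 1) * p ^ (k + 1) := by rw [hinv, inv_inv]
    _ = p := hqq

/-- `C_z = X_z (N_G(V) ∩ C_G(z))` -/
theorem gen_XX {c : G} (hc : c ∈ cf z) : ∃ x ∈ XX V cf z, ∃ n ∈ normalizer (V : Set G), n * z = z * n ∧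
    c = x * n := by
  have hz := h.ln.z_mem
  have hz1 := h.ln.z_ne
  obtain ⟨p, hp, h0, h1, h2⟩ := S.gen (R.phi c)
  obtain ⟨x, hx, rfl⟩ := S.lift h hy hy1 hyz hp
  obtain ⟨n, hn, rfl⟩ := R.stab h hy hy1 hyz h1
  have hxc := h.XX_le_cf hz hz1 hx
  have hnc := h.cent_le_cf hz hz1 hn
  have h3 : x⁻¹ * c ∈ cf z := mul_mem (inv_mem hxc) hc
  have h4 : x⁻¹ * c * n⁻¹ ∈ qq V cf z := by
    rw [← R.phi_ker _ (mul_mem h3 (inv_mem hnc)), R.phi_mul _ h3 _ (inv_mem hnc), R.phi_inv hnc,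
      R.phi_mul _ (inv_mem hxc) c hc, R.phi_inv hxc, h2]
    group
  refine ⟨x, hx, x⁻¹ * c * n⁻¹ * n, ?_, ?_, by group⟩
  · exact mul_mem (h.qq_le_normalizer hz h4) (centralizer_le_normalizer _ hn)
  · have e : x⁻¹ * c * n⁻¹ * n = x⁻¹ * c := by group
    rw [e]
    exact h.cf_comm hz hz1 h3

/-- `[w, O_z] = 1` only for `w ∈ ⟨z⟩` -/
theorem ann [FaithfulSMul H M] {w : G} (hw : w ∈ ww V cf z) (hwO : ∀ o ∈ OO V cf z, o * w = w * o) :
    w = 1 ∨ w = z := by
  have hz := h.ln.z_mem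
  have hz1 := h.ln.z_ne
  have hk := S.one1 h hy hy1 hyz
  obtain ⟨a, ha, haQ⟩ := h.exists_not_qq hy hy1 hz hz1 (Ne.symm hyz)
  obtain ⟨w0, hw0, hw0V⟩ := S.exists_w0 h hy hy1 hyz ha haQ
  obtain ⟨w1, hw1, hw1y⟩ := h.pl_one hk hy hy1 hyz ha haQ hw0 hw0V
  have hw1Q : w1 ∈ qq V cf y := (h.mem_qq_iff hk hy hy1 hyz ha hw0 hw0V hw1).mpr (by rw [hw1y]; exact hy)
  -- `u ∈ W_y ∩ Q_z`, `b ∈ W_z` with `[u, b] = z`
  obtain ⟨u, hu, huQ, b, hb, hub⟩ : ∃ u ∈ ww V cf y, u ∈ qq V cf z ∧ ∃ b ∈ ww V cf z, u * b ≠ b * u := by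
    obtain ⟨g, hg, e1, e2⟩ := h.trans2 hz hz1 hy hy1 hyz hy hy1 hz hz1 (Ne.symm hyz)
    have h1 := h.conj_ww hg hz hz1 hw1
    have h2 := h.conj_qq hg hy hy1 hw1Q
    have h3 := h.conj_ww hg hy hy1 ha
    rw [e1] at h1
    rw [e2] at h2 h3
    refine ⟨_, h1, h2, _, h3, fun e => hy1 ?_⟩
    have e3 : w1 * a = a * w1 := by
      calc w1 * a = g⁻¹ * ((g * w1 * g⁻¹) * (g * a * g⁻¹)) * g := by group
        _ = g⁻¹ * ((g * a * g⁻¹) * (g * w1 * g⁻¹)) * g := by rw [e]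
        _ = a * w1 := by group
    rw [← hw1y]
    exact cm_eq_one.mpr e3
  by_contra hcon
  have hpw : R.pi w ≠ 0 := fun e => hcon ((R.pi_ker w hw).mp e)
  let N : AddSubgroup M :=
    { carrier := {m | ∃ v ∈ ww V cf z, (∀ o ∈ OO V cf z, o * v = v * o) ∧ R.pi v = m}
      zero_mem' := ⟨1, one_mem _, fun o _ => by rw [mul_one, one_mul], R.pi_one h⟩
      add_mem' := by
        rintro _ _ ⟨v, hv, hvO, rfl⟩ ⟨v', hv', hvO', rfl⟩
        refine ⟨v * v', mul_mem hv hv', fun o ho => ?_, R.pi_mul v hv v' hv'⟩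
        rw [← mul_assoc, hvO o ho, mul_assoc, hvO' o ho, mul_assoc]
      neg_mem' := by
        rintro _ ⟨v, hv, hvO, rfl⟩
        refine ⟨v⁻¹, inv_mem hv, fun o ho => ?_, R.pi_inv h hv⟩
        exact (show Commute o v from hvO o ho).inv_right }
  have hN : ∀ x : H, ∀ n ∈ N, x • n ∈ N := by
    rintro x _ ⟨v, hv, hvO, rfl⟩
    obtain ⟨c, hc, rfl⟩ := R.phi_surj x
    refine ⟨c * v * c⁻¹, conj_mem_wf hc hv, fun o ho => ?_, (R.act c hc v hv).symm⟩
    have h1 : c⁻¹ * o * c ∈ OO V cf z := conj_mem_of_normalizer' h.cf_norm_OO hc ho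
    have h2 := hvO _ h1
    calc o * (c * v * c⁻¹) = c * ((c⁻¹ * o * c) * v) * c⁻¹ := by group
      _ = c * (v * (c⁻¹ * o * c)) * c⁻¹ := by rw [h2]
      _ = c * v * c⁻¹ * o := by group
  obtain ⟨v, hv, hvO, hvb⟩ := S.irr h hy hy1 hyz N hN (n0 := R.pi w) ⟨w, hw, hwO, rfl⟩ hpw (R.pi b)
  have huO := mem_OO' (p := z) hy hy1 hu huQ
  have h1 := hvO u huO
  rcases (R.pi_eq h hv hb).mp hvb with e | e
  · rw [e] at h1
    exact hub h1
  · apply hub
    have huz := h.cf_comm hz hz1 huQ.1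
    have e1 : b = z * v := by rw [e, ← mul_assoc, h.ln.zz, one_mul]
    rw [e1, ← mul_assoc, huz, mul_assoc, h1, mul_assoc]

end Shp

end module

end Cfsg.Agent.Omega.NO3S.Fit

end

section


/-!
# Text #13963 (helper311), section 4: (S7)

`Shp.sseven` : an element `k` of `C_G(V)` which centralises `I` and with `[W_z ∩ Q_y, k] ≤ ⟨y⟩` acts on `M` as `1` or
as `a`.
-/

set_option autoImplicit false
set_option linter.unusedSectionVars false

namespace Cfsg.Agent.Omega.NO3S.Fit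

open Subgroup Cfsg Cfsg.Agent.ZN Cfsg.Agent.MinSimple.Geo Cfsg.Agent.Omega.CaseL
open Cfsg.Agent.Omega.NO3S.Fit.PlaneForm (cm cm_eq_one cm_inv)
open Cfsg.Agent.Omega.NO3S.Fit.Abs (br fx cx)
open Cfsg.Agent.ZN.Block (conj_mem_of_normalizer conj_mem_of_normalizer' le_normalizer_of_forall
  mem_normalizer_of)

universe u

variable {G : Type u} [Group G]

section module

variable {T V : Subgroup G} {z : G} {cf : G → Subgroup G} {M H : Type u} [AddCommGroup M] [Group H]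
  [DistribMulAction H M] {R : MRep V cf z M H} {y : G} {P : Subgroup H} {d : H}

namespace Shp

variable [Finite G] (S : Shp R y P d) (h : Fam T V z cf) (hy : y ∈ V) (hy1 : y ≠ 1) (hyz : y ≠ z)
include S h hy hy1 hyz

/-- (S7), module form: `κ` fixes `C_M(α)`, `κ m - m ∈ {0, v0}` whenever `α m - m ∈ {0, v0}`. -/
theorem seven_aux [FaithfulSMul H M] {a : G} (ha : a ∈ ww V cf y) (haQ : a ∉ qq V cf z) {κ : H}
    (h1 : ∀ m : M, R.phi a • m = m → κ • m = m)
    (h2 : ∀ m : M, (R.phi a • m - m = 0 ∨ R.phi a • m - m = R.pi y) → κ • m = m)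
    (h3 : ∀ m m' : M, ¬ (R.phi a • m - m = 0 ∨ R.phi a • m - m = R.pi y) →
      ¬ (R.phi a • m' - m' = 0 ∨ R.phi a • m' - m' = R.pi y) →
      (R.phi a • (m + m') - (m + m') = 0 ∨ R.phi a • (m + m') - (m + m') = R.pi y)) : κ = 1 := by
  have hz := h.ln.z_mem
  have hz1 := h.ln.z_ne
  have hfM := S.finM
  have two := R.two h
  have hk := S.one1 h hy hy1 hyz
  have haa := S.aa h hy hy1 hyz ha haQ
  have hαv : R.phi a • R.pi y = R.pi y := S.fx_of_jj h hy hy1 hyz ha haQ (h.V_le_jj hy)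
  set α := R.phi a with hα
  have sub_eq : ∀ m n : M, m - n = m + n := Abs.sub_eq two
  have hκv : κ • R.pi y = R.pi y := h1 _ hαv
  have hκα : κ * α = α * κ := R.cen_A h hk hy hy1 hyz ha hκv
  by_contra hκ
  obtain ⟨m2, hm2⟩ : ∃ m : M, κ • m ≠ m := by
    by_contra hcon
    push Not at hcon
    exact hκ (FaithfulSMul.eq_of_smul_eq_smul (α := M) fun m => by rw [hcon m, one_smul])
  have hm2P : ¬ (α • m2 - m2 = 0 ∨ α • m2 - m2 = R.pi y) := fun e => hm2 (h2 m2 e)
  set n := κ • m2 - m2 with hn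
  have hn0 : n ≠ 0 := fun e => hm2 (sub_eq_zero.mp e)
  -- (v)
  have h5 : ∀ m : M, ¬ (α • m - m = 0 ∨ α • m - m = R.pi y) → κ • m = m + n := by
    intro m hm
    have e := h2 _ (h3 m m2 hm hm2P)
    rw [smul_add] at e
    have e1 : κ • m2 = m2 + n := by rw [hn]; abel
    rw [e1] at e
    have e2 : κ • m + n = m := by
      have : κ • m + (m2 + n) = (κ • m + n) + m2 := by abel
      rw [this] at e
      exact add_right_cancel e
    calc κ • m = κ • m + n + n := by rw [add_assoc, two, add_zero]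
      _ = m + n := by rw [e2]
  have h5' : ∀ m : M, κ • m = m ∨ κ • m = m + n := by
    intro m
    by_cases hm : α • m - m = 0 ∨ α • m - m = R.pi y
    · exact Or.inl (h2 m hm)
    · exact Or.inr (h5 m hm)
  have hκn : κ • n = n := by
    refine h2 n ?_
    have e : n = m2 + κ • m2 := by rw [hn, sub_eq, add_comm]
    rw [e]
    refine h3 _ _ hm2P fun e' => hm2P ?_
    have e2 : α • κ • m2 - κ • m2 = κ • (α • m2 - m2) := by
      rw [smul_sub, ← mul_smul, ← hκα, mul_smul]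
    rw [e2] at e'
    rcases e' with e' | e'
    · left
      have := congrArg (κ⁻¹ • ·) e'
      simpa using this
    · right
      have := congrArg (κ⁻¹ • ·) e'
      simp only [inv_smul_smul] at this
      rw [this]
      exact inv_smul_eq_iff.mpr hκv.symm
  have hκκ : κ * κ = 1 := by
    refine FaithfulSMul.eq_of_smul_eq_smul (α := M) fun m => ?_
    rw [one_smul, mul_smul]
    rcases h5' m with e | e
    · rw [e, e]
    · rw [e, smul_add, e, hκn, add_assoc, two, add_zero]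
  have hκi : κ⁻¹ = κ := inv_eq_of_mul_eq_one_left hκκ
  have hκd : d * κ ≠ κ * d := by
    intro e
    have e1 : d • n = κ • (d • m2) - d • m2 := by
      rw [hn, smul_sub, ← mul_smul, e, mul_smul]
    rcases h5' (d • m2) with e2 | e2
    · rw [e2, sub_self] at e1
      apply hn0
      have := congrArg (d⁻¹ • ·) e1
      simpa using this
    · rw [e2, add_sub_cancel_left] at e1
      exact hn0 (S.fd n e1)
  set p := d * κ * d⁻¹ * κ⁻¹ with hp
  have hpP : p ∈ P := by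
    have e : p = d * (κ * d⁻¹ * κ⁻¹) := by rw [hp]; group
    rw [e]
    exact mul_mem S.dP (S.nor κ _ (inv_mem S.dP))
  have hp1 : p ≠ 1 := by
    intro e
    apply hκd
    have e1 : d * κ = p * (κ * d) := by rw [hp]; group
    rw [e1, e, one_mul]
  have hpo := S.odd_of hpP
  have hpi : κ * p * κ⁻¹ = p⁻¹ := by
    have e1 : κ * p * κ⁻¹ = κ * d * κ * d⁻¹ * (κ * κ)⁻¹ := by rw [hp]; group
    have e2 : p⁻¹ = κ * d * κ⁻¹ * d⁻¹ := by rw [hp]; group
    rw [e1, e2, hκκ, hκi]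
    group
  -- (ix)
  have h9 : ∀ m : M, p • m - m = 0 ∨ p • m - m = n ∨ p • m - m = d • n ∨ p • m - m = n + d • n := by
    intro m
    have e1 : ∀ m' : M, d • κ • d⁻¹ • m' = m' ∨ d • κ • d⁻¹ • m' = m' + d • n := by
      intro m'
      rcases h5' (d⁻¹ • m') with e | e
      · left; rw [e, smul_inv_smul]
      · right; rw [e, smul_add, smul_inv_smul]
    have e2 : p • m = d • κ • d⁻¹ • κ • m := by
      rw [hp, hκi]
      simp only [mul_smul]
    rcases h5' m with e | e <;> rcases e1 (κ • m) with e3 | e3 <;> rw [e2, e3, e]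
    · left; abel
    · right; right; left; abel
    · right; left; abel
    · right; right; right; abel
  have hbr : ∀ m ∈ br M p, m = 0 ∨ m = n ∨ m = d • n ∨ m = n + d • n := by
    rintro _ ⟨m, rfl⟩
    exact h9 m
  -- (x)
  have hnbr : n ∈ br M p := by
    obtain ⟨u, hu, hu0⟩ : ∃ u ∈ br M p, u ≠ 0 := by
      by_contra hcon
      push Not at hcon
      refine Abs.ne_zero_of_br (M := M) hp1 ?_
      rw [eq_bot_iff]
      intro m hm
      rw [AddSubgroup.mem_bot]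
      exact hcon m hm
    have hpu : p • u ∈ br M p := Abs.smul_mem_br_self hu
    have hpu1 : p • u ≠ u := fun e => hu0 (Abs.br_inf_fx two hpo hu e)
    have hpu0 : p • u ≠ 0 := fun e => hu0 (by
      have := congrArg (p⁻¹ • ·) e
      simpa using this)
    have hs : u + p • u ∈ br M p := add_mem hu hpu
    rcases hbr u hu with e | e | e | e
    · exact absurd e hu0
    · rw [← e]; exact hu
    · rcases hbr _ hpu with e' | e' | e' | e'
      · exact absurd e' hpu0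
      · rw [← e']; exact hpu
      · exact absurd (e'.trans e.symm) hpu1
      · have : u + p • u = n := by
          rw [e', e]
          calc d • n + (n + d • n) = n + (d • n + d • n) := by abel
            _ = n := by rw [two, add_zero]
        rw [← this]; exact hs
    · rcases hbr _ hpu with e' | e' | e' | e'
      · exact absurd e' hpu0
      · rw [← e']; exact hpu
      · have : u + p • u = n := by
          rw [e', e]
          calc n + d • n + d • n = n + (d • n + d • n) := by abel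
            _ = n := by rw [two, add_zero]
        rw [← this]; exact hs
      · exact absurd (e'.trans e.symm) hpu1
  have hnfx : p • n ≠ n := fun e => hn0 (Abs.br_inf_fx two hpo hnbr e)
  -- (xii)
  have h12 : ∀ m : M, p • m = m → (α • m - m = 0 ∨ α • m - m = R.pi y) := by
    intro m hm
    by_contra hcon
    have e1 := h5 m hcon
    have e2 : p • κ • m = κ • m := Abs.smul_mem_fx_of_inv hpi hm
    rw [e1, smul_add, hm] at e2
    exact hnfx (add_left_cancel e2)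
  have hpv : p • R.pi y ≠ R.pi y := by
    intro e
    have e1 := R.cen_A h hk hy hy1 hyz ha e
    have e2 := S.inv a ha haQ p hpP
    rw [← hα, mul_assoc] at e2
    have e3 : α * (p * α⁻¹) = p := by
      have : p * α⁻¹ = α⁻¹ * p := by
        rw [mul_inv_eq_iff_eq_mul, mul_assoc, e1, inv_mul_cancel_left]
      rw [this, mul_inv_cancel_left]
    rw [e3] at e2
    have e4 : p * p = 1 := by
      nth_rewrite 1 [e2]
      exact inv_mul_cancel p
    apply hp1
    refine Abs.eq_one_of_fix (M := M) two hpo fun m hm => ?_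
    exact Abs.fix_of_sq hpo (by rw [← mul_smul, e4, one_smul])
  have h14 : fx M p ≤ fx M α := by
    intro m hm
    have e1 : p • α • m = α • m := Abs.smul_mem_fx_of_inv (S.inv a ha haQ p hpP) hm
    have e2 : p • (α • m - m) = α • m - m := by rw [smul_sub, e1, show p • m = m from hm]
    rcases h12 m hm with e | e
    · exact sub_eq_zero.mp e
    · rw [e] at e2
      exact absurd e2 hpv
  have hcard : 4 ≤ Nat.card (fx M p) := by
    have h16 : Nat.card M ≤ Nat.card (br M p) * Nat.card (fx M p) := by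
      rw [← Nat.card_prod]
      refine Nat.card_le_card_of_surjective (fun q : br M p × fx M p => (q.1 : M) + q.2) ?_
      intro m
      obtain ⟨u, hu, v, hv, e⟩ := Abs.exists_decomp two hpo m
      exact ⟨(⟨u, hu⟩, ⟨v, hv⟩), e⟩
    have h17 : Nat.card (br M p) ≤ 4 := by
      classical
      have hsub : ((br M p : AddSubgroup M) : Set M) ⊆ (({0, n, d • n, n + d • n} : Finset M) : Set M) := by
        intro m hm
        have := hbr m hm
        simpa using this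
      have h18 := Set.ncard_le_ncard hsub (Finset.finite_toSet _)
      rw [Set.ncard_coe_finset] at h18
      have h19 : Set.ncard ((br M p : AddSubgroup M) : Set M) = Nat.card (br M p) := (Nat.card_coe_set_eq _).symm
      rw [h19] at h18
      exact h18.trans Finset.card_le_four
    rw [S.card] at h16
    have h20 : Nat.card (br M p) * Nat.card (fx M p) ≤ 4 * Nat.card (fx M p) := Nat.mul_le_mul_right _ h17
    omega
  have heq : fx M p = fx M α := by
    refine AddSubgroup.eq_of_le_of_card_ge h14 ?_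
    rw [S.card_fx h hy hy1 hyz ha haQ]
    exact hcard
  have : R.pi y ∈ fx M p := by rw [heq]; exact hαv
  exact hpv this

/-- **(S7)** -/
theorem sseven [FaithfulSMul H M] {a : G} (ha : a ∈ ww V cf y) (haQ : a ∉ qq V cf z) {k : G}
    (hkV : k ∈ centralizer (V : Set G)) (hkj : ∀ e ∈ jj V cf, k * e = e * k)
    (hk1 : ∀ w ∈ ww V cf z, w ∈ qq V cf y → cm k w = 1 ∨ cm k w = y) :
    k ∈ qq V cf z ∨ k * a ∈ qq V cf z := by
  have hz := h.ln.z_mem
  have hz1 := h.ln.z_ne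
  have two := R.two h
  have hk := S.one1 h hy hy1 hyz
  have hac := h.ww_le_cf' hy hy1 hz hz1 ha
  have hkc := h.cent_le_cf hz hz1 hkV
  obtain ⟨w0, hw0, hw0V⟩ := S.exists_w0 h hy hy1 hyz ha haQ
  obtain ⟨w1, hw1, hw1y⟩ := h.pl_one hk hy hy1 hyz ha haQ hw0 hw0V
  have hαv : R.phi a • R.pi y = R.pi y := S.fx_of_jj h hy hy1 hyz ha haQ (h.V_le_jj hy)
  have haa := S.aa h hy hy1 hyz ha haQ
  -- membership in `M¹`
  have hM1 : ∀ w ∈ ww V cf z, (R.phi a • R.pi w - R.pi w = 0 ∨ R.phi a • R.pi w - R.pi w = R.pi y) ↔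
      w ∈ qq V cf y := by
    intro w hw
    rw [h.mem_qq_iff hk hy hy1 hyz ha hw0 hw0V hw, R.comm_eq h hac hw]
    have h1 : cm a w ∈ ww V cf z := (h.comm_mem hy hy1 hz hz1 ha hw).2
    rw [← cm_inv, inv_mem_iff]
    exact ⟨fun e => S.mem_V_of_pi h hy hy1 hyz ha haQ h1 e, fun e => S.pi_V h hy hy1 hyz ha haQ e⟩
  have hκ1 : ∀ m : M, R.phi a • m = m → R.phi k • m = m := by
    intro m hm
    obtain ⟨w, hw, rfl⟩ := R.pi_surj m
    have hwj := S.mem_jj_of_fx h hy hy1 hyz ha haQ hw hm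
    rw [R.act k hkc w hw, conj_eq_of_comm (hkj w hwj)]
  have hκ2 : ∀ m : M, (R.phi a • m - m = 0 ∨ R.phi a • m - m = R.pi y) →
      R.phi k • m = m ∨ R.phi k • m = m + R.pi y := by
    intro m hm
    obtain ⟨w, hw, rfl⟩ := R.pi_surj m
    have hwQ := (hM1 w hw).mp hm
    have e : R.phi k • R.pi w = R.pi (cm k w) + R.pi w := by
      have := R.comm_eq h hkc hw
      change R.phi k • R.pi w - R.pi w = R.pi (cm k w) at this
      rw [← this]; abel
    rcases hk1 w hw hwQ with e1 | e1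
    · left; rw [e, e1, R.pi_one h, zero_add]
    · right; rw [e, e1, add_comm]
  have h3 : ∀ m m' : M, ¬ (R.phi a • m - m = 0 ∨ R.phi a • m - m = R.pi y) →
      ¬ (R.phi a • m' - m' = 0 ∨ R.phi a • m' - m' = R.pi y) →
      (R.phi a • (m + m') - (m + m') = 0 ∨ R.phi a • (m + m') - (m + m') = R.pi y) := by
    intro m m' hm hm'
    obtain ⟨w, hw, rfl⟩ := R.pi_surj m
    obtain ⟨w', hw', rfl⟩ := R.pi_surj m'
    rw [hM1 w hw] at hm
    rw [hM1 w' hw'] at hm'
    rw [← R.pi_mul w hw w' hw', hM1 _ (mul_mem hw hw')]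
    exact hk z hz hz1 y hy hy1 hyz w hw w' hw' hm hm'
  -- `m1 ∈ M¹` with `α m1 = m1 + v0`
  have hm1 : R.phi a • R.pi w1 = R.pi w1 + R.pi y := by
    have e1 : R.phi a • R.pi w1 - R.pi w1 = R.pi (cm a w1) := R.comm_eq h hac hw1
    rw [← cm_inv, hw1y, h.ln.inv_eq hy] at e1
    rw [← e1]; abel
  have hm1P : R.phi a • R.pi w1 - R.pi w1 = 0 ∨ R.phi a • R.pi w1 - R.pi w1 = R.pi y := by
    right; rw [hm1, add_sub_cancel_left]
  -- the element `κ'`
  have fin : ∀ κ : H, (∀ m : M, R.phi a • m = m → κ • m = m) → κ • R.pi w1 = R.pi w1 → κ = 1 := by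
    intro κ hκ hκw
    refine S.seven_aux h hy hy1 hyz ha haQ hκ (fun m hm => ?_) h3
    rcases hm with e | e
    · exact hκ m (sub_eq_zero.mp e)
    · have e1 : R.phi a • (m - R.pi w1) = m - R.pi w1 := by
        have : R.phi a • m = m + R.pi y := by rw [← e]; abel
        rw [smul_sub, this, hm1]; abel
      have e2 := hκ _ e1
      rw [smul_sub, hκw] at e2
      exact sub_left_injective e2
  rcases hκ2 _ hm1P with e | e
  · left
    rw [← R.phi_ker k hkc]
    exact fin _ hκ1 e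
  · right
    rw [← R.phi_ker _ (mul_mem hkc hac), R.phi_mul k hkc a hac]
    refine fin _ (fun m hm => by rw [mul_smul, hm, hκ1 m hm]) ?_
    rw [mul_smul, hm1, smul_add, e, hκ1 _ hαv, add_assoc, two, add_zero]

end Shp

end module

end Cfsg.Agent.Omega.NO3S.Fit

end

section


/-!
# Text #13963 (helper311), section 4: the facts of the module in the language of the group

For `D : Dat T V z cf y`.
-/

set_option autoImplicit false
set_option linter.unusedSectionVars false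

namespace Cfsg.Agent.Omega.NO3S.Fit

open Subgroup Cfsg Cfsg.Agent.ZN Cfsg.Agent.MinSimple.Geo Cfsg.Agent.Omega.CaseL
open Cfsg.Agent.Omega.NO3S.Fit.PlaneForm (cm cm_eq_one cm_inv)
open Cfsg.Agent.Omega.NO3S.Fit.Abs (br fx cx)
open Cfsg.Agent.ZN.Block (conj_mem_of_normalizer conj_mem_of_normalizer' le_normalizer_of_forall
  mem_normalizer_of)

universe u

/-! ### Duality -/

/-- A set of functionals without common zeros, closed under addition, is everything. -/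
theorem dual_full {M : Type*} [AddCommGroup M] [Finite M] (two : ∀ m : M, m + m = 0)
    (Φ : AddSubgroup (M →+ ZMod 2)) (hΦ : ∀ m : M, (∀ f ∈ Φ, f m = 0) → m = 0) (g : M →+ ZMod 2) : g ∈ Φ := by
  let _ : Module (ZMod 2) M := AddCommGroup.zmodModule (n := 2) fun x => by
    rw [two_nsmul]; exact two x
  have hfin : Module.Finite (ZMod 2) M := Module.Finite.of_finite
  let W : Submodule (ZMod 2) (Module.Dual (ZMod 2) M) :=
    { carrier := {f | (f : M →+ ZMod 2) ∈ Φ}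
      add_mem' := fun {a b} ha hb => by
        have ha' : (a : M →+ ZMod 2) ∈ Φ := ha
        have hb' : (b : M →+ ZMod 2) ∈ Φ := hb
        have := add_mem ha' hb'
        exact this
      zero_mem' := by
        have : (0 : M →+ ZMod 2) ∈ Φ := zero_mem Φ
        exact this
      smul_mem' := by
        intro c f hf
        have hc : c = 0 ∨ c = 1 := by
          revert c; decide
        rcases hc with rfl | rfl
        · rw [zero_smul]
          exact zero_mem Φ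
        · rw [one_smul]
          exact hf }
  have h1 : W.dualCoannihilator = ⊥ := by
    rw [eq_bot_iff]
    intro m hm
    rw [Submodule.mem_dualCoannihilator] at hm
    rw [Submodule.mem_bot]
    refine hΦ m fun f hf => ?_
    exact hm (f.toZModLinearMap 2) hf
  have h2 : W = ⊤ := by
    rw [← Subspace.dualCoannihilator_dualAnnihilator_eq (W := W), h1, Submodule.dualAnnihilator_bot]
  have h3 : g.toZModLinearMap 2 ∈ W := by rw [h2]; trivial
  exact h3

variable {G : Type u} [Group G]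

section fam

variable {T V : Subgroup G} {z : G} {cf : G → Subgroup G}

/-- `[q, w] ∈ {1, p}` for `q ∈ Q_p`, `w ∈ W_p` -/
theorem Fam.cm_qw (h : Fam T V z cf) {p w k : G} (hp : p ∈ V) (hw : w ∈ ww V cf p)
    (hk : k ∈ qq V cf p) : cm k w = 1 ∨ cm k w = p := by
  rcases h.qq_cases hp hk hw with e1 | e1
  · exact Or.inl (cm_eq_one.mpr (comm_of_conj_eq e1))
  · right
    unfold cm
    rw [e1, mul_assoc, mul_inv_cancel, mul_one]

/-- `Q_p / K_p` is abelian. -/
theorem Fam.cm_qq_kk (h : Fam T V z cf) {p q q' : G} (hp : p ∈ V) (hp1 : p ≠ 1) (hq : q ∈ qq V cf p)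
    (hq' : q' ∈ qq V cf p) : cm q q' ∈ kk V cf p := by
  rw [mem_centralizer_iff]
  intro w hw
  have hpq := h.qq_p hq
  have hpq' := h.qq_p hq'
  have hpi : p * p = 1 := h.ln.sq p hp
  have key : ∀ k ∈ qq V cf p, ∀ v ∈ ww V cf p, k * v * k⁻¹ = v ∨ k * v * k⁻¹ = p * v :=
    fun k hk v hv => h.qq_cases hp hk hv
  have hconj : ∀ k : G, k * p = p * k → ∀ v, k * (p * v) * k⁻¹ = p * (k * v * k⁻¹) := by
    intro k hk v
    rw [← mul_assoc, hk]; group
  have h3 : ∀ v ∈ ww V cf p, q * q' * v * (q * q')⁻¹ = q' * q * v * (q' * q)⁻¹ := by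
    intro w hw
    have h1 : q * (q' * w * q'⁻¹) * q⁻¹ = q' * (q * w * q⁻¹) * q'⁻¹ := by
      rcases key q hq w hw with e | e <;> rcases key q' hq' w hw with e' | e'
      · rw [e, e', e]
      · rw [e, e', hconj q hpq, e]
      · rw [e, hconj q' hpq', e', e]
      · rw [e, e', hconj q hpq, e, hconj q' hpq', e']
    have e1 : q * q' * w * (q * q')⁻¹ = q * (q' * w * q'⁻¹) * q⁻¹ := by group
    have e2 : q' * q * w * (q' * q)⁻¹ = q' * (q * w * q⁻¹) * q'⁻¹ := by group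
    rw [e1, e2, h1]
  have e3 : cm q q' = q * q' * (q' * q)⁻¹ := by unfold cm; group
  rw [e3]
  have hw' : (q' * q)⁻¹ * w * (q' * q) ∈ ww V cf p :=
    conj_mem_of_normalizer' h.cf_norm (mul_mem hq'.1 hq.1) hw
  have h4 := h3 _ hw'
  set v := (q' * q)⁻¹ * w * (q' * q) with hv
  have h5 : q' * q * v * (q' * q)⁻¹ = w := by rw [hv]; group
  rw [h5] at h4
  calc w * (q * q' * (q' * q)⁻¹) = (q * q' * v * (q * q')⁻¹) * (q * q' * (q' * q)⁻¹) := by rw [h4]
    _ = q * q' * v * (q' * q)⁻¹ := by group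
    _ = q * q' * (q' * q)⁻¹ * (q' * q * v * (q' * q)⁻¹) := by group
    _ = q * q' * (q' * q)⁻¹ * w := by rw [h5]

end fam

section module

variable {T V : Subgroup G} {z : G} {cf : G → Subgroup G} {M H : Type u} [AddCommGroup M] [Group H]
  [DistribMulAction H M] {R : MRep V cf z M H} {y : G} {P : Subgroup H} {d : H}

open Classical in
/-- the functional of `q ∈ Q_z` -/
noncomputable def MRep.fn (R : MRep V cf z M H) (h : Fam T V z cf) {q : G} (hq : q ∈ qq V cf z) : M →+ ZMod 2 where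
  toFun m := if ∃ w ∈ ww V cf z, R.pi w = m ∧ cm q w = z then 1 else 0
  map_zero' := by
    rw [if_neg]
    rintro ⟨w, hw, hw0, hwz⟩
    rcases (R.pi_ker w hw).mp hw0 with e | e
    · rw [e] at hwz
      apply h.ln.z_ne
      rw [← hwz]; unfold cm; group
    · rw [e, cm_eq_one.mpr (h.qq_p hq)] at hwz
      exact h.ln.z_ne hwz.symm
  map_add' := by
    have key : ∀ w ∈ ww V cf z, (∃ w' ∈ ww V cf z, R.pi w' = R.pi w ∧ cm q w' = z) ↔ cm q w = z := by
      intro w hw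
      refine ⟨?_, fun e => ⟨w, hw, rfl, e⟩⟩
      rintro ⟨w', hw', e1, e2⟩
      rcases (R.pi_eq h hw' hw).mp e1 with e | e
      · rwa [e] at e2
      · rw [e, cm_mul_right, cm_eq_one.mpr (h.qq_p hq), one_mul] at e2
        have h1 : z * cm q w = cm q w * z := by
          rcases h.cm_qw h.ln.z_mem hw hq with e3 | e3 <;> rw [e3]
          rw [mul_one, one_mul]
        rwa [h1, mul_inv_cancel_right] at e2
    intro m m'
    obtain ⟨w, hw, rfl⟩ := R.pi_surj m
    obtain ⟨w', hw', rfl⟩ := R.pi_surj m'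
    rw [← R.pi_mul w hw w' hw']
    simp only [key w hw, key w' hw', key _ (mul_mem hw hw')]
    have e0 : cm q (w * w') = cm q w * cm q w' := by
      rw [cm_mul_right]
      congr 1
      rcases h.cm_qw h.ln.z_mem hw' hq with e3 | e3
      · rw [e3]; group
      · rw [e3, h.ab w hw z h.z_mem_ww, mul_inv_cancel_right]
    rw [e0]
    have hz1 : (1 : G) ≠ z := Ne.symm h.ln.z_ne
    rcases h.cm_qw h.ln.z_mem hw hq with e1 | e1 <;> rcases h.cm_qw h.ln.z_mem hw' hq with e2 | e2 <;>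
      rw [e1, e2]
    · simp [hz1]
    · simp [hz1]
    · simp [hz1]
    · have hzz : z * z ≠ z := by rw [h.ln.zz]; exact hz1
      simp only [hzz, if_true, if_false]
      decide

theorem MRep.fn_pi (R : MRep V cf z M H) (h : Fam T V z cf) {q : G} (hq : q ∈ qq V cf z) {w : G}
    (hw : w ∈ ww V cf z) : R.fn h hq (R.pi w) = 0 ↔ cm q w = 1 := by
  classical
  have key : (∃ w' ∈ ww V cf z, R.pi w' = R.pi w ∧ cm q w' = z) ↔ cm q w = z := by
    refine ⟨?_, fun e => ⟨w, hw, rfl, e⟩⟩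
    rintro ⟨w', hw', e1, e2⟩
    rcases (R.pi_eq h hw' hw).mp e1 with e | e
    · rwa [e] at e2
    · rw [e, cm_mul_right, cm_eq_one.mpr (h.qq_p hq), one_mul] at e2
      have h1 : z * cm q w = cm q w * z := by
        rcases h.cm_qw h.ln.z_mem hw hq with e3 | e3 <;> rw [e3]
        rw [mul_one, one_mul]
      rwa [h1, mul_inv_cancel_right] at e2
  have e0 : R.fn h hq (R.pi w) = if cm q w = z then 1 else 0 := by
    change (if ∃ w' ∈ ww V cf z, R.pi w' = R.pi w ∧ cm q w' = z then (1 : ZMod 2) else 0) = _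
    simp only [key]
  rw [e0]
  rcases h.cm_qw h.ln.z_mem hw hq with e | e
  · have hz1 : (1 : G) ≠ z := Ne.symm h.ln.z_ne
    simp [e, hz1]
  · simp [e, h.ln.z_ne]

theorem zmod2_cases (x y : ZMod 2) (h : x = 0 ↔ y = 0) : x = y := by
  revert x y; decide

theorem MRep.fn_mul (R : MRep V cf z M H) (h : Fam T V z cf) {q q' : G} (hq : q ∈ qq V cf z)
    (hq' : q' ∈ qq V cf z) : R.fn h (mul_mem hq hq') = R.fn h hq + R.fn h hq' := by
  ext m
  obtain ⟨w, hw, rfl⟩ := R.pi_surj m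
  apply zmod2_cases
  rw [R.fn_pi h _ hw]
  have e0 : cm (q * q') w = cm q' w * cm q w := by
    rw [cm_mul_left]
    congr 1
    rcases h.cm_qw h.ln.z_mem hw hq' with e3 | e3
    · rw [e3]; group
    · rw [e3, h.qq_p hq, mul_inv_cancel_right]
  have a1 := R.fn_pi h hq hw
  have a2 := R.fn_pi h hq' hw
  rw [AddMonoidHom.add_apply, e0]
  have hz1 : (1 : G) ≠ z := Ne.symm h.ln.z_ne
  rcases h.cm_qw h.ln.z_mem hw hq with e1 | e1 <;> rcases h.cm_qw h.ln.z_mem hw hq' with e2 | e2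
  · rw [a1.mpr e1, a2.mpr e2, e1, e2]; simp
  · have b2 : R.fn h hq' (R.pi w) ≠ 0 := fun e => h.ln.z_ne (e2.symm.trans (a2.mp e))
    rw [a1.mpr e1, e1, e2, zero_add, mul_one]
    exact ⟨fun e => absurd e h.ln.z_ne, fun e => absurd e b2⟩
  · have b1 : R.fn h hq (R.pi w) ≠ 0 := fun e => h.ln.z_ne (e1.symm.trans (a1.mp e))
    rw [a2.mpr e2, e1, e2, add_zero, one_mul]
    exact ⟨fun e => absurd e h.ln.z_ne, fun e => absurd e b1⟩
  · have b1 : R.fn h hq (R.pi w) ≠ 0 := fun e => h.ln.z_ne (e1.symm.trans (a1.mp e))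
    have b2 : R.fn h hq' (R.pi w) ≠ 0 := fun e => h.ln.z_ne (e2.symm.trans (a2.mp e))
    rw [e1, e2, h.ln.zz]
    have : ∀ x y : ZMod 2, x ≠ 0 → y ≠ 0 → x + y = 0 := by decide
    exact ⟨fun _ => this _ _ b1 b2, fun _ => rfl⟩

namespace Shp

variable [Finite G] (S : Shp R y P d) (h : Fam T V z cf) (hy : y ∈ V) (hy1 : y ≠ 1) (hyz : y ≠ z)
include S h hy hy1 hyz

/-- `Q_z = O_z K_z` -/
theorem qq_eq [FaithfulSMul H M] {q : G} (hq : q ∈ qq V cf z) : ∃ o ∈ OO V cf z, o⁻¹ * q ∈ kk V cf z := by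
  have hz := h.ln.z_mem
  have hz1 := h.ln.z_ne
  have hfM := S.finM
  have two := R.two h
  have hOQ := h.OO_le_qq hz hz1
  let Φ : AddSubgroup (M →+ ZMod 2) :=
    { carrier := {f | ∃ o, ∃ ho : o ∈ OO V cf z, R.fn h (hOQ ho) = f}
      add_mem' := by
        rintro _ _ ⟨o, ho, rfl⟩ ⟨o', ho', rfl⟩
        exact ⟨o * o', mul_mem ho ho', R.fn_mul h _ _⟩
      zero_mem' := by
        refine ⟨1, one_mem _, ?_⟩
        ext m
        obtain ⟨w, hw, rfl⟩ := R.pi_surj m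
        rw [(R.fn_pi h _ hw).mpr (by unfold cm; group)]
        rfl
      neg_mem' := by
        rintro _ ⟨o, ho, rfl⟩
        refine ⟨o, ho, ?_⟩
        ext m
        rw [AddMonoidHom.neg_apply]
        generalize R.fn h (hOQ ho) m = x
        revert x; decide }
  have h1 : R.fn h hq ∈ Φ := by
    refine dual_full two Φ (fun m hm => ?_) _
    obtain ⟨w, hw, rfl⟩ := R.pi_surj m
    refine (R.pi_ker w hw).mpr (S.ann h hy hy1 hyz hw fun o ho => ?_)
    exact cm_eq_one.mp ((R.fn_pi h (hOQ ho) hw).mp (hm _ ⟨o, ho, rfl⟩))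
  obtain ⟨o, ho, e⟩ := h1
  refine ⟨o, ho, ?_⟩
  rw [mem_centralizer_iff]
  intro w hw
  have e1 : R.fn h (hOQ ho) (R.pi w) = R.fn h hq (R.pi w) := by rw [e]
  have e2 : cm o w = 1 ↔ cm q w = 1 := by
    rw [← R.fn_pi h (hOQ ho) hw, ← R.fn_pi h hq hw, e1]
  have e3 : o * w * o⁻¹ = q * w * q⁻¹ := by
    have f1 : ∀ x w : G, x * w * x⁻¹ = cm x w * w := by intro x w; unfold cm; group
    rw [f1, f1]
    congr 1
    rcases h.cm_qw hz hw (hOQ ho) with e4 | e4 <;> rcases h.cm_qw hz hw hq with e5 | e5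
    · rw [e4, e5]
    · exact absurd (e5.symm.trans (e2.mp e4)) hz1
    · exact absurd (e4.symm.trans (e2.mpr e5)) hz1
    · rw [e4, e5]
  calc w * (o⁻¹ * q) = o⁻¹ * (o * w * o⁻¹) * q := by group
    _ = o⁻¹ * (q * w * q⁻¹) * q := by rw [e3]
    _ = o⁻¹ * q * w := by group

/-- `O_z` induces the full dual (pairs) -/
theorem dual2 [FaithfulSMul H M] {w v : G} (hw : w ∈ ww V cf z) (hv : v ∈ ww V cf z) (hw1 : w ≠ 1)
    (hwz : w ≠ z) (hwv : w ≠ v) (hwv' : w ≠ z * v) : ∃ o ∈ OO V cf z, cm o v = 1 ∧ cm o w = z := by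
  have hz := h.ln.z_mem
  have hz1 := h.ln.z_ne
  have hOQ := h.OO_le_qq hz hz1
  have ex : ∀ w ∈ ww V cf z, w ≠ 1 → w ≠ z → ∃ o ∈ OO V cf z, cm o w = z := by
    intro w hw hw1 hwz
    by_contra hcon
    push Not at hcon
    rcases S.ann h hy hy1 hyz hw (fun o ho => cm_eq_one.mp ((h.cm_qw hz hw (hOQ ho)).resolve_right (hcon o ho)))
      with e | e
    · exact hw1 e
    · exact hwz e
  have mulR : ∀ o ∈ OO V cf z, ∀ a ∈ ww V cf z, ∀ b ∈ ww V cf z, cm o (a * b) = cm o a * cm o b := by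
    intro o ho a ha b hb
    rw [cm_mul_right]
    congr 1
    rcases h.cm_qw hz hb (hOQ ho) with e3 | e3
    · rw [e3]; group
    · rw [e3, h.ab a ha z h.z_mem_ww, mul_inv_cancel_right]
  have mulL : ∀ o ∈ OO V cf z, ∀ o' ∈ OO V cf z, ∀ b ∈ ww V cf z, cm (o * o') b = cm o' b * cm o b := by
    intro o ho o' ho' b hb
    rw [cm_mul_left]
    congr 1
    rcases h.cm_qw hz hb (hOQ ho') with e3 | e3
    · rw [e3]; group
    · rw [e3, h.qq_p (hOQ ho), mul_inv_cancel_right]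
  obtain ⟨o1, ho1, e1⟩ := ex w hw hw1 hwz
  rcases h.cm_qw hz hv (hOQ ho1) with e2 | e2
  · exact ⟨o1, ho1, e2, e1⟩
  have hvv := h.sqz v hv
  have hwv1 : w * v ≠ 1 := by
    intro e
    apply hwv
    rw [mul_eq_one_iff_eq_inv.mp e, inv_eq_self hvv]
  have hwvz : w * v ≠ z := by
    intro e
    apply hwv'
    rw [← e, mul_assoc, hvv, mul_one]
  obtain ⟨o2, ho2, e3⟩ := ex (w * v) (mul_mem hw hv) hwv1 hwvz
  rw [mulR o2 ho2 w hw v hv] at e3
  rcases h.cm_qw hz hv (hOQ ho2) with e4 | e4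
  · rw [e4, mul_one] at e3
    exact ⟨o2, ho2, e4, e3⟩
  · have e5 : cm o2 w = 1 := by
      rw [e4] at e3
      exact mul_eq_right.mp e3
    refine ⟨o1 * o2, mul_mem ho1 ho2, ?_, ?_⟩
    · rw [mulL o1 ho1 o2 ho2 v hv, e4, e2, h.ln.zz]
    · rw [mulL o1 ho1 o2 ho2 w hw, e5, e1, one_mul]

end Shp

end module

end Cfsg.Agent.Omega.NO3S.Fit

end
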